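import Mathlib
set_option autoImplicit false

namespace Cfsg.Agent.Lib.Helper98.ClassEq

/-- one class -/
lemma arith1 (h m e c : ℕ) (he : e = 1 ∨ e = 2) (hc : 2 ≤ c) (hm : 1 ≤ m)
    (h1 : h = m * e * c) (hs : h = 1 + m * (c - 1)) : m = 1 := by
  obtain ⟨k, rfl⟩ : ∃ k, c = k + 1 := ⟨c - 1, by omega⟩
  simp only [Nat.add_sub_cancel] at hs
  obtain ⟨P, hP⟩ : ∃ P, P = m * k := ⟨_, rfl⟩
  rw [← hP] at hs
  rcases he with rfl | rfl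
  · have : m * 1 * (k + 1) = P + m := by rw [hP]; ring
    omega
  · have : m * 2 * (k + 1) = 2 * (P + m) := by rw [hP]; ring
    omega

/-- two classes, ordered by type -/
lemma arith2_aux (h m1 c1 m2 c2 : ℕ) (hc1 : 2 ≤ c1) (hm1 : 1 ≤ m1)
    (hc2 : 2 ≤ c2) (hm2 : 1 ≤ m2)
    (h1 : h = m1 * c1) (h2 : h = 2 * (m2 * c2))
    (hs : h = 1 + m1 * (c1 - 1) + m2 * (c2 - 1)) : m2 = 1 ∨ h = 12 := by
  obtain ⟨k1, rfl⟩ : ∃ k, c1 = k + 1 := ⟨c1 - 1, by omega⟩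
  obtain ⟨k2, rfl⟩ : ∃ k, c2 = k + 1 := ⟨c2 - 1, by omega⟩
  simp only [Nat.add_sub_cancel] at hs
  obtain ⟨P1, hP1⟩ : ∃ P, P = m1 * k1 := ⟨_, rfl⟩
  obtain ⟨P2, hP2⟩ : ∃ P, P = m2 * k2 := ⟨_, rfl⟩
  rw [← hP1, ← hP2] at hs
  have e1 : m1 * (k1 + 1) = P1 + m1 := by rw [hP1]; ring
  have e2 : m2 * (k2 + 1) = P2 + m2 := by rw [hP2]; ring
  rw [e1] at h1
  rw [e2] at h2
  have hm1' : m1 = 1 + P2 := by omega
  have hP1' : P1 + 1 = P2 + 2 * m2 := by omega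
  by_cases hk1 : k1 = 1
  · left
    rw [hk1, mul_one] at hP1
    omega
  · right
    have hk1' : 2 ≤ k1 := by omega
    have h3 : m1 * 2 ≤ P1 := by rw [hP1]; exact Nat.mul_le_mul_left _ hk1'
    have hk2 : k2 = 1 := by
      by_contra hk2
      have hk2' : 2 ≤ k2 := by omega
      have h4 : m2 * 2 ≤ P2 := by rw [hP2]; exact Nat.mul_le_mul_left _ hk2'
      omega
    rw [hk2, mul_one] at hP2
    have hk13 : k1 < 3 := by
      by_contra hk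
      have hk' : 3 ≤ k1 := by omega
      have h5 : m1 * 3 ≤ P1 := by rw [hP1]; exact Nat.mul_le_mul_left _ hk'
      omega
    have hk12 : k1 = 2 := by omega
    rw [hk12] at hP1
    omega

/-- two classes -/
lemma arith2 (h m1 e1 c1 m2 e2 c2 : ℕ) (he1 : e1 = 1 ∨ e1 = 2) (hc1 : 2 ≤ c1) (hm1 : 1 ≤ m1)
    (he2 : e2 = 1 ∨ e2 = 2) (hc2 : 2 ≤ c2) (hm2 : 1 ≤ m2)
    (h1 : h = m1 * e1 * c1) (h2 : h = m2 * e2 * c2)
    (hs : h = 1 + m1 * (c1 - 1) + m2 * (c2 - 1)) : m1 = 1 ∨ m2 = 1 ∨ h = 12 := by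
  rcases he1 with rfl | rfl <;> rcases he2 with rfl | rfl
  · exfalso
    obtain ⟨k1, rfl⟩ : ∃ k, c1 = k + 1 := ⟨c1 - 1, by omega⟩
    obtain ⟨k2, rfl⟩ : ∃ k, c2 = k + 1 := ⟨c2 - 1, by omega⟩
    simp only [Nat.add_sub_cancel] at hs
    have e1 : m1 * 1 * (k1 + 1) = m1 * k1 + m1 := by ring
    have e2 : m2 * 1 * (k2 + 1) = m2 * k2 + m2 := by ring
    have h3 : m1 * 1 ≤ m1 * k1 := Nat.mul_le_mul_left _ (by omega)
    have h4 : m2 * 1 ≤ m2 * k2 := Nat.mul_le_mul_left _ (by omega)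
    omega
  · rcases arith2_aux h m1 c1 m2 c2 hc1 hm1 hc2 hm2 (by rw [h1]; ring) (by rw [h2]; ring) hs
      with h | h
    · right; left; exact h
    · right; right; exact h
  · rcases arith2_aux h m2 c2 m1 c1 hc2 hm2 hc1 hm1 (by rw [h2]; ring) (by rw [h1]; ring)
      (by rw [hs]; ring) with h | h
    · left; exact h
    · right; right; exact h
  · exfalso
    obtain ⟨k1, rfl⟩ : ∃ k, c1 = k + 1 := ⟨c1 - 1, by omega⟩
    obtain ⟨k2, rfl⟩ : ∃ k, c2 = k + 1 := ⟨c2 - 1, by omega⟩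
    simp only [Nat.add_sub_cancel] at hs
    have e1 : m1 * 2 * (k1 + 1) = 2 * (m1 * k1 + m1) := by ring
    have e2 : m2 * 2 * (k2 + 1) = 2 * (m2 * k2 + m2) := by ring
    omega

/-- three classes, all of type two, the first with `c = 2`, the second with `c = 3` -/
lemma arith3_aux2 (h m1 m2 m3 c3 : ℕ) (hm1 : 1 ≤ m1) (hm2 : 1 ≤ m2) (hm3 : 1 ≤ m3)
    (hc3 : 3 ≤ c3)
    (h1 : h = 4 * m1) (h2 : h = 6 * m2) (h3 : h = 2 * (m3 * c3))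
    (hs : h + 2 = 2 * (m1 + m2 + m3)) : h = 12 ∨ h = 24 ∨ h = 60 := by
  have hc : c3 < 6 := by
    by_contra hc
    have : m3 * 6 ≤ m3 * c3 := Nat.mul_le_mul_left _ (by omega)
    omega
  interval_cases c3 <;> omega

/-- three classes, all of type two, the first with `c = 2` -/
lemma arith3_aux1 (h m1 m2 m3 c2 c3 : ℕ) (hm1 : 1 ≤ m1) (hm2 : 1 ≤ m2) (hm3 : 1 ≤ m3)
    (hc2 : 2 ≤ c2) (hc3 : 2 ≤ c3)
    (h1 : h = 4 * m1) (h2 : h = 2 * (m2 * c2)) (h3 : h = 2 * (m3 * c3))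
    (hs : h + 2 = 2 * (m1 + m2 + m3)) : m2 = 1 ∨ m3 = 1 ∨ h = 12 ∨ h = 24 ∨ h = 60 := by
  by_cases h22 : c2 = 2
  · rw [h22] at h2; right; left; omega
  by_cases h32 : c3 = 2
  · rw [h32] at h3; left; omega
  by_cases h23 : c2 = 3
  · rw [h23] at h2
    right; right
    exact arith3_aux2 h m1 m2 m3 c3 hm1 hm2 hm3 (by omega) h1 (by omega) h3 hs
  by_cases h33 : c3 = 3
  · rw [h33] at h3
    right; right
    exact arith3_aux2 h m1 m3 m2 c2 hm1 hm3 hm2 (by omega) h1 (by omega) h2 (by omega)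
  exfalso
  have : m2 * 4 ≤ m2 * c2 := Nat.mul_le_mul_left _ (by omega)
  have : m3 * 4 ≤ m3 * c3 := Nat.mul_le_mul_left _ (by omega)
  omega

/-- three classes -/
lemma arith3 (h m1 e1 c1 m2 e2 c2 m3 e3 c3 : ℕ) (he1 : e1 = 1 ∨ e1 = 2) (hc1 : 2 ≤ c1)
    (hm1 : 1 ≤ m1) (he2 : e2 = 1 ∨ e2 = 2) (hc2 : 2 ≤ c2) (hm2 : 1 ≤ m2)
    (he3 : e3 = 1 ∨ e3 = 2) (hc3 : 2 ≤ c3) (hm3 : 1 ≤ m3)
    (h1 : h = m1 * e1 * c1) (h2 : h = m2 * e2 * c2) (h3 : h = m3 * e3 * c3)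
    (hs : h = 1 + m1 * (c1 - 1) + m2 * (c2 - 1) + m3 * (c3 - 1)) :
    m1 = 1 ∨ m2 = 1 ∨ m3 = 1 ∨ h = 12 ∨ h = 24 ∨ h = 60 := by
  obtain ⟨k1, hk1⟩ : ∃ k, c1 = k + 1 := ⟨c1 - 1, by omega⟩
  obtain ⟨k2, hk2⟩ : ∃ k, c2 = k + 1 := ⟨c2 - 1, by omega⟩
  obtain ⟨k3, hk3⟩ : ∃ k, c3 = k + 1 := ⟨c3 - 1, by omega⟩
  have q1 : m1 * (c1 - 1) = m1 * c1 - m1 := Nat.mul_sub_one m1 c1
  have q2 : m2 * (c2 - 1) = m2 * c2 - m2 := Nat.mul_sub_one m2 c2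
  have q3 : m3 * (c3 - 1) = m3 * c3 - m3 := Nat.mul_sub_one m3 c3
  have p1 : m1 * 2 ≤ m1 * c1 := Nat.mul_le_mul_left _ hc1
  have p2 : m2 * 2 ≤ m2 * c2 := Nat.mul_le_mul_left _ hc2
  have p3 : m3 * 2 ≤ m3 * c3 := Nat.mul_le_mul_left _ hc3
  have r1 : m1 * e1 * c1 = e1 * (m1 * c1) := by ring
  have r2 : m2 * e2 * c2 = e2 * (m2 * c2) := by ring
  have r3 : m3 * e3 * c3 = e3 * (m3 * c3) := by ring
  rw [r1] at h1
  rw [r2] at h2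
  rw [r3] at h3
  rw [q1, q2, q3] at hs
  rcases he1 with rfl | rfl <;> rcases he2 with rfl | rfl <;> rcases he3 with rfl | rfl <;>
    try (exfalso; omega)
  -- all of type two
  have hs' : h + 2 = 2 * (m1 + m2 + m3) := by omega
  by_cases a1 : c1 = 2
  · rw [a1] at h1
    rcases arith3_aux1 h m1 m2 m3 c2 c3 hm1 hm2 hm3 hc2 hc3 (by omega) h2 h3 hs' with h | h | h
    · right; left; exact h
    · right; right; left; exact h
    · right; right; right; exact h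
  by_cases a2 : c2 = 2
  · rw [a2] at h2
    rcases arith3_aux1 h m2 m1 m3 c1 c3 hm2 hm1 hm3 hc1 hc3 (by omega) h1 h3 (by omega)
      with h | h | h
    · left; exact h
    · right; right; left; exact h
    · right; right; right; exact h
  by_cases a3 : c3 = 2
  · rw [a3] at h3
    rcases arith3_aux1 h m3 m1 m2 c1 c2 hm3 hm1 hm2 hc1 hc2 (by omega) h1 h2 (by omega)
      with h | h | h
    · left; exact h
    · right; left; exact h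
    · right; right; right; exact h
  exfalso
  have : m1 * 3 ≤ m1 * c1 := Nat.mul_le_mul_left _ (by omega)
  have : m2 * 3 ≤ m2 * c2 := Nat.mul_le_mul_left _ (by omega)
  have : m3 * 3 ≤ m3 * c3 := Nat.mul_le_mul_left _ (by omega)
  omega

/-- four classes are impossible -/
lemma arith4 (h m1 e1 c1 m2 e2 c2 m3 e3 c3 m4 e4 c4 : ℕ) (he1 : e1 = 1 ∨ e1 = 2) (hc1 : 2 ≤ c1)
    (he2 : e2 = 1 ∨ e2 = 2) (hc2 : 2 ≤ c2)
    (he3 : e3 = 1 ∨ e3 = 2) (hc3 : 2 ≤ c3)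
    (he4 : e4 = 1 ∨ e4 = 2) (hc4 : 2 ≤ c4)
    (h1 : h = m1 * e1 * c1) (h2 : h = m2 * e2 * c2) (h3 : h = m3 * e3 * c3)
    (h4 : h = m4 * e4 * c4)
    (hs : 1 + m1 * (c1 - 1) + m2 * (c2 - 1) + m3 * (c3 - 1) + m4 * (c4 - 1) ≤ h) : False := by
  have q1 : m1 * (c1 - 1) = m1 * c1 - m1 := Nat.mul_sub_one m1 c1
  have q2 : m2 * (c2 - 1) = m2 * c2 - m2 := Nat.mul_sub_one m2 c2
  have q3 : m3 * (c3 - 1) = m3 * c3 - m3 := Nat.mul_sub_one m3 c3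
  have q4 : m4 * (c4 - 1) = m4 * c4 - m4 := Nat.mul_sub_one m4 c4
  have p1 : m1 * 2 ≤ m1 * c1 := Nat.mul_le_mul_left _ hc1
  have p2 : m2 * 2 ≤ m2 * c2 := Nat.mul_le_mul_left _ hc2
  have p3 : m3 * 2 ≤ m3 * c3 := Nat.mul_le_mul_left _ hc3
  have p4 : m4 * 2 ≤ m4 * c4 := Nat.mul_le_mul_left _ hc4
  have r1 : m1 * e1 * c1 = e1 * (m1 * c1) := by ring
  have r2 : m2 * e2 * c2 = e2 * (m2 * c2) := by ring
  have r3 : m3 * e3 * c3 = e3 * (m3 * c3) := by ring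
  have r4 : m4 * e4 * c4 = e4 * (m4 * c4) := by ring
  rw [r1] at h1
  rw [r2] at h2
  rw [r3] at h3
  rw [r4] at h4
  rw [q1, q2, q3, q4] at hs
  rcases he1 with rfl | rfl <;> rcases he2 with rfl | rfl <;> rcases he3 with rfl | rfl <;>
    rcases he4 with rfl | rfl <;> omega

end Cfsg.Agent.Lib.Helper98.ClassEq
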