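import Mathlib
import Cfsg.Agent.Lib.Helper98.ClassEqArith

set_option autoImplicit false

/-!
# A class equation for groups in which centralizers of non-central elements are abelian

Let `K` be a finite group and `Z` a central subgroup such that commuting is transitive on the
elements outside `Z` and such that an element `g ∉ Z` can only be conjugate, inside its own
centralizer, to `g` or `g⁻¹`.  Then the squares of `K` commute, or `|K : Z| ∈ {12, 24, 60}`.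
-/

namespace Cfsg.Agent.Lib.Helper98.ClassEq

variable {K : Type*} [Group K]

lemma conj_comm {a b : K} (t : K) (h : a * b = b * a) :
    (t * a * t⁻¹) * (t * b * t⁻¹) = (t * b * t⁻¹) * (t * a * t⁻¹) := by
  have e1 : (t * a * t⁻¹) * (t * b * t⁻¹) = t * (a * b) * t⁻¹ := by group
  have e2 : (t * b * t⁻¹) * (t * a * t⁻¹) = t * (b * a) * t⁻¹ := by group
  rw [e1, e2, h]

/-- the subgroup of elements conjugating `g` to `g` or to `g⁻¹` -/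
def Ng (g : K) : Subgroup K where
  carrier := {y | y * g * y⁻¹ = g ∨ y * g * y⁻¹ = g⁻¹}
  one_mem' := by left; simp
  mul_mem' := by
    intro x y hx hy
    have e : x * y * g * (x * y)⁻¹ = x * (y * g * y⁻¹) * x⁻¹ := by group
    show x * y * g * (x * y)⁻¹ = g ∨ x * y * g * (x * y)⁻¹ = g⁻¹
    rw [e]
    have hinv : x * g⁻¹ * x⁻¹ = (x * g * x⁻¹)⁻¹ := by group
    rcases hy with hy | hy <;> rcases hx with hx | hx
    · left; rw [hy, hx]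
    · right; rw [hy, hx]
    · right; rw [hy, hinv, hx]
    · left; rw [hy, hinv, hx, inv_inv]
  inv_mem' := by
    intro x hx
    show x⁻¹ * g * x⁻¹⁻¹ = g ∨ x⁻¹ * g * x⁻¹⁻¹ = g⁻¹
    rw [inv_inv]
    rcases hx with hx | hx
    · left
      calc x⁻¹ * g * x = x⁻¹ * (x * g * x⁻¹) * x := by rw [hx]
        _ = g := by group
    · right
      have h1 : x⁻¹ * g⁻¹ * x = g := by
        calc x⁻¹ * g⁻¹ * x = x⁻¹ * (x * g * x⁻¹) * x := by rw [hx]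
          _ = g := by group
      have h2 : x⁻¹ * g * x = (x⁻¹ * g⁻¹ * x)⁻¹ := by group
      rw [h2, h1]

lemma mem_Ng {g y : K} : y ∈ Ng g ↔ y * g * y⁻¹ = g ∨ y * g * y⁻¹ = g⁻¹ := Iff.rfl

lemma mem_Ng_inv {g y : K} (hy : y ∈ Ng g) : y⁻¹ * g * y = g ∨ y⁻¹ * g * y = g⁻¹ := by
  have := (Ng g).inv_mem hy
  rw [mem_Ng, inv_inv] at this
  exact this

lemma centralizer_le_Ng (g : K) : Subgroup.centralizer {g} ≤ Ng g := by
  intro y hy
  rw [Subgroup.mem_centralizer_singleton_iff] at hy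
  left
  rw [hy, mul_inv_cancel_right]

lemma card_Ng [Finite K] (g : K) :
    Nat.card (Ng g) = Nat.card (Subgroup.centralizer ({g} : Set K)) ∨
    Nat.card (Ng g) = 2 * Nat.card (Subgroup.centralizer ({g} : Set K)) := by
  obtain ⟨C, hC⟩ : ∃ C : Subgroup K, C = Subgroup.centralizer ({g} : Set K) := ⟨_, rfl⟩
  rw [← hC]
  have hle : C ≤ Ng g := by rw [hC]; exact centralizer_le_Ng g
  have hcard : Nat.card (C.subgroupOf (Ng g)) = Nat.card C :=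
    Nat.card_congr (Subgroup.subgroupOfEquivOfLe hle).toEquiv
  have hmul := Subgroup.card_mul_index (C.subgroupOf (Ng g))
  have hmemC : ∀ y : K, y * g * y⁻¹ = g → y ∈ C := by
    intro y hy
    rw [hC, Subgroup.mem_centralizer_singleton_iff]
    exact mul_inv_eq_iff_eq_mul.1 hy
  by_cases h : Ng g ≤ C
  · left
    rw [le_antisymm h hle]
  · right
    obtain ⟨y₀, hy₀N, hy₀C⟩ := SetLike.not_le_iff_exists.1 h
    have hy₀ : y₀ * g * y₀⁻¹ = g⁻¹ := by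
      rcases hy₀N with h | h
      · exact absurd (hmemC y₀ h) hy₀C
      · exact h
    have hidx : (C.subgroupOf (Ng g)).index = 2 := by
      rw [Subgroup.index_eq_two_iff]
      refine ⟨⟨y₀, hy₀N⟩, ?_⟩
      rintro ⟨b, hb⟩
      simp only [Subgroup.mem_subgroupOf]
      show Xor (b * y₀ ∈ C) (b ∈ C)
      by_cases hbC : b ∈ C
      · right
        refine ⟨hbC, fun h => hy₀C ?_⟩
        have := C.mul_mem (C.inv_mem hbC) h
        rwa [inv_mul_cancel_left] at this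
      · left
        refine ⟨?_, hbC⟩
        have hb' : b * g * b⁻¹ = g⁻¹ := by
          rcases hb with h | h
          · exact absurd (hmemC b h) hbC
          · exact h
        apply hmemC
        have e : b * y₀ * g * (b * y₀)⁻¹ = b * (y₀ * g * y₀⁻¹) * b⁻¹ := by group
        have hinv : b * g⁻¹ * b⁻¹ = (b * g * b⁻¹)⁻¹ := by group
        rw [e, hy₀, hinv, hb', inv_inv]
    rw [hidx, hcard] at hmul
    omega

section main
variable (Z : Subgroup K)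

/-- non-central elements commuting with `g` -/
def Cs (g : K) : Set K := {b | b * g = g * b ∧ b ∉ Z}

/-- the non-central elements conjugate into the centralizer of `g` -/
def Ws (g : K) : Set K := {g' | g' ∉ Z ∧ ∃ x : K, (x⁻¹ * g' * x) * g = g * (x⁻¹ * g' * x)}

variable {Z}

lemma conj_not_mem (hZ : ∀ z ∈ Z, ∀ x : K, z * x = x * z) {b : K} (hb : b ∉ Z) (x : K) :
    x * b * x⁻¹ ∉ Z := by
  intro h
  have h2 : x * b * x⁻¹ * x = x * (x * b * x⁻¹) := hZ _ h x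
  rw [inv_mul_cancel_right] at h2
  have h3 := mul_left_cancel h2
  rw [← h3] at h
  exact hb h

lemma conj_not_mem' (hZ : ∀ z ∈ Z, ∀ x : K, z * x = x * z) {b : K} (hb : b ∉ Z) (x : K) :
    x⁻¹ * b * x ∉ Z := by
  have := conj_not_mem hZ hb x⁻¹
  rwa [inv_inv] at this

theorem count [Finite K] (hZ : ∀ z ∈ Z, ∀ x : K, z * x = x * z)
    (H1 : ∀ a b c : K, b ∉ Z → a * b = b * a → b * c = c * b → a * c = c * a)
    (H2 : ∀ g y : K, g ∉ Z → (y * g * y⁻¹) * g = g * (y * g * y⁻¹) →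
      y * g * y⁻¹ = g ∨ y * g * y⁻¹ = g⁻¹) (g : K) (hg : g ∉ Z) :
    Nat.card K * (Cs Z g).ncard = (Ws Z g).ncard * Nat.card (Ng g) := by
  classical
  rw [← Nat.card_coe_set_eq, ← Nat.card_coe_set_eq, ← Nat.card_prod, ← Nat.card_prod]
  apply Nat.card_congr
  -- choice of a conjugating element
  let x₀ : ↥(Ws Z g) → K := fun g' => Classical.choose g'.2.2
  have hx₀ : ∀ g' : ↥(Ws Z g),
      ((x₀ g')⁻¹ * g'.1 * (x₀ g')) * g = g * ((x₀ g')⁻¹ * g'.1 * (x₀ g')) :=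
    fun g' => Classical.choose_spec g'.2.2
  let Φ : K × ↥(Cs Z g) → ↥(Ws Z g) := fun p =>
    ⟨p.1 * p.2.1 * p.1⁻¹, conj_not_mem hZ p.2.2.2 p.1, p.1, by
      have : p.1⁻¹ * (p.1 * p.2.1 * p.1⁻¹) * p.1 = p.2.1 := by group
      rw [this]; exact p.2.2.1⟩
  have o1 : ∀ p : K × ↥(Cs Z g), (x₀ (Φ p))⁻¹ * p.1 ∈ Ng g := by
    intro p
    obtain ⟨y, hy⟩ : ∃ y, y = (x₀ (Φ p))⁻¹ * p.1 := ⟨_, rfl⟩
    rw [← hy]
    have hb0 : (x₀ (Φ p))⁻¹ * (Φ p).1 * x₀ (Φ p) = y * p.2.1 * y⁻¹ := by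
      show (x₀ (Φ p))⁻¹ * (p.1 * p.2.1 * p.1⁻¹) * x₀ (Φ p) = y * p.2.1 * y⁻¹
      rw [hy]; group
    have h1 := hx₀ (Φ p)
    rw [hb0] at h1
    apply H2 g y hg
    refine H1 _ (y * p.2.1 * y⁻¹) g (conj_not_mem hZ p.2.2.2 y) ?_ h1
    exact conj_comm y p.2.2.1.symm
  have o2 : ∀ q : ↥(Ws Z g) × ↥(Ng g),
      q.2.1⁻¹ * ((x₀ q.1)⁻¹ * q.1.1 * x₀ q.1) * q.2.1 ∈ Cs Z g := by
    intro q
    obtain ⟨b₀, hb₀⟩ : ∃ b₀, b₀ = (x₀ q.1)⁻¹ * q.1.1 * x₀ q.1 := ⟨_, rfl⟩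
    rw [← hb₀]
    have hb₀Z : b₀ ∉ Z := by rw [hb₀]; exact conj_not_mem' hZ q.1.2.1 _
    have hb₀g : b₀ * g = g * b₀ := by rw [hb₀]; exact hx₀ q.1
    refine ⟨?_, conj_not_mem' hZ hb₀Z _⟩
    have h3 := conj_comm q.2.1⁻¹ hb₀g
    rw [inv_inv] at h3
    rcases mem_Ng_inv q.2.2 with h | h
    · rw [h] at h3; exact h3
    · rw [h] at h3
      have h4 : Commute (q.2.1⁻¹ * b₀ * q.2.1) g⁻¹ := h3
      exact (Commute.inv_right_iff.1 h4).eq
  let f : K × ↥(Cs Z g) → ↥(Ws Z g) × ↥(Ng g) := fun p => (Φ p, ⟨(x₀ (Φ p))⁻¹ * p.1, o1 p⟩)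
  let f' : ↥(Ws Z g) × ↥(Ng g) → K × ↥(Cs Z g) := fun q =>
    (x₀ q.1 * q.2.1, ⟨q.2.1⁻¹ * ((x₀ q.1)⁻¹ * q.1.1 * x₀ q.1) * q.2.1, o2 q⟩)
  refine ⟨f, f', ?_, ?_⟩
  · rintro ⟨x, b⟩
    apply Prod.ext
    · show x₀ (Φ (x, b)) * ((x₀ (Φ (x, b)))⁻¹ * x) = x
      group
    · apply Subtype.ext
      show ((x₀ (Φ (x, b)))⁻¹ * x)⁻¹ * ((x₀ (Φ (x, b)))⁻¹ * (x * b.1 * x⁻¹) * x₀ (Φ (x, b))) *
        ((x₀ (Φ (x, b)))⁻¹ * x) = b.1
      group
  · rintro ⟨g', y⟩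
    have e1 : (f (f' (g', y))).1 = g' := by
      apply Subtype.ext
      show (x₀ g' * y.1) * (y.1⁻¹ * ((x₀ g')⁻¹ * g'.1 * x₀ g') * y.1) * (x₀ g' * y.1)⁻¹ = g'.1
      group
    apply Prod.ext
    · exact e1
    · apply Subtype.ext
      show (x₀ (f (f' (g', y))).1)⁻¹ * (x₀ g' * y.1) = y.1
      rw [e1]; group

lemma disjoint_Ws (hZ : ∀ z ∈ Z, ∀ x : K, z * x = x * z)
    (H1 : ∀ a b c : K, b ∉ Z → a * b = b * a → b * c = c * b → a * c = c * a)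
    (g₁ g₂ : K) (hg₂ : g₂ ∉ Ws Z g₁) (hg₂Z : g₂ ∉ Z) : Disjoint (Ws Z g₁) (Ws Z g₂) := by
  rw [Set.disjoint_left]
  rintro g' ⟨hg', x₁, h₁⟩ ⟨-, x₂, h₂⟩
  apply hg₂
  refine ⟨hg₂Z, x₂⁻¹ * x₁, ?_⟩
  obtain ⟨b₁, hb₁⟩ : ∃ b₁, b₁ = x₁⁻¹ * g' * x₁ := ⟨_, rfl⟩
  have hb₁Z : b₁ ∉ Z := by rw [hb₁]; exact conj_not_mem' hZ hg' x₁
  have h3 := conj_comm (x₁⁻¹ * x₂) h₂
  have e1 : (x₁⁻¹ * x₂) * (x₂⁻¹ * g' * x₂) * (x₁⁻¹ * x₂)⁻¹ = b₁ := by rw [hb₁]; group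
  have e2 : (x₁⁻¹ * x₂) * g₂ * (x₁⁻¹ * x₂)⁻¹ = (x₂⁻¹ * x₁)⁻¹ * g₂ * (x₂⁻¹ * x₁) := by group
  rw [e1, e2] at h3
  rw [← hb₁] at h₁
  exact H1 _ b₁ g₁ hb₁Z h3.symm h₁

theorem data [Finite K] (hZ : ∀ z ∈ Z, ∀ x : K, z * x = x * z)
    (H1 : ∀ a b c : K, b ∉ Z → a * b = b * a → b * c = c * b → a * c = c * a)
    (H2 : ∀ g y : K, g ∉ Z → (y * g * y⁻¹) * g = g * (y * g * y⁻¹) →
      y * g * y⁻¹ = g ∨ y * g * y⁻¹ = g⁻¹) (g : K) (hg : g ∉ Z) :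
    ∃ m e c : ℕ, (e = 1 ∨ e = 2) ∧ 2 ≤ c ∧ 1 ≤ m ∧ Nat.card K = Nat.card Z * (m * e * c) ∧
      (Ws Z g).ncard = Nat.card Z * (m * (c - 1)) ∧
      (m = 1 → ∀ x y : K, x ^ 2 * y ^ 2 = y ^ 2 * x ^ 2) := by
  obtain ⟨C, hC⟩ : ∃ C : Subgroup K, C = Subgroup.centralizer ({g} : Set K) := ⟨_, rfl⟩
  have hZC : Z ≤ C := fun z hz => by
    rw [hC, Subgroup.mem_centralizer_singleton_iff]; exact hZ z hz g
  have hgC : g ∈ C := by rw [hC, Subgroup.mem_centralizer_singleton_iff]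
  obtain ⟨c, hc⟩ := Subgroup.card_dvd_of_le hZC
  have hzpos : 0 < Nat.card Z := Nat.card_pos
  have hc2 : 2 ≤ c := by
    by_contra hlt
    have hc1 : c ≤ 1 := by omega
    have hle : Nat.card C ≤ Nat.card Z := by
      rw [hc]
      calc Nat.card Z * c ≤ Nat.card Z * 1 := Nat.mul_le_mul_left _ hc1
        _ = Nat.card Z := mul_one _
    have hEq : Z = C := Subgroup.eq_of_le_of_card_ge hZC hle
    exact hg (hEq ▸ hgC)
  obtain ⟨e, he, hNe⟩ : ∃ e, (e = 1 ∨ e = 2) ∧ Nat.card (Ng g) = e * Nat.card C := by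
    rcases card_Ng g with h | h
    · exact ⟨1, Or.inl rfl, by rw [h, one_mul, hC]⟩
    · exact ⟨2, Or.inr rfl, by rw [h, hC]⟩
  obtain ⟨m, hm⟩ := Subgroup.card_subgroup_dvd_card (Ng g)
  have hKpos : 0 < Nat.card K := Nat.card_pos
  have hm1 : 1 ≤ m := by
    rcases Nat.eq_zero_or_pos m with h | h
    · rw [h, mul_zero] at hm; omega
    · exact h
  have hcount := count hZ H1 H2 g hg
  have hCs : (Cs Z g).ncard = Nat.card C - Nat.card Z := by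
    have : Cs Z g = (C : Set K) \ (Z : Set K) := by
      ext b
      simp only [Cs, Set.mem_setOf_eq, Set.mem_diff, SetLike.mem_coe, hC,
        Subgroup.mem_centralizer_singleton_iff]
    rw [this, Set.ncard_sdiff (fun x hx => hZC hx) (Set.toFinite _)]
    rfl
  refine ⟨m, e, c, he, hc2, hm1, ?_, ?_, ?_⟩
  · rw [hm, hNe, hc]; ring
  · have hNpos : 0 < Nat.card (Ng g) := Nat.card_pos
    rw [hCs, hm, hc] at hcount
    have h5 : Nat.card Z * c - Nat.card Z = Nat.card Z * (c - 1) := by rw [Nat.mul_sub_one]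
    rw [h5] at hcount
    have h3 : Nat.card (Ng g) * (m * (Nat.card Z * (c - 1))) =
        Nat.card (Ng g) * (Ws Z g).ncard := by
      rw [← mul_assoc, hcount, mul_comm]
    have h4 := Nat.eq_of_mul_eq_mul_left hNpos h3
    rw [← h4]; ring
  · intro hm1' x y
    rw [hm1', mul_one] at hm
    have htop : Ng g = ⊤ := Subgroup.eq_top_of_card_eq _ hm.symm
    have hsq : ∀ x : K, x ^ 2 * g = g * x ^ 2 := by
      intro x
      have hx : x ∈ Ng g := by rw [htop]; exact Subgroup.mem_top x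
      rcases hx with h | h
      · have h' : x * g = g * x := mul_inv_eq_iff_eq_mul.1 h
        rw [pow_two, mul_assoc, h', ← mul_assoc, h', mul_assoc]
      · have h' : x * g = g⁻¹ * x := mul_inv_eq_iff_eq_mul.1 h
        have h'' : x * g⁻¹ = g * x := by
          have h6 : x * g⁻¹ * x⁻¹ = g := by
            have : x * g⁻¹ * x⁻¹ = (x * g * x⁻¹)⁻¹ := by group
            rw [this, h, inv_inv]
          exact mul_inv_eq_iff_eq_mul.1 h6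
        rw [pow_two, mul_assoc, h', ← mul_assoc, h'', mul_assoc]
    exact H1 (x ^ 2) g (y ^ 2) hg (hsq x) (hsq y).symm

lemma cancel_z (z h S : ℕ) (hz : 0 < z) (hh : 1 ≤ h) (hT : z * S = z * h - z) : h = 1 + S := by
  have : z * h - z = z * (h - 1) := by rw [Nat.mul_sub_one]
  rw [this] at hT
  have := Nat.eq_of_mul_eq_mul_left hz hT
  omega

lemma cancel_z_le (z h S : ℕ) (hz : 0 < z) (hh : 1 ≤ h) (hT : z * S ≤ z * h - z) :
    1 + S ≤ h := by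
  have : z * h - z = z * (h - 1) := by rw [Nat.mul_sub_one]
  rw [this] at hT
  have := Nat.le_of_mul_le_mul_left hT hz
  omega

/-- **The class equation.** -/
theorem main [Finite K] (Z : Subgroup K) (hZ : ∀ z ∈ Z, ∀ x : K, z * x = x * z)
    (H1 : ∀ a b c : K, b ∉ Z → a * b = b * a → b * c = c * b → a * c = c * a)
    (H2 : ∀ g y : K, g ∉ Z → (y * g * y⁻¹) * g = g * (y * g * y⁻¹) →
      y * g * y⁻¹ = g ∨ y * g * y⁻¹ = g⁻¹) :
    (∀ x y : K, x ^ 2 * y ^ 2 = y ^ 2 * x ^ 2) ∨ Nat.card K = 12 * Nat.card Z ∨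
      Nat.card K = 24 * Nat.card Z ∨ Nat.card K = 60 * Nat.card Z := by
  classical
  have hzpos : 0 < Nat.card Z := Nat.card_pos
  have hKpos : 0 < Nat.card K := Nat.card_pos
  obtain ⟨h, hh⟩ := Subgroup.card_subgroup_dvd_card Z
  have hh1 : 1 ≤ h := by
    rcases Nat.eq_zero_or_pos h with h0 | h0
    · rw [h0, mul_zero] at hh; omega
    · exact h0
  have hT : ((Z : Set K)ᶜ).ncard = Nat.card Z * h - Nat.card Z := by
    rw [Set.ncard_compl, hh]; rfl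
  have hWsub : ∀ g, Ws Z g ⊆ (Z : Set K)ᶜ := fun g x hx => hx.1
  by_cases hex1 : ∃ g₁, g₁ ∉ Z
  swap
  · left
    push Not at hex1
    intro x y
    exact hZ (x ^ 2) (hex1 _) (y ^ 2)
  obtain ⟨g₁, hg₁⟩ := hex1
  obtain ⟨m1, e1, c1, he1, hc1, hm1, hn1, hw1, hsq1⟩ := data hZ H1 H2 g₁ hg₁
  have hh1' : h = m1 * e1 * c1 := Nat.eq_of_mul_eq_mul_left hzpos (hh.symm.trans hn1)
  by_cases hex2 : ∃ g₂, g₂ ∉ Z ∧ g₂ ∉ Ws Z g₁
  swap
  · push Not at hex2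
    have hEq : (Z : Set K)ᶜ = Ws Z g₁ :=
      Set.Subset.antisymm (fun x hx => hex2 x hx) (hWsub g₁)
    rw [hEq, hw1] at hT
    have hs := cancel_z _ _ _ hzpos hh1 hT
    left
    exact hsq1 (arith1 h m1 e1 c1 he1 hc1 hm1 hh1' hs)
  obtain ⟨g₂, hg₂, hg₂W⟩ := hex2
  obtain ⟨m2, e2, c2, he2, hc2, hm2, hn2, hw2, hsq2⟩ := data hZ H1 H2 g₂ hg₂
  have hh2' : h = m2 * e2 * c2 := Nat.eq_of_mul_eq_mul_left hzpos (hh.symm.trans hn2)
  have hd12 : Disjoint (Ws Z g₁) (Ws Z g₂) := disjoint_Ws hZ H1 g₁ g₂ hg₂W hg₂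
  by_cases hex3 : ∃ g₃, g₃ ∉ Z ∧ g₃ ∉ Ws Z g₁ ∧ g₃ ∉ Ws Z g₂
  swap
  · push Not at hex3
    have hEq : (Z : Set K)ᶜ = Ws Z g₁ ∪ Ws Z g₂ := by
      apply Set.Subset.antisymm
      · intro x hx
        by_cases h1 : x ∈ Ws Z g₁
        · exact Or.inl h1
        · exact Or.inr (hex3 x hx h1)
      · exact Set.union_subset (hWsub g₁) (hWsub g₂)
    rw [hEq, Set.ncard_union_eq hd12 (Set.toFinite _) (Set.toFinite _), hw1, hw2,
      ← mul_add] at hT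
    have hs := cancel_z _ _ _ hzpos hh1 hT
    rcases arith2 h m1 e1 c1 m2 e2 c2 he1 hc1 hm1 he2 hc2 hm2 hh1' hh2' (by rw [hs]; ring)
      with h | h | h
    · left; exact hsq1 h
    · left; exact hsq2 h
    · right; left; rw [hh, h]; ring
  obtain ⟨g₃, hg₃, hg₃W1, hg₃W2⟩ := hex3
  obtain ⟨m3, e3, c3, he3, hc3, hm3, hn3, hw3, hsq3⟩ := data hZ H1 H2 g₃ hg₃
  have hh3' : h = m3 * e3 * c3 := Nat.eq_of_mul_eq_mul_left hzpos (hh.symm.trans hn3)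
  have hd13 : Disjoint (Ws Z g₁) (Ws Z g₃) := disjoint_Ws hZ H1 g₁ g₃ hg₃W1 hg₃
  have hd23 : Disjoint (Ws Z g₂) (Ws Z g₃) := disjoint_Ws hZ H1 g₂ g₃ hg₃W2 hg₃
  have hd123 : Disjoint (Ws Z g₁ ∪ Ws Z g₂) (Ws Z g₃) := Set.disjoint_union_left.2 ⟨hd13, hd23⟩
  by_cases hex4 : ∃ g₄, g₄ ∉ Z ∧ g₄ ∉ Ws Z g₁ ∧ g₄ ∉ Ws Z g₂ ∧ g₄ ∉ Ws Z g₃
  swap
  · push Not at hex4
    have hEq : (Z : Set K)ᶜ = Ws Z g₁ ∪ Ws Z g₂ ∪ Ws Z g₃ := by
      apply Set.Subset.antisymm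
      · intro x hx
        by_cases h1 : x ∈ Ws Z g₁
        · exact Or.inl (Or.inl h1)
        · by_cases h2 : x ∈ Ws Z g₂
          · exact Or.inl (Or.inr h2)
          · exact Or.inr (hex4 x hx h1 h2)
      · exact Set.union_subset (Set.union_subset (hWsub g₁) (hWsub g₂)) (hWsub g₃)
    rw [hEq, Set.ncard_union_eq hd123 (Set.toFinite _) (Set.toFinite _),
      Set.ncard_union_eq hd12 (Set.toFinite _) (Set.toFinite _), hw1, hw2, hw3,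
      ← mul_add, ← mul_add] at hT
    have hs := cancel_z _ _ _ hzpos hh1 hT
    rcases arith3 h m1 e1 c1 m2 e2 c2 m3 e3 c3 he1 hc1 hm1 he2 hc2 hm2 he3 hc3 hm3
      hh1' hh2' hh3' (by rw [hs]; ring) with h | h | h | h | h | h
    · left; exact hsq1 h
    · left; exact hsq2 h
    · left; exact hsq3 h
    · right; left; rw [hh, h]; ring
    · right; right; left; rw [hh, h]; ring
    · right; right; right; rw [hh, h]; ring
  exfalso
  obtain ⟨g₄, hg₄, hg₄W1, hg₄W2, hg₄W3⟩ := hex4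
  obtain ⟨m4, e4, c4, he4, hc4, hm4, hn4, hw4, hsq4⟩ := data hZ H1 H2 g₄ hg₄
  have hh4' : h = m4 * e4 * c4 := Nat.eq_of_mul_eq_mul_left hzpos (hh.symm.trans hn4)
  have hd14 : Disjoint (Ws Z g₁) (Ws Z g₄) := disjoint_Ws hZ H1 g₁ g₄ hg₄W1 hg₄
  have hd24 : Disjoint (Ws Z g₂) (Ws Z g₄) := disjoint_Ws hZ H1 g₂ g₄ hg₄W2 hg₄
  have hd34 : Disjoint (Ws Z g₃) (Ws Z g₄) := disjoint_Ws hZ H1 g₃ g₄ hg₄W3 hg₄
  have hd1234 : Disjoint (Ws Z g₁ ∪ Ws Z g₂ ∪ Ws Z g₃) (Ws Z g₄) :=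
    Set.disjoint_union_left.2 ⟨Set.disjoint_union_left.2 ⟨hd14, hd24⟩, hd34⟩
  have hsub : Ws Z g₁ ∪ Ws Z g₂ ∪ Ws Z g₃ ∪ Ws Z g₄ ⊆ (Z : Set K)ᶜ :=
    Set.union_subset (Set.union_subset (Set.union_subset (hWsub g₁) (hWsub g₂)) (hWsub g₃))
      (hWsub g₄)
  have hle := Set.ncard_le_ncard hsub (Set.toFinite _)
  rw [Set.ncard_union_eq hd1234 (Set.toFinite _) (Set.toFinite _),
    Set.ncard_union_eq hd123 (Set.toFinite _) (Set.toFinite _),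
    Set.ncard_union_eq hd12 (Set.toFinite _) (Set.toFinite _), hw1, hw2, hw3, hw4,
    ← mul_add, ← mul_add, ← mul_add, hT] at hle
  have hs := cancel_z_le _ _ _ hzpos hh1 hle
  exact arith4 h m1 e1 c1 m2 e2 c2 m3 e3 c3 m4 e4 c4 he1 hc1 he2 hc2 he3 hc3 he4 hc4
    hh1' hh2' hh3' hh4' (by omega)

end main

end Cfsg.Agent.Lib.Helper98.ClassEq
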