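import Mathlib

/-!
# Subgroups of `SL(2, F)` generated by elementary matrices over a subfield (helper98)

`N k lam = ⟨u a, l (lam * a) | a ∈ k⟩` for a subfield `k` of a finite field `F`.
Main results:
* `N_eq_top`: if `F` has no proper intermediate field over `k`, squares detect `k`,
  and `k` has more than two elements, then `N k lam = ⊤` for every `lam ∉ k`.
* `eq_top_of_not_le`: under the same hypotheses every subgroup properly containing the
  matrices with entries in `k` is everything.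
-/

set_option autoImplicit false
set_option linter.style.haveILetI false
set_option linter.unnecessarySeqFocus false
set_option linter.unreachableTactic false
set_option linter.unusedTactic false
set_option linter.unusedVariables false

namespace Cfsg.Agent.Lib.Helper98.SL2Sub

open Matrix MatrixGroups

section basics
variable {F : Type*} [Field F]

lemma sl2_ext (g g' : SL(2, F)) (h00 : g.1 0 0 = g'.1 0 0) (h01 : g.1 0 1 = g'.1 0 1)
    (h10 : g.1 1 0 = g'.1 1 0) (h11 : g.1 1 1 = g'.1 1 1) : g = g' := by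
  apply Subtype.ext
  ext i j
  fin_cases i <;> fin_cases j
  · exact h00
  · exact h01
  · exact h10
  · exact h11

lemma det_eq (g : SL(2, F)) : g.1 0 0 * g.1 1 1 - g.1 0 1 * g.1 1 0 = 1 := by
  have := g.2
  rw [Matrix.det_fin_two] at this
  exact this

/-- upper elementary matrices -/
def u (b : F) : SL(2, F) := ⟨!![1, b; 0, 1], by simp [Matrix.det_fin_two_of]⟩
/-- lower elementary matrices -/
def l (c : F) : SL(2, F) := ⟨!![1, 0; c, 1], by simp [Matrix.det_fin_two_of]⟩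
/-- the Weyl element -/
def w : SL(2, F) := ⟨!![0, 1; -1, 0], by simp [Matrix.det_fin_two_of]⟩
/-- diagonal matrices -/
def d (a : F) (ha : a ≠ 0) : SL(2, F) :=
  ⟨!![a, 0; 0, a⁻¹], by simp [Matrix.det_fin_two_of, ha]⟩

@[simp] lemma u00 (b : F) : (u b).1 0 0 = 1 := rfl
@[simp] lemma u01 (b : F) : (u b).1 0 1 = b := rfl
@[simp] lemma u10 (b : F) : (u b).1 1 0 = 0 := rfl
@[simp] lemma u11 (b : F) : (u b).1 1 1 = 1 := rfl
@[simp] lemma l00 (c : F) : (l c).1 0 0 = 1 := rfl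
@[simp] lemma l01 (c : F) : (l c).1 0 1 = 0 := rfl
@[simp] lemma l10 (c : F) : (l c).1 1 0 = c := rfl
@[simp] lemma l11 (c : F) : (l c).1 1 1 = 1 := rfl
@[simp] lemma w00 : (w : SL(2, F)).1 0 0 = 0 := rfl
@[simp] lemma w01 : (w : SL(2, F)).1 0 1 = 1 := rfl
@[simp] lemma w10 : (w : SL(2, F)).1 1 0 = -1 := rfl
@[simp] lemma w11 : (w : SL(2, F)).1 1 1 = 0 := rfl
@[simp] lemma d00 (a : F) (ha : a ≠ 0) : (d a ha).1 0 0 = a := rfl
@[simp] lemma d01 (a : F) (ha : a ≠ 0) : (d a ha).1 0 1 = 0 := rfl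
@[simp] lemma d10 (a : F) (ha : a ≠ 0) : (d a ha).1 1 0 = 0 := rfl
@[simp] lemma d11 (a : F) (ha : a ≠ 0) : (d a ha).1 1 1 = a⁻¹ := rfl

lemma mul00 (g g' : SL(2, F)) : (g * g').1 0 0 = g.1 0 0 * g'.1 0 0 + g.1 0 1 * g'.1 1 0 := by
  simp [Matrix.mul_apply, Fin.sum_univ_two]
lemma mul01 (g g' : SL(2, F)) : (g * g').1 0 1 = g.1 0 0 * g'.1 0 1 + g.1 0 1 * g'.1 1 1 := by
  simp [Matrix.mul_apply, Fin.sum_univ_two]
lemma mul10 (g g' : SL(2, F)) : (g * g').1 1 0 = g.1 1 0 * g'.1 0 0 + g.1 1 1 * g'.1 1 0 := by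
  simp [Matrix.mul_apply, Fin.sum_univ_two]
lemma mul11 (g g' : SL(2, F)) : (g * g').1 1 1 = g.1 1 0 * g'.1 0 1 + g.1 1 1 * g'.1 1 1 := by
  simp [Matrix.mul_apply, Fin.sum_univ_two]
lemma inv00 (g : SL(2, F)) : (g⁻¹).1 0 0 = g.1 1 1 := by
  simp [Matrix.SpecialLinearGroup.coe_inv, Matrix.adjugate_fin_two]
lemma inv01 (g : SL(2, F)) : (g⁻¹).1 0 1 = - g.1 0 1 := by
  simp [Matrix.SpecialLinearGroup.coe_inv, Matrix.adjugate_fin_two]
lemma inv10 (g : SL(2, F)) : (g⁻¹).1 1 0 = - g.1 1 0 := by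
  simp [Matrix.SpecialLinearGroup.coe_inv, Matrix.adjugate_fin_two]
lemma inv11 (g : SL(2, F)) : (g⁻¹).1 1 1 = g.1 0 0 := by
  simp [Matrix.SpecialLinearGroup.coe_inv, Matrix.adjugate_fin_two]
lemma one00 : (1 : SL(2, F)).1 0 0 = 1 := by simp
lemma one01 : (1 : SL(2, F)).1 0 1 = 0 := by simp
lemma one10 : (1 : SL(2, F)).1 1 0 = 0 := by simp
lemma one11 : (1 : SL(2, F)).1 1 1 = 1 := by simp

lemma u_mul (b b' : F) : u b * u b' = u (b + b') := by
  apply sl2_ext <;> simp [mul00, mul01, mul10, mul11] <;> ring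
lemma l_mul (c c' : F) : l c * l c' = l (c + c') := by
  apply sl2_ext <;> simp [mul00, mul01, mul10, mul11] <;> ring
lemma u_zero : u (0 : F) = 1 := by
  apply sl2_ext <;> simp
lemma l_zero : l (0 : F) = 1 := by
  apply sl2_ext <;> simp
lemma u_inv (b : F) : (u b)⁻¹ = u (-b) := by
  apply inv_eq_of_mul_eq_one_right
  rw [u_mul, add_neg_cancel, u_zero]
lemma l_inv (c : F) : (l c)⁻¹ = l (-c) := by
  apply inv_eq_of_mul_eq_one_right
  rw [l_mul, add_neg_cancel, l_zero]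
lemma d_inv (a : F) (ha : a ≠ 0) : (d a ha)⁻¹ = d a⁻¹ (inv_ne_zero ha) := by
  apply sl2_ext <;> simp [inv00, inv01, inv10, inv11]

lemma u_injective : Function.Injective (u : F → SL(2, F)) := by
  intro a b hab
  have := congrArg (fun g : SL(2, F) => g.1 0 1) hab
  simpa using this

lemma l_injective : Function.Injective (l : F → SL(2, F)) := by
  intro a b hab
  have := congrArg (fun g : SL(2, F) => g.1 1 0) hab
  simpa using this

/-- conjugating `u` by `w` -/
lemma w_u_w (a : F) : w * u a * w⁻¹ = l (-a) := by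
  apply sl2_ext <;> simp [mul00, mul01, mul10, mul11, inv00, inv01, inv10, inv11]

lemma w_l_w (a : F) : w * l a * w⁻¹ = u (-a) := by
  apply sl2_ext <;> simp [mul00, mul01, mul10, mul11, inv00, inv01, inv10, inv11]

lemma d_u_d (a : F) (ha : a ≠ 0) (z : F) : d a ha * u z * (d a ha)⁻¹ = u (a ^ 2 * z) := by
  apply sl2_ext <;> simp [mul00, mul01, mul10, mul11, inv00, inv01, inv10, inv11, ha] <;> ring

lemma d_l_d (a : F) (ha : a ≠ 0) (z : F) :
    (d a ha)⁻¹ * l z * d a ha = l (a ^ 2 * z) := by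
  apply sl2_ext <;> simp [mul00, mul01, mul10, mul11, inv00, inv01, inv10, inv11, ha] <;> ring

/-- the key conjugation identity -/
lemma conj_identity (μ : F) (hμ : μ ≠ 0) (a : F) :
    u μ⁻¹ * l (μ ^ 2 * a) * (u μ⁻¹)⁻¹ = l μ * u (-a) * (l μ)⁻¹ := by
  apply sl2_ext <;> simp [mul00, mul01, mul10, mul11, inv00, inv01, inv10, inv11] <;>
    field_simp <;> ring

/-- the braid relation, solved for `u` -/
lemma braid (x : F) (hx : x ≠ 0) :
    u x⁻¹ = l (-x) * (u x⁻¹ * l (-x) * (u x⁻¹)⁻¹) * l x := by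
  apply sl2_ext <;> simp only [mul00, mul01, mul10, mul11, inv00, inv01, inv10, inv11,
    u00, u01, u10, u11, l00, l01, l10, l11] <;> field_simp <;> ring

/-- `n x = u x * l (-x⁻¹) * u x` and the product of two of them is diagonal -/
lemma diag_eq (x : F) (hx : x ≠ 0) :
    d x hx = (u x⁻¹ * l (-x) * u x⁻¹) * (u (x ^ 2)⁻¹ * l (-(x ^ 2)) * u (x ^ 2)⁻¹)⁻¹ := by
  apply sl2_ext <;> simp [mul00, mul01, mul10, mul11, inv00, inv01, inv10, inv11] <;>
    field_simp <;> ring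

/-- conjugating `u s` by an arbitrary matrix, then moving the fixed point to `0` -/
lemma conj_gen (g : SL(2, F)) (hc : g.1 1 0 ≠ 0) (s : F) :
    u (g.1 0 0 / g.1 1 0) * l ((g.1 1 0) ^ 2 * s) * (u (g.1 0 0 / g.1 1 0))⁻¹ =
      g * u (-s) * g⁻¹ := by
  have hd := det_eq g
  apply sl2_ext <;> simp only [mul00, mul01, mul10, mul11, inv00, inv01, inv10, inv11,
    u00, u01, u10, u11, l00, l01, l10, l11] <;> field_simp
  · linear_combination (-(g.1 1 0)) * hd
  · ring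
  · ring
  · linear_combination (-(g.1 1 0)) * hd

/-- Bruhat-type decomposition when the lower left entry is nonzero -/
lemma decomp_c (g : SL(2, F)) (hc : g.1 1 0 ≠ 0) :
    g = u ((g.1 0 0 - 1) / g.1 1 0) * l (g.1 1 0) * u ((g.1 1 1 - 1) / g.1 1 0) := by
  have hd := det_eq g
  apply sl2_ext <;> simp only [mul00, mul01, mul10, mul11, u00, u01, u10, u11, l00, l01, l10, l11]
  · field_simp; ring
  · field_simp; linear_combination (-1 : F) * hd
  · ring
  · field_simp; ring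

/-- `SL(2, F)` is generated by the elementary matrices -/
lemma eq_top_of_u_l (K : Subgroup SL(2, F)) (hu : ∀ z : F, u z ∈ K) (hl : ∀ z : F, l z ∈ K) :
    K = ⊤ := by
  have key : ∀ g : SL(2, F), g.1 1 0 ≠ 0 → g ∈ K := by
    intro g hc
    rw [decomp_c g hc]
    exact K.mul_mem (K.mul_mem (hu _) (hl _)) (hu _)
  rw [eq_top_iff]
  intro g _
  by_cases hc : g.1 1 0 = 0
  · have ha : g.1 0 0 ≠ 0 := by
      intro h0
      have hd := det_eq g
      rw [h0, hc] at hd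
      simp at hd
    have h1 : l 1 * g ∈ K := by
      apply key
      simp [mul10, hc, ha]
    have := K.mul_mem (K.inv_mem (hl 1)) h1
    simpa using this
  · exact key g hc

end basics

section main
variable {F : Type*} [Field F]

lemma d_l_d' (a : F) (ha : a ≠ 0) (z : F) :
    d a ha * l z * (d a ha)⁻¹ = l ((a⁻¹) ^ 2 * z) := by
  apply sl2_ext <;> simp [mul00, mul01, mul10, mul11, inv00, inv01, inv10, inv11, ha] <;> ring

/-- matrices with all entries in the subfield `k` -/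
def Sk (k : Subfield F) : Subgroup SL(2, F) where
  carrier := {g | g.1 0 0 ∈ k ∧ g.1 0 1 ∈ k ∧ g.1 1 0 ∈ k ∧ g.1 1 1 ∈ k}
  mul_mem' := by
    rintro g g' ⟨h1, h2, h3, h4⟩ ⟨h1', h2', h3', h4'⟩
    refine ⟨?_, ?_, ?_, ?_⟩
    · rw [mul00]; exact k.add_mem (k.mul_mem h1 h1') (k.mul_mem h2 h3')
    · rw [mul01]; exact k.add_mem (k.mul_mem h1 h2') (k.mul_mem h2 h4')
    · rw [mul10]; exact k.add_mem (k.mul_mem h3 h1') (k.mul_mem h4 h3')
    · rw [mul11]; exact k.add_mem (k.mul_mem h3 h2') (k.mul_mem h4 h4')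
  one_mem' := by
    refine ⟨?_, ?_, ?_, ?_⟩
    · rw [one00]; exact k.one_mem
    · rw [one01]; exact k.zero_mem
    · rw [one10]; exact k.zero_mem
    · rw [one11]; exact k.one_mem
  inv_mem' := by
    rintro g ⟨h1, h2, h3, h4⟩
    refine ⟨?_, ?_, ?_, ?_⟩
    · rw [inv00]; exact h4
    · rw [inv01]; exact k.neg_mem h2
    · rw [inv10]; exact k.neg_mem h3
    · rw [inv11]; exact h1

lemma mem_Sk (k : Subfield F) (g : SL(2, F)) :
    g ∈ Sk k ↔ g.1 0 0 ∈ k ∧ g.1 0 1 ∈ k ∧ g.1 1 0 ∈ k ∧ g.1 1 1 ∈ k := Iff.rfl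

lemma u_mem_Sk {k : Subfield F} {a : F} (ha : a ∈ k) : u a ∈ Sk k :=
  ⟨k.one_mem, ha, k.zero_mem, k.one_mem⟩

lemma l_mem_Sk {k : Subfield F} {a : F} (ha : a ∈ k) : l a ∈ Sk k :=
  ⟨k.one_mem, k.zero_mem, ha, k.one_mem⟩

lemma w_mem_Sk {k : Subfield F} : (w : SL(2, F)) ∈ Sk k :=
  ⟨k.zero_mem, k.one_mem, k.neg_mem k.one_mem, k.zero_mem⟩

lemma Sk_ne_top (k : Subfield F) (x : F) (hx : x ∉ k) : Sk k ≠ ⊤ := by
  intro h
  have : u x ∈ Sk k := by rw [h]; trivial
  exact hx this.2.1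

/-- the subgroup generated by `u a` and `l (lam * a)`, `a ∈ k` -/
def N (k : Subfield F) (lam : F) : Subgroup SL(2, F) :=
  Subgroup.closure ({g | ∃ a ∈ k, g = u a} ∪ {g | ∃ a ∈ k, g = l (lam * a)})

lemma u_mem_N (k : Subfield F) (lam : F) {a : F} (ha : a ∈ k) : u a ∈ N k lam :=
  Subgroup.subset_closure (Or.inl ⟨a, ha, rfl⟩)

lemma l_mem_N (k : Subfield F) (lam : F) {a : F} (ha : a ∈ k) : l (lam * a) ∈ N k lam :=
  Subgroup.subset_closure (Or.inr ⟨a, ha, rfl⟩)

lemma step3 (k : Subfield F) (lam : F) (hlam : lam ≠ 0) (b : F) (hb : b ∈ k) (hb0 : b ≠ 0) :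
    ∀ g ∈ N k (lam ^ 2), u (b * lam)⁻¹ * g * (u (b * lam)⁻¹)⁻¹ ∈ N k lam := by
  have hle : N k (lam ^ 2) ≤ (N k lam).comap (MulAut.conj (u (b * lam)⁻¹)).toMonoidHom := by
    rw [N, Subgroup.closure_le]
    rintro g (⟨a, ha, rfl⟩ | ⟨a, ha, rfl⟩)
    · show (MulAut.conj (u (b * lam)⁻¹)) (u a) ∈ N k lam
      rw [MulAut.conj_apply, u_inv, u_mul, u_mul]
      have : (b * lam)⁻¹ + a + -(b * lam)⁻¹ = a := by ring
      rw [this]; exact u_mem_N k lam ha
    · show (MulAut.conj (u (b * lam)⁻¹)) (l (lam ^ 2 * a)) ∈ N k lam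
      rw [MulAut.conj_apply]
      have h1 : lam ^ 2 * a = (b * lam) ^ 2 * (a / b ^ 2) := by field_simp
      rw [h1, conj_identity (b * lam) (mul_ne_zero hb0 hlam)]
      have h2 : l (b * lam) ∈ N k lam := by rw [mul_comm]; exact l_mem_N k lam hb
      exact (N k lam).mul_mem ((N k lam).mul_mem h2
        (u_mem_N k lam (k.neg_mem (k.div_mem ha (k.pow_mem hb 2))))) ((N k lam).inv_mem h2)
  intro g hg
  exact hle hg

lemma norm_d (k : Subfield F) (lam : F) (a : F) (ha : a ∈ k) (ha0 : a ≠ 0) :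
    ∀ g ∈ N k lam, d a ha0 * g * (d a ha0)⁻¹ ∈ N k lam := by
  have hle : N k lam ≤ (N k lam).comap (MulAut.conj (d a ha0)).toMonoidHom := by
    rw [N, Subgroup.closure_le]
    rintro g (⟨s, hs, rfl⟩ | ⟨s, hs, rfl⟩)
    · show (MulAut.conj (d a ha0)) (u s) ∈ Subgroup.closure _
      rw [MulAut.conj_apply, d_u_d]
      exact u_mem_N k lam (k.mul_mem (k.pow_mem ha 2) hs)
    · show (MulAut.conj (d a ha0)) (l (lam * s)) ∈ Subgroup.closure _
      rw [MulAut.conj_apply, d_l_d']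
      have : (a⁻¹) ^ 2 * (lam * s) = lam * ((a⁻¹) ^ 2 * s) := by ring
      rw [this]
      exact l_mem_N k lam (k.mul_mem (k.pow_mem (k.inv_mem ha) 2) hs)
  intro g hg
  exact hle hg

lemma card_lt [Finite F] (k : Subfield F) (lam : F) (hlam : lam ≠ 0) (b : F) (hb : b ∈ k)
    (hb0 : b ≠ 0) (g : SL(2, F)) (hg : g ∈ N k lam)
    (hg' : (u (b * lam)⁻¹)⁻¹ * g * u (b * lam)⁻¹ ∉ N k (lam ^ 2)) :
    Nat.card (N k (lam ^ 2)) < Nat.card (N k lam) := by
  classical
  have : Fintype (N k (lam ^ 2)) := Fintype.ofFinite _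
  have : Fintype (N k lam) := Fintype.ofFinite _
  rw [Nat.card_eq_fintype_card, Nat.card_eq_fintype_card]
  refine Fintype.card_lt_of_injective_of_notMem
    (fun h : N k (lam ^ 2) => (⟨u (b * lam)⁻¹ * h.1 * (u (b * lam)⁻¹)⁻¹,
      step3 k lam hlam b hb hb0 h.1 h.2⟩ : N k lam)) ?_ (b := ⟨g, hg⟩) ?_
  · intro h h' hh
    have := congrArg Subtype.val hh
    simp only [mul_left_inj, mul_right_inj] at this
    exact Subtype.ext this
  · rintro ⟨h, hh⟩
    apply hg'
    have := congrArg Subtype.val hh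
    simp only at this
    rw [← this]
    have e : (u (b * lam)⁻¹)⁻¹ * (u (b * lam)⁻¹ * h.1 * (u (b * lam)⁻¹)⁻¹) * u (b * lam)⁻¹ = h.1 := by
      group
    rw [e]
    exact h.2

lemma u_inv_mem (k : Subfield F) (hb : ∃ b ∈ k, b ≠ 0 ∧ b + 1 ≠ 0) (lam : F) (hlam : lam ≠ 0)
    (hP : ∀ b ∈ k, b ≠ 0 → ∀ g ∈ N k lam,
      (u (b * lam)⁻¹)⁻¹ * g * u (b * lam)⁻¹ ∈ N k (lam ^ 2)) :
    u lam⁻¹ ∈ N k lam := by
  obtain ⟨b, hbk, hb0, hb1⟩ := hb
  have hnorm : ∀ g ∈ N k lam, u lam⁻¹ * g * (u lam⁻¹)⁻¹ ∈ N k lam := by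
    intro g hg
    have h1 := hP b hbk hb0 g hg
    have hb1k : b / (b + 1) ∈ k := k.div_mem hbk (k.add_mem hbk k.one_mem)
    have hb10 : b / (b + 1) ≠ 0 := div_ne_zero hb0 hb1
    have h2 := step3 k lam hlam (b / (b + 1)) hb1k hb10 _ h1
    have e1 : u (b / (b + 1) * lam)⁻¹ * (u (b * lam)⁻¹)⁻¹ = u lam⁻¹ := by
      rw [u_inv, u_mul]; congr 1; field_simp; ring
    have e2 : u (b * lam)⁻¹ * (u (b / (b + 1) * lam)⁻¹)⁻¹ = (u lam⁻¹)⁻¹ := by
      rw [u_inv, u_inv, u_mul]; congr 1; field_simp; ring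
    have e : u (b / (b + 1) * lam)⁻¹ * ((u (b * lam)⁻¹)⁻¹ * g * u (b * lam)⁻¹) *
        (u (b / (b + 1) * lam)⁻¹)⁻¹ = u lam⁻¹ * g * (u lam⁻¹)⁻¹ := by
      rw [← e2, ← e1]; group
    rw [e] at h2; exact h2
  rw [braid lam hlam]
  have hl : l lam ∈ N k lam := by simpa using l_mem_N k lam k.one_mem
  have hl' : l (-lam) ∈ N k lam := by rw [← l_inv]; exact (N k lam).inv_mem hl
  exact (N k lam).mul_mem ((N k lam).mul_mem hl' (hnorm _ hl')) hl

lemma exists_sq_sub_sq [Finite F] (k : Subfield F) (a : F) (ha : a ∈ k) :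
    ∃ s ∈ k, ∃ t ∈ k, a = s ^ 2 - t ^ 2 := by
  by_cases h2 : (2 : F) = 0
  · have hinj : Function.Injective (fun s : k => s ^ 2) := by
      intro s t hst
      have hst' : (s : F) ^ 2 = (t : F) ^ 2 := by
        have := congrArg (Subtype.val) hst
        simpa using this
      have h0 : ((s : F) - t) ^ 2 = 0 := by
        linear_combination hst' + ((t : F) ^ 2 - s * t) * h2
      have h1 : (s : F) - t = 0 := by simpa using h0
      exact Subtype.ext (sub_eq_zero.1 h1)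
    obtain ⟨s, hs⟩ := Finite.surjective_of_injective hinj ⟨a, ha⟩
    refine ⟨s, s.2, 0, k.zero_mem, ?_⟩
    have := congrArg (Subtype.val) hs
    simp at this
    simp [this]
  · refine ⟨(a + 1) / 2, k.div_mem (k.add_mem ha k.one_mem) (k.add_mem k.one_mem k.one_mem |> fun h => by
        have e : (1 : F) + 1 = 2 := by norm_num
        rwa [e] at h), (a - 1) / 2, k.div_mem (k.sub_mem ha k.one_mem)
        (k.add_mem k.one_mem k.one_mem |> fun h => by
        have e : (1 : F) + 1 = 2 := by norm_num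
        rwa [e] at h), ?_⟩
    field_simp
    ring

theorem N_eq_top_aux [Finite F] (k : Subfield F)
    (hb : ∃ b ∈ k, b ≠ 0 ∧ b + 1 ≠ 0)
    (hsq : ∀ x : F, x ^ 2 ∈ k → x ∈ k)
    (hgen : ∀ μ : F, μ ∉ k → ∀ A : AddSubgroup F, (∀ a ∈ k, ∀ z ∈ A, a * z ∈ A) →
      (∀ z ∈ A, μ * z ∈ A) → (1 : F) ∈ A → A = ⊤) :
    ∀ n : ℕ, ∀ lam : F, lam ∉ k → Nat.card (N k lam) ≤ n → N k lam = ⊤ := by
  intro n
  induction n with
  | zero =>
    intro lam _ h
    have : 0 < Nat.card (N k lam) := Nat.card_pos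
    omega
  | succ n ih =>
    intro lam hlam hcard
    have hlam0 : lam ≠ 0 := fun h => hlam (h ▸ k.zero_mem)
    have hlam2 : lam ^ 2 ∉ k := fun h => hlam (hsq lam h)
    have hlam20 : lam ^ 2 ≠ 0 := pow_ne_zero 2 hlam0
    have hlam4 : (lam ^ 2) ^ 2 ∉ k := fun h => hlam2 (hsq _ h)
    have top_of_top : ∀ (μ : F), μ ≠ 0 → N k (μ ^ 2) = ⊤ → N k μ = ⊤ := by
      intro μ hμ htop
      rw [eq_top_iff]
      intro g _
      have := step3 k μ hμ 1 k.one_mem one_ne_zero ((u (1 * μ)⁻¹)⁻¹ * g * u (1 * μ)⁻¹)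
        (by rw [htop]; trivial)
      have e : u (1 * μ)⁻¹ * ((u (1 * μ)⁻¹)⁻¹ * g * u (1 * μ)⁻¹) * (u (1 * μ)⁻¹)⁻¹ = g := by group
      rwa [e] at this
    by_cases hP : ∀ b ∈ k, b ≠ 0 → ∀ g ∈ N k lam,
        (u (b * lam)⁻¹)⁻¹ * g * u (b * lam)⁻¹ ∈ N k (lam ^ 2)
    swap
    · push Not at hP
      obtain ⟨b, hbk, hb0, g, hg, hg'⟩ := hP
      have hlt := card_lt k lam hlam0 b hbk hb0 g hg hg'
      exact top_of_top lam hlam0 (ih (lam ^ 2) hlam2 (by omega))
    have hu1 : u lam⁻¹ ∈ N k lam := u_inv_mem k hb lam hlam0 hP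
    have hle : N k (lam ^ 2) ≤ N k lam := by
      intro g hg
      have := step3 k lam hlam0 1 k.one_mem one_ne_zero g hg
      rw [one_mul] at this
      have h2 := (N k lam).mul_mem ((N k lam).mul_mem ((N k lam).inv_mem hu1) this) hu1
      have e : (u lam⁻¹)⁻¹ * (u lam⁻¹ * g * (u lam⁻¹)⁻¹) * u lam⁻¹ = g := by group
      rwa [e] at h2
    by_cases hP2 : ∀ b ∈ k, b ≠ 0 → ∀ g ∈ N k (lam ^ 2),
        (u (b * lam ^ 2)⁻¹)⁻¹ * g * u (b * lam ^ 2)⁻¹ ∈ N k ((lam ^ 2) ^ 2)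
    swap
    · push Not at hP2
      obtain ⟨b, hbk, hb0, g, hg, hg'⟩ := hP2
      have hlt := card_lt k (lam ^ 2) hlam20 b hbk hb0 g hg hg'
      have hle' : Nat.card (N k (lam ^ 2)) ≤ Nat.card (N k lam) := Subgroup.card_le_of_le hle
      exact top_of_top lam hlam0 (top_of_top (lam ^ 2) hlam20 (ih _ hlam4 (by omega)))
    have hu2 : u (lam ^ 2)⁻¹ ∈ N k lam := hle (u_inv_mem k hb (lam ^ 2) hlam20 hP2)
    have hl1 : l lam ∈ N k lam := by simpa using l_mem_N k lam k.one_mem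
    have hl2 : l (lam ^ 2) ∈ N k lam := hle (by simpa using l_mem_N k (lam ^ 2) k.one_mem)
    have hd : d lam hlam0 ∈ N k lam := by
      rw [diag_eq lam hlam0]
      have hl1' : l (-lam) ∈ N k lam := by rw [← l_inv]; exact (N k lam).inv_mem hl1
      have hl2' : l (-(lam ^ 2)) ∈ N k lam := by rw [← l_inv]; exact (N k lam).inv_mem hl2
      exact (N k lam).mul_mem ((N k lam).mul_mem ((N k lam).mul_mem hu1 hl1') hu1)
        ((N k lam).inv_mem ((N k lam).mul_mem ((N k lam).mul_mem hu2 hl2') hu2))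
    -- the additive group of upper elementary matrices in `N`
    let A : AddSubgroup F :=
      { carrier := {z | u z ∈ N k lam}
        zero_mem' := by show u 0 ∈ N k lam; rw [u_zero]; exact (N k lam).one_mem
        add_mem' := by
          intro x y hx hy
          show u (x + y) ∈ N k lam
          rw [← u_mul]; exact (N k lam).mul_mem hx hy
        neg_mem' := by
          intro x hx
          show u (-x) ∈ N k lam
          rw [← u_inv]; exact (N k lam).inv_mem hx }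
    have hA : A = ⊤ := by
      apply hgen (lam ^ 2) hlam2 A
      · intro a ha z hz
        have hsqmem : ∀ s ∈ k, s ^ 2 * z ∈ A := by
          intro s hs
          by_cases hs0 : s = 0
          · rw [hs0]; simp
          · show u (s ^ 2 * z) ∈ N k lam
            rw [← d_u_d s hs0]
            exact norm_d k lam s hs hs0 _ hz
        obtain ⟨s, hs, t, ht, rfl⟩ := exists_sq_sub_sq k a ha
        rw [sub_mul]
        exact A.sub_mem (hsqmem s hs) (hsqmem t ht)
      · intro z hz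
        show u (lam ^ 2 * z) ∈ N k lam
        rw [← d_u_d lam hlam0]
        exact (N k lam).mul_mem ((N k lam).mul_mem hd hz) ((N k lam).inv_mem hd)
      · show u 1 ∈ N k lam
        exact u_mem_N k lam k.one_mem
    let A' : AddSubgroup F :=
      { carrier := {z | l (lam * z) ∈ N k lam}
        zero_mem' := by show l (lam * 0) ∈ N k lam; rw [mul_zero, l_zero]; exact (N k lam).one_mem
        add_mem' := by
          intro x y hx hy
          show l (lam * (x + y)) ∈ N k lam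
          rw [mul_add, ← l_mul]; exact (N k lam).mul_mem hx hy
        neg_mem' := by
          intro x hx
          show l (lam * (-x)) ∈ N k lam
          rw [mul_neg, ← l_inv]; exact (N k lam).inv_mem hx }
    have hA' : A' = ⊤ := by
      apply hgen (lam ^ 2) hlam2 A'
      · intro a ha z hz
        have hsqmem : ∀ s ∈ k, s ^ 2 * z ∈ A' := by
          intro s hs
          by_cases hs0 : s = 0
          · rw [hs0]; simp
          · show l (lam * (s ^ 2 * z)) ∈ N k lam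
            have e : lam * (s ^ 2 * z) = ((s⁻¹)⁻¹) ^ 2 * (lam * z) := by
              rw [inv_inv]; ring
            rw [e, ← d_l_d' s⁻¹ (inv_ne_zero hs0)]
            exact norm_d k lam s⁻¹ (k.inv_mem hs) (inv_ne_zero hs0) _ hz
        obtain ⟨s, hs, t, ht, rfl⟩ := exists_sq_sub_sq k a ha
        rw [sub_mul]
        exact A'.sub_mem (hsqmem s hs) (hsqmem t ht)
      · intro z hz
        show l (lam * (lam ^ 2 * z)) ∈ N k lam
        have e : lam * (lam ^ 2 * z) = lam ^ 2 * (lam * z) := by ring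
        rw [e, ← d_l_d lam hlam0]
        exact (N k lam).mul_mem ((N k lam).mul_mem ((N k lam).inv_mem hd) hz) hd
      · show l (lam * 1) ∈ N k lam
        exact l_mem_N k lam k.one_mem
    apply eq_top_of_u_l
    · intro z
      have : z ∈ A := by rw [hA]; trivial
      exact this
    · intro z
      have : z / lam ∈ A' := by rw [hA']; trivial
      have h2 : l (lam * (z / lam)) ∈ N k lam := this
      have e : lam * (z / lam) = z := by field_simp
      rwa [e] at h2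

/-- **Generation theorem.** -/
theorem N_eq_top [Finite F] (k : Subfield F)
    (hb : ∃ b ∈ k, b ≠ 0 ∧ b + 1 ≠ 0)
    (hsq : ∀ x : F, x ^ 2 ∈ k → x ∈ k)
    (hgen : ∀ μ : F, μ ∉ k → ∀ A : AddSubgroup F, (∀ a ∈ k, ∀ z ∈ A, a * z ∈ A) →
      (∀ z ∈ A, μ * z ∈ A) → (1 : F) ∈ A → A = ⊤)
    (lam : F) (hlam : lam ∉ k) : N k lam = ⊤ :=
  N_eq_top_aux k hb hsq hgen _ lam hlam le_rfl

/-- **Maximality.** Every subgroup properly containing `Sk k` is everything. -/
theorem eq_top_of_not_le [Finite F] (k : Subfield F)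
    (hb : ∃ b ∈ k, b ≠ 0 ∧ b + 1 ≠ 0)
    (hsq : ∀ x : F, x ^ 2 ∈ k → x ∈ k)
    (hgen : ∀ μ : F, μ ∉ k → ∀ A : AddSubgroup F, (∀ a ∈ k, ∀ z ∈ A, a * z ∈ A) →
      (∀ z ∈ A, μ * z ∈ A) → (1 : F) ∈ A → A = ⊤)
    (K : Subgroup SL(2, F)) (hle : Sk k ≤ K) (hne : ¬ K ≤ Sk k) : K = ⊤ := by
  by_cases h : ∃ g ∈ K, (g.1 1 0) ^ 2 ∉ k
  · obtain ⟨g, hg, hc⟩ := h
    have hc0 : g.1 1 0 ≠ 0 := by
      intro h0
      rw [h0] at hc
      exact hc (by simp [k.zero_mem])
    have htop := N_eq_top k hb hsq hgen _ hc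
    have hle2 : N k ((g.1 1 0) ^ 2) ≤
        K.comap (MulAut.conj (u (g.1 0 0 / g.1 1 0))).toMonoidHom := by
      rw [N, Subgroup.closure_le]
      rintro x (⟨a, ha, rfl⟩ | ⟨a, ha, rfl⟩)
      · show (MulAut.conj (u (g.1 0 0 / g.1 1 0))) (u a) ∈ K
        rw [MulAut.conj_apply, u_inv, u_mul, u_mul]
        have : g.1 0 0 / g.1 1 0 + a + -(g.1 0 0 / g.1 1 0) = a := by ring
        rw [this]; exact hle (u_mem_Sk ha)
      · show (MulAut.conj (u (g.1 0 0 / g.1 1 0))) (l ((g.1 1 0) ^ 2 * a)) ∈ K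
        rw [MulAut.conj_apply, conj_gen g hc0]
        exact K.mul_mem (K.mul_mem hg (hle (u_mem_Sk (k.neg_mem ha)))) (K.inv_mem hg)
    rw [htop] at hle2
    rw [eq_top_iff]
    intro x _
    have h1 : (MulAut.conj (u (g.1 0 0 / g.1 1 0)))
        ((u (g.1 0 0 / g.1 1 0))⁻¹ * x * u (g.1 0 0 / g.1 1 0)) ∈ K :=
      hle2 (Subgroup.mem_top _)
    rw [MulAut.conj_apply] at h1
    have e : u (g.1 0 0 / g.1 1 0) * ((u (g.1 0 0 / g.1 1 0))⁻¹ * x * u (g.1 0 0 / g.1 1 0)) *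
        (u (g.1 0 0 / g.1 1 0))⁻¹ = x := by group
    rwa [e] at h1
  · push Not at h
    exfalso; apply hne
    intro g hg
    have hw : (w : SL(2, F)) ∈ K := hle w_mem_Sk
    have h10 := hsq _ (h g hg)
    have h11 := hsq _ (h (g * w) (K.mul_mem hg hw))
    have h00 := hsq _ (h (w * g) (K.mul_mem hw hg))
    have h01 := hsq _ (h (w * g * w) (K.mul_mem (K.mul_mem hw hg) hw))
    simp only [mul10, mul11, w00, w10, w11, mul_zero, zero_mul, zero_add,
      add_zero, mul_neg, mul_one, neg_mul, one_mul, neg_neg, neg_mem_iff] at h11 h00 h01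
    exact ⟨h00, h01, h10, h11⟩

end main

end Cfsg.Agent.Lib.Helper98.SL2Sub
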