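import Mathlib
import Cfsg.Agent.Lib.Helper98.SL2Sub

/-!
# Subfield subgroups of `SL(2, F)` and `PSL(2, F)` for finite fields (helper98)

Field-theoretic input for `SL2Sub.eq_top_of_not_le` and the passage to `PSL(2, F)`.
-/

set_option autoImplicit false
set_option linter.style.haveILetI false
set_option linter.unnecessarySeqFocus false
set_option linter.unreachableTactic false
set_option linter.unusedTactic false
set_option linter.unusedVariables false

namespace Cfsg.Agent.Lib.Helper98.SL2Field

open Matrix MatrixGroups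
open Cfsg.Agent.Lib.Helper98.SL2Sub

/-- a finite field of cardinality `(card K)^r` contains a copy of `K` -/
theorem exists_ringHom {K F : Type*} [Field K] [Field F] [Finite K] [Finite F] (r : ℕ)
    (h : Nat.card F = Nat.card K ^ r) : Nonempty (K →+* F) := by
  obtain ⟨p, hp⟩ := CharP.exists K
  haveI := hp
  haveI : Fact p.Prime := ⟨CharP.char_is_prime K p⟩
  have hpp : p.Prime := CharP.char_is_prime K p
  haveI := Fintype.ofFinite K
  haveI := Fintype.ofFinite F
  obtain ⟨n, -, hn⟩ := FiniteField.card K p
  obtain ⟨p', hp'⟩ := CharP.exists F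
  haveI := hp'
  obtain ⟨m, hp'p, hm⟩ := FiniteField.card F p'
  have hpp' : p' = p := by
    have h1 : p' ∣ Nat.card F := by
      rw [Nat.card_eq_fintype_card, hm]
      exact dvd_pow_self _ m.ne_zero
    rw [h, Nat.card_eq_fintype_card, hn, ← pow_mul] at h1
    exact (Nat.prime_dvd_prime_iff_eq hp'p hpp).1 (hp'p.dvd_of_dvd_pow h1)
  subst hpp'
  letI : Algebra (ZMod p') K := ZMod.algebra K p'
  letI : Algebra (ZMod p') F := ZMod.algebra F p'
  have h1 := FiniteField.pow_finrank_eq_natCard p' K
  have h2 := FiniteField.pow_finrank_eq_natCard p' F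
  have h3 : Module.finrank (ZMod p') F = Module.finrank (ZMod p') K * r := by
    apply Nat.pow_right_injective hpp.two_le
    show p' ^ _ = p' ^ _
    rw [h2, h, ← h1, pow_mul]
  obtain ⟨f⟩ := FiniteField.nonempty_algHom_of_finrank_dvd (F := ZMod p') (K := K) (L := F)
    (h3 ▸ dvd_mul_right _ _)
  exact ⟨f.toRingHom⟩

section subfield
variable {F : Type*} [Field F] [Finite F]

lemma card_subfield_two_le (k : Subfield F) : 2 ≤ Nat.card k := by
  haveI := Fintype.ofFinite k
  rw [Nat.card_eq_fintype_card]
  exact Fintype.one_lt_card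

/-- if `[F : k] = r` is prime, every element outside `k` generates `F` -/
theorem adjoin_eq_top (k : Subfield F) (r : ℕ) (hr : r.Prime)
    (hcard : Nat.card F = Nat.card k ^ r) (μ : F) (hμ : μ ∉ k) :
    IntermediateField.adjoin k {μ} = ⊤ := by
  have hfin : Module.finrank k F = r := by
    have h1 := Module.natCard_eq_pow_finrank (K := k) (V := F)
    rw [hcard] at h1
    exact (Nat.pow_right_injective (card_subfield_two_le k) h1).symm
  set E := IntermediateField.adjoin k {μ} with hE
  have hmul := Module.finrank_mul_finrank k E F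
  rw [hfin] at hmul
  have hdvd : Module.finrank k E ∣ r := ⟨_, hmul.symm⟩
  rcases (Nat.dvd_prime hr).1 hdvd with h1 | h1
  · exfalso
    rw [IntermediateField.finrank_eq_one_iff] at h1
    have hmem : μ ∈ E := IntermediateField.mem_adjoin_simple_self k μ
    rw [h1, IntermediateField.mem_bot] at hmem
    obtain ⟨x, hx⟩ := hmem
    apply hμ
    rw [← hx]
    exact x.2
  · rw [h1] at hmul
    have h2 : Module.finrank E F = 1 := by
      have hr0 : 0 < r := hr.pos
      nlinarith [Nat.eq_of_mul_eq_mul_left hr0 (by rw [mul_one]; exact hmul :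
        r * Module.finrank E F = r * 1)]
    exact IntermediateField.finrank_eq_one_iff_eq_top.1 h2

theorem hgen_of_prime (k : Subfield F) (r : ℕ) (hr : r.Prime)
    (hcard : Nat.card F = Nat.card k ^ r) :
    ∀ μ : F, μ ∉ k → ∀ A : AddSubgroup F, (∀ a ∈ k, ∀ z ∈ A, a * z ∈ A) →
      (∀ z ∈ A, μ * z ∈ A) → (1 : F) ∈ A → A = ⊤ := by
  intro μ hμ A hk hmu h1
  haveI := Fintype.ofFinite F
  have hpow : ∀ x : F, (∀ z ∈ A, x * z ∈ A) → ∀ n : ℕ, ∀ z ∈ A, x ^ n * z ∈ A := by
    intro x hx n
    induction n with
    | zero => intro z hz; simpa using hz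
    | succ n ih =>
      intro z hz
      rw [pow_succ, mul_assoc]
      exact ih _ (hx z hz)
  let S : IntermediateField k F :=
    { carrier := {y | ∀ z ∈ A, y * z ∈ A}
      mul_mem' := fun {x y} hx hy z hz => by rw [mul_assoc]; exact hx _ (hy z hz)
      one_mem' := fun z hz => by rwa [one_mul]
      add_mem' := fun {x y} hx hy z hz => by rw [add_mul]; exact A.add_mem (hx z hz) (hy z hz)
      zero_mem' := fun z hz => by rw [zero_mul]; exact A.zero_mem
      algebraMap_mem' := fun a z hz => hk a.1 a.2 z hz
      inv_mem' := by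
        intro x hx
        by_cases hx0 : x = 0
        · rw [hx0, _root_.inv_zero]
          intro z hz
          rw [zero_mul]; exact A.zero_mem
        · have h := FiniteField.pow_card_sub_one_eq_one x hx0
          have hc : 2 ≤ Fintype.card F := Fintype.one_lt_card
          have hinv : x⁻¹ = x ^ (Fintype.card F - 2) := by
            apply inv_eq_of_mul_eq_one_right
            rw [← pow_succ']
            have : Fintype.card F - 2 + 1 = Fintype.card F - 1 := by omega
            rw [this, h]
          rw [hinv]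
          exact hpow x hx _ }
  have hle : IntermediateField.adjoin k {μ} ≤ S := by
    rw [IntermediateField.adjoin_simple_le_iff]
    exact hmu
  rw [adjoin_eq_top k r hr hcard μ hμ] at hle
  rw [eq_top_iff]
  intro y _
  have : y ∈ S := hle (by trivial)
  have := this 1 h1
  rwa [mul_one] at this

theorem hsq_of_odd (k : Subfield F) (r : ℕ) (hr : r.Prime) (hr2 : r ≠ 2)
    (hcard : Nat.card F = Nat.card k ^ r) :
    ∀ x : F, x ^ 2 ∈ k → x ∈ k := by
  intro x hx
  by_contra hxk
  have htop := adjoin_eq_top k r hr hcard x hxk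
  have hfin : Module.finrank k F = r := by
    have h1 := Module.natCard_eq_pow_finrank (K := k) (V := F)
    rw [hcard] at h1
    exact (Nat.pow_right_injective (card_subfield_two_le k) h1).symm
  have hint : IsIntegral k x := Algebra.IsIntegral.isIntegral x
  have h1 := IntermediateField.adjoin.finrank hint
  rw [htop, IntermediateField.finrank_top', hfin] at h1
  have hdvd : minpoly k x ∣ (Polynomial.X ^ 2 - Polynomial.C (⟨x ^ 2, hx⟩ : k)) := by
    apply minpoly.dvd
    simp only [map_sub, map_pow, Polynomial.aeval_X, Polynomial.aeval_C]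
    exact sub_self (x ^ 2)
  have hne : (Polynomial.X ^ 2 - Polynomial.C (⟨x ^ 2, hx⟩ : k)) ≠ 0 :=
    Polynomial.X_pow_sub_C_ne_zero (by norm_num) _
  have h2 := Polynomial.natDegree_le_of_dvd hdvd hne
  rw [Polynomial.natDegree_X_pow_sub_C] at h2
  have := hr.two_le
  omega

theorem hsq_of_two (k : Subfield F) (h2 : (2 : F) = 0) :
    ∀ x : F, x ^ 2 ∈ k → x ∈ k := by
  intro x hx
  obtain ⟨s, hs, t, ht, hst⟩ := exists_sq_sub_sq k (x ^ 2) hx
  have h0 : (x - (s - t)) ^ 2 = 0 := by
    linear_combination hst + (s ^ 2 - x * s + x * t - s * t) * h2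
  have h1 : x - (s - t) = 0 := by simpa using h0
  rw [sub_eq_zero.1 h1]
  exact k.sub_mem hs ht

theorem hb_of_card (k : Subfield F) (hk : 2 < Nat.card k) :
    ∃ b ∈ k, b ≠ 0 ∧ b + 1 ≠ 0 := by
  classical
  haveI := Fintype.ofFinite k
  by_contra hcon
  push Not at hcon
  have hsub : (Finset.univ : Finset k) ⊆ {0, -1} := by
    intro b _
    by_cases hb0 : b = 0
    · simp [hb0]
    · have := hcon b.1 b.2 (fun h => hb0 (Subtype.ext h))
      have hb1 : b = -1 := by
        apply Subtype.ext
        have : (b : F) = -1 := by linear_combination this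
        simpa using this
      simp [hb1]
  have := Finset.card_le_card hsub
  rw [Finset.card_univ, ← Nat.card_eq_fintype_card] at this
  have h2 : ({0, -1} : Finset k).card ≤ 2 := Finset.card_le_two
  omega

end subfield

/-- coatoms correspond under surjections -/
theorem isCoatom_map {G Q : Type*} [Group G] [Group Q] (f : G →* Q) (hf : Function.Surjective f)
    (M : Subgroup G) (hker : f.ker ≤ M) (hM : IsCoatom M) : IsCoatom (M.map f) := by
  constructor
  · intro htop
    apply hM.1
    rw [← Subgroup.comap_map_eq_self hker, htop, Subgroup.comap_top]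
  · intro K hK
    have h1 : M ≤ K.comap f := Subgroup.map_le_iff_le_comap.1 hK.le
    have h2 : M ≠ K.comap f := by
      intro h
      apply hK.ne
      rw [h, Subgroup.map_comap_eq_self_of_surjective hf]
    have h3 := hM.2 _ (lt_of_le_of_ne h1 h2)
    rw [← Subgroup.map_comap_eq_self_of_surjective hf K, h3, ← MonoidHom.range_eq_map,
      MonoidHom.range_eq_top.2 hf]

section psl
variable {K F : Type*} [Field K] [Field F]

lemma center_le_Sk (k : Subfield F) : Subgroup.center SL(2, F) ≤ Sk k := by
  intro g hg
  obtain ⟨r, hr, hg'⟩ := Matrix.SpecialLinearGroup.mem_center_iff.1 hg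
  have hg'' : g.1 = Matrix.scalar (Fin 2) r := hg'.symm
  rw [Fintype.card_fin] at hr
  have hrk : r ∈ k := by
    have h : (r - 1) * (r + 1) = 0 := by linear_combination hr
    rcases mul_eq_zero.1 h with h | h
    · rw [sub_eq_zero.1 h]; exact k.one_mem
    · rw [eq_neg_of_add_eq_zero_left h]; exact k.neg_mem k.one_mem
  refine ⟨?_, ?_, ?_, ?_⟩ <;> rw [hg''] <;> simp [Matrix.scalar_apply, hrk, k.zero_mem]

lemma map_entry (ι : K →+* F) (A : SL(2, K)) (i j : Fin 2) :
    (Matrix.SpecialLinearGroup.map (n := Fin 2) ι A).1 i j = ι (A.1 i j) := rfl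

lemma range_map (ι : K →+* F) :
    (Matrix.SpecialLinearGroup.map (n := Fin 2) ι).range = Sk ι.fieldRange := by
  ext g
  constructor
  · rintro ⟨A, rfl⟩
    refine ⟨?_, ?_, ?_, ?_⟩ <;> simp [Matrix.SpecialLinearGroup.map_apply_coe]
  · rintro ⟨⟨a, ha⟩, ⟨b, hb⟩, ⟨c, hc⟩, ⟨d, hd⟩⟩
    have hdet : a * d - b * c = 1 := by
      apply ι.injective
      rw [map_sub, map_mul, map_mul, ha, hb, hc, hd, map_one]
      exact det_eq g
    let A : SL(2, K) := ⟨!![a, b; c, d], by rw [Matrix.det_fin_two_of]; exact hdet⟩
    refine ⟨A, ?_⟩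
    apply sl2_ext
    · exact ha
    · exact hb
    · exact hc
    · exact hd

lemma ker_comp (ι : K →+* F) :
    ((QuotientGroup.mk' (Subgroup.center SL(2, F))).comp
      (Matrix.SpecialLinearGroup.map (n := Fin 2) ι)).ker = Subgroup.center SL(2, K) := by
  ext A
  rw [MonoidHom.mem_ker, MonoidHom.comp_apply, QuotientGroup.mk'_apply, QuotientGroup.eq_one_iff,
    Matrix.SpecialLinearGroup.mem_center_iff, Matrix.SpecialLinearGroup.mem_center_iff]
  constructor
  · rintro ⟨r, hr, hA⟩
    have h00 : ι (A.1 0 0) = r := by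
      have := congrFun (congrFun hA 0) 0
      simpa [Matrix.SpecialLinearGroup.map_apply_coe, Matrix.scalar_apply] using this.symm
    have h01 : ι (A.1 0 1) = 0 := by
      have := congrFun (congrFun hA 0) 1
      simpa [Matrix.SpecialLinearGroup.map_apply_coe, Matrix.scalar_apply] using this.symm
    have h10 : ι (A.1 1 0) = 0 := by
      have := congrFun (congrFun hA 1) 0
      simpa [Matrix.SpecialLinearGroup.map_apply_coe, Matrix.scalar_apply] using this.symm
    have h11 : ι (A.1 1 1) = r := by
      have := congrFun (congrFun hA 1) 1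
      simpa [Matrix.SpecialLinearGroup.map_apply_coe, Matrix.scalar_apply] using this.symm
    refine ⟨A.1 0 0, ?_, ?_⟩
    · apply ι.injective
      rw [map_pow, h00, hr, map_one]
    · ext i j
      fin_cases i <;> fin_cases j
      · simp [Matrix.scalar_apply]
      · simp [Matrix.scalar_apply]
        exact (ι.injective (by rw [h01, map_zero])).symm
      · simp [Matrix.scalar_apply]
        exact (ι.injective (by rw [h10, map_zero])).symm
      · simp [Matrix.scalar_apply]
        exact ι.injective (by rw [h00, h11])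
  · rintro ⟨r, hr, hA⟩
    refine ⟨ι r, by rw [← map_pow, hr, map_one], ?_⟩
    have hA' : A.1 = Matrix.scalar (Fin 2) r := hA.symm
    ext i j
    rw [map_entry, hA']
    fin_cases i <;> fin_cases j <;> simp [Matrix.scalar_apply]

/-- the image of `SL(2, k)` in `PSL(2, F)` is isomorphic to `PSL(2, K)` -/
noncomputable def pslIso (ι : K →+* F) :
    ((Sk ι.fieldRange).map (QuotientGroup.mk' (Subgroup.center SL(2, F)))) ≃*
      Matrix.ProjectiveSpecialLinearGroup (Fin 2) K :=
  let ψ := (QuotientGroup.mk' (Subgroup.center SL(2, F))).comp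
      (Matrix.SpecialLinearGroup.map (n := Fin 2) ι)
  have hr : (Sk ι.fieldRange).map (QuotientGroup.mk' (Subgroup.center SL(2, F))) = ψ.range := by
    rw [← range_map, MonoidHom.map_range]
  ((MulEquiv.subgroupCongr hr).trans (QuotientGroup.quotientKerEquivRange ψ).symm).trans
    (QuotientGroup.quotientMulEquivOfEq (ker_comp ι))

end psl

end Cfsg.Agent.Lib.Helper98.SL2Field
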