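import Mathlib
import Cfsg.Agent.Lib.Helper98.ClassEq
import Cfsg.Agent.Lib.Helper98.SL2Sub
import Cfsg.Agent.Lib.Helper53.SL2Unip
import Cfsg.Agent.S5997

set_option autoImplicit false

/-!
# Subgroups of `SL(2, F)` of order prime to the characteristic, and subgroups containing
unipotent elements

* `core`: a subgroup of `SL(2, F)` containing `-1` whose order is prime to the (odd)
  characteristic has commuting squares or order `24`, `48` or `120`;
* `unip_dichotomy`: a subgroup of order divisible by the characteristic is conjugate to a group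
  of upper triangular matrices or contains conjugates of `u a` and `l c` (same conjugating
  element);
* `abelian_of_triangular`: triangular groups of order prime to the characteristic are abelian.
-/

namespace Cfsg.Agent.Lib.Helper98.SL2Core

open Matrix MatrixGroups
open Cfsg.Agent.Lib.Helper98.SL2Sub
open Cfsg.Agent.Lib.Helper53.SL2Inv
open Cfsg.Agent.Lib.Helper53.SL2Unip

variable {F : Type*} [Field F]

/-- commuting is transitive through a non-central element -/
lemma comm_trans (a b c : SL(2, F)) (hb1 : b ≠ 1) (hb2 : b ≠ negOne) (hab : a * b = b * a)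
    (hbc : b * c = c * b) : a * c = c * a := by
  by_contra hne
  have hA : a.1 * b.1 = b.1 * a.1 := congrArg Subtype.val hab
  have hB : c.1 * b.1 = b.1 * c.1 := (congrArg Subtype.val hbc).symm
  have hAB : a.1 * c.1 ≠ c.1 * a.1 := fun h => hne (Subtype.ext h)
  obtain ⟨z, hz⟩ := Cfsg.Agent.S5997.scalar_of_comm a.1 c.1 b.1 hA hB hAB
  have h00 : b.1 0 0 = z := by rw [hz]; simp
  have h01 : b.1 0 1 = 0 := by rw [hz]; simp
  have h10 : b.1 1 0 = 0 := by rw [hz]; simp
  have h11 : b.1 1 1 = z := by rw [hz]; simp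
  have hd := det_eq b
  rw [h00, h01, h10, h11] at hd
  have hzz : z * z = 1 := by linear_combination hd
  rcases mul_self_eq_one_iff.1 hzz with h | h
  · apply hb1
    apply sl2_ext <;> simp [h00, h01, h10, h11, h]
  · apply hb2
    apply sl2_ext <;> simp [h00, h01, h10, h11, h, negOne]

/-- a conjugate of a `p'`-element inside its centralizer is the element or its inverse -/
lemma conj_eq_or (p : ℕ) [Fact p.Prime] [CharP F p] (h2 : (2 : F) ≠ 0) (g y : SL(2, F))
    (hg : (orderOf g).Coprime p) (hg1 : g ≠ 1) (hg2 : g ≠ negOne)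
    (hc : (y * g * y⁻¹) * g = g * (y * g * y⁻¹)) : y * g * y⁻¹ = g ∨ y * g * y⁻¹ = g⁻¹ := by
  rcases eq_or_of_commute g (y * g * y⁻¹) hc.symm (tr_conj y g).symm with h | h | h
  · rcases eq_one_or_negOne_of_tr p h2 g hg h with h' | h'
    · exact absurd h' hg1
    · exact absurd h' hg2
  · left; exact h.symm
  · right; exact eq_inv_of_mul_eq_one_right h

/-- the subgroup `{1, -1}` -/
def Zc : Subgroup SL(2, F) where
  carrier := {x | x = 1 ∨ x = negOne}
  one_mem' := Or.inl rfl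
  mul_mem' := by
    rintro x y (rfl | rfl) (rfl | rfl)
    · left; simp
    · right; simp
    · right; simp
    · left; exact negOne_mul_negOne
  inv_mem' := by
    rintro x (rfl | rfl)
    · left; simp
    · right; exact inv_eq_of_mul_eq_one_right negOne_mul_negOne

lemma mem_Zc {x : SL(2, F)} : x ∈ (Zc : Subgroup SL(2, F)) ↔ x = 1 ∨ x = negOne := Iff.rfl

lemma card_Zc (h2 : (2 : F) ≠ 0) : Nat.card (Zc : Subgroup SL(2, F)) = 2 := by
  have : ((Zc : Subgroup SL(2, F)) : Set SL(2, F)) = {1, negOne} := by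
    ext x
    simp [Zc]
  show Nat.card ((Zc : Subgroup SL(2, F)) : Set SL(2, F)) = 2
  rw [Nat.card_coe_set_eq, this, Set.ncard_pair (negOne_ne_one h2).symm]

lemma center_eq : Subgroup.center SL(2, F) = Zc := by
  ext z
  rw [Subgroup.mem_center_iff, mem_Zc]
  constructor
  · intro hz
    by_contra hne
    push Not at hne
    have h1 := comm_trans (u 1) z (l 1) hne.1 hne.2 (hz (u 1)) (hz (l 1)).symm
    have h2 := congrArg (fun g : SL(2, F) => g.1 0 0) h1
    simp [mul00] at h2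
  · rintro (rfl | rfl) g
    · simp
    · exact (negOne_comm g).symm

/-- **The class equation for `p'`-subgroups of `SL(2, F)`.** -/
theorem core (p : ℕ) [Fact p.Prime] [CharP F p] (h2 : (2 : F) ≠ 0) (H : Subgroup SL(2, F))
    [Finite H] (hneg : negOne ∈ H) (hp : ¬ p ∣ Nat.card H) :
    (∀ x ∈ H, ∀ y ∈ H, x ^ 2 * y ^ 2 = y ^ 2 * x ^ 2) ∨ Nat.card H = 24 ∨ Nat.card H = 48 ∨
      Nat.card H = 120 := by
  have hpp : p.Prime := Fact.out
  have hZH : (Zc : Subgroup SL(2, F)) ≤ H := by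
    rintro x (rfl | rfl)
    · exact H.one_mem
    · exact hneg
  have hcardZ : Nat.card ((Zc : Subgroup SL(2, F)).subgroupOf H) = 2 := by
    rw [Nat.card_congr (Subgroup.subgroupOfEquivOfLe hZH).toEquiv, card_Zc h2]
  have hmem : ∀ b : H, b ∉ (Zc : Subgroup SL(2, F)).subgroupOf H → b.1 ≠ 1 ∧ b.1 ≠ negOne := by
    intro b hb
    rw [Subgroup.mem_subgroupOf] at hb
    exact ⟨fun h => hb (Or.inl h), fun h => hb (Or.inr h)⟩
  have key := ClassEq.main (K := H) ((Zc : Subgroup SL(2, F)).subgroupOf H) ?_ ?_ ?_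
  · rw [hcardZ] at key
    rcases key with h | h | h | h
    · left
      intro x hx y hy
      have := h ⟨x, hx⟩ ⟨y, hy⟩
      exact congrArg Subtype.val this
    · right; left; rw [h]
    · right; right; left; rw [h]
    · right; right; right; rw [h]
  · rintro ⟨z, hz⟩ hzZ ⟨x, hx⟩
    rw [Subgroup.mem_subgroupOf] at hzZ
    apply Subtype.ext
    show z * x = x * z
    rcases hzZ with h | h
    · have h' : z = 1 := h
      rw [h']; simp
    · have h' : z = negOne := h
      rw [h']; exact negOne_comm x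
  · intro a b c hb hab hbc
    obtain ⟨hb1, hb2⟩ := hmem b hb
    apply Subtype.ext
    exact comm_trans a.1 b.1 c.1 hb1 hb2 (congrArg Subtype.val hab) (congrArg Subtype.val hbc)
  · intro g y hg hc
    obtain ⟨hg1, hg2⟩ := hmem g hg
    have hord : (orderOf g.1).Coprime p := by
      rw [Subgroup.orderOf_coe]
      have hdvd : orderOf g ∣ Nat.card H := orderOf_dvd_natCard g
      exact Nat.Coprime.coprime_dvd_left hdvd ((Nat.Prime.coprime_iff_not_dvd hpp).2 hp).symm
    rcases conj_eq_or p h2 g.1 y.1 hord hg1 hg2 (congrArg Subtype.val hc) with h | h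
    · left; exact Subtype.ext h
    · right; exact Subtype.ext h

/-- a non-trivial element of trace two is conjugate to an upper elementary matrix -/
lemma exists_conj_u (x : SL(2, F)) (htr : x.1 0 0 + x.1 1 1 = 2) (hx : x ≠ 1) :
    ∃ (g : SL(2, F)) (a : F), a ≠ 0 ∧ g * x * g⁻¹ = u a := by
  have hd := det_eq x
  by_cases hc : x.1 1 0 = 0
  · have h00 : x.1 0 0 = 1 := by
      have : (x.1 0 0 - 1) ^ 2 = 0 := by
        rw [hc] at hd
        linear_combination (x.1 0 0) * htr - hd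
      exact sub_eq_zero.1 ((pow_eq_zero_iff two_ne_zero).1 this)
    have h11 : x.1 1 1 = 1 := by linear_combination htr - h00
    refine ⟨1, x.1 0 1, ?_, ?_⟩
    · intro h0
      apply hx
      apply sl2_ext <;> simp [h00, h11, hc, h0]
    · rw [one_mul, inv_one, mul_one]
      apply sl2_ext <;> simp [h00, h11, hc]
  · refine ⟨w * u ((1 - x.1 0 0) / x.1 1 0), -(x.1 1 0), neg_ne_zero.2 hc, ?_⟩
    have h1 : u ((1 - x.1 0 0) / x.1 1 0) * x * (u ((1 - x.1 0 0) / x.1 1 0))⁻¹ =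
        l (x.1 1 0) := by
      apply sl2_ext <;> simp only [mul00, mul01, mul10, mul11, inv00, inv01, inv10, inv11,
        u00, u01, u10, u11, l00, l01, l10, l11] <;> field_simp
      · ring
      · linear_combination htr - hd
      · ring
      · linear_combination (x.1 1 0) * htr
    have e : w * u ((1 - x.1 0 0) / x.1 1 0) * x * (w * u ((1 - x.1 0 0) / x.1 1 0))⁻¹ =
        w * (u ((1 - x.1 0 0) / x.1 1 0) * x * (u ((1 - x.1 0 0) / x.1 1 0))⁻¹) * w⁻¹ := by
      group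
    rw [e, h1, w_l_w]

/-- **Unipotent dichotomy.** -/
theorem unip_dichotomy (p : ℕ) [Fact p.Prime] [CharP F p] (H : Subgroup SL(2, F)) [Finite H]
    (hp : p ∣ Nat.card H) :
    (∃ g : SL(2, F), ∀ y ∈ H, (g * y * g⁻¹).1 1 0 = 0) ∨
    (∃ (g : SL(2, F)) (a c : F), a ≠ 0 ∧ c ≠ 0 ∧ g⁻¹ * u a * g ∈ H ∧ g⁻¹ * l c * g ∈ H) := by
  have hpp : p.Prime := Fact.out
  obtain ⟨x, hx⟩ := exists_prime_orderOf_dvd_card' p hp
  have hxp : x.1 ^ p = 1 := by
    rw [← Subgroup.coe_pow, ← hx, pow_orderOf_eq_one]; rfl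
  have htr : tr x.1 = 2 := tr_eq_two_of_pow p x.1 1 (by rw [pow_one]; exact hxp)
  have hx1 : x.1 ≠ 1 := by
    intro h
    have : x = 1 := Subtype.ext h
    rw [this, orderOf_one] at hx
    exact hpp.one_lt.ne hx
  obtain ⟨g₁, a, ha, hga⟩ := exists_conj_u x.1 htr hx1
  by_cases hall : ∀ y ∈ H, (g₁ * y * g₁⁻¹).1 1 0 = 0
  · left; exact ⟨g₁, hall⟩
  · right
    push Not at hall
    obtain ⟨y, hy, hγ⟩ := hall
    obtain ⟨y', hy'⟩ : ∃ y', y' = g₁ * y * g₁⁻¹ := ⟨_, rfl⟩
    rw [← hy'] at hγ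
    have hcg := conj_gen y' hγ (-a)
    rw [neg_neg] at hcg
    refine ⟨(u (y'.1 0 0 / y'.1 1 0))⁻¹ * g₁, a, (y'.1 1 0) ^ 2 * -a, ha, ?_, ?_, ?_⟩
    · exact mul_ne_zero (pow_ne_zero 2 hγ) (neg_ne_zero.2 ha)
    · have e : ((u (y'.1 0 0 / y'.1 1 0))⁻¹ * g₁)⁻¹ * u a * ((u (y'.1 0 0 / y'.1 1 0))⁻¹ * g₁) =
          g₁⁻¹ * (u (y'.1 0 0 / y'.1 1 0) * u a * (u (y'.1 0 0 / y'.1 1 0))⁻¹) * g₁ := by group
      rw [e, u_inv, u_mul, u_mul]
      have e2 : y'.1 0 0 / y'.1 1 0 + a + -(y'.1 0 0 / y'.1 1 0) = a := by ring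
      rw [e2, ← hga]
      have e3 : g₁⁻¹ * (g₁ * x.1 * g₁⁻¹) * g₁ = x.1 := by group
      rw [e3]; exact x.2
    · have e : ((u (y'.1 0 0 / y'.1 1 0))⁻¹ * g₁)⁻¹ * l ((y'.1 1 0) ^ 2 * -a) *
          ((u (y'.1 0 0 / y'.1 1 0))⁻¹ * g₁) =
          g₁⁻¹ * (u (y'.1 0 0 / y'.1 1 0) * l ((y'.1 1 0) ^ 2 * -a) *
            (u (y'.1 0 0 / y'.1 1 0))⁻¹) * g₁ := by group
      rw [e, hcg, ← hga, hy']
      have e3 : g₁⁻¹ * (g₁ * y * g₁⁻¹ * (g₁ * x.1 * g₁⁻¹) * (g₁ * y * g₁⁻¹)⁻¹) * g₁ =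
          y * x.1 * y⁻¹ := by group
      rw [e3]
      exact H.mul_mem (H.mul_mem hy x.2) (H.inv_mem hy)

/-- triangular groups of order prime to the characteristic are abelian -/
theorem abelian_of_triangular (p : ℕ) [Fact p.Prime] [CharP F p] (H : Subgroup SL(2, F))
    [Finite H] (hp : ¬ p ∣ Nat.card H) (g : SL(2, F))
    (hg : ∀ y ∈ H, (g * y * g⁻¹).1 1 0 = 0) : ∀ x ∈ H, ∀ y ∈ H, x * y = y * x := by
  intro x hx y hy
  have hpp : p.Prime := Fact.out
  obtain ⟨x', hx'⟩ : ∃ x', x' = g * x * g⁻¹ := ⟨_, rfl⟩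
  obtain ⟨y', hy'⟩ : ∃ y', y' = g * y * g⁻¹ := ⟨_, rfl⟩
  have hx10 : x'.1 1 0 = 0 := by rw [hx']; exact hg x hx
  have hy10 : y'.1 1 0 = 0 := by rw [hy']; exact hg y hy
  have hdx := det_eq x'
  have hdy := det_eq y'
  rw [hx10] at hdx
  rw [hy10] at hdy
  have htr : tr (x' * y' * x'⁻¹ * y'⁻¹) = 2 := by
    show (x' * y' * x'⁻¹ * y'⁻¹).1 0 0 + (x' * y' * x'⁻¹ * y'⁻¹).1 1 1 = 2
    simp only [mul00, mul01, mul10, mul11, inv00, inv01, inv10, inv11, hx10, hy10]
    linear_combination (2 * y'.1 0 0 * y'.1 1 1) * hdx + 2 * hdy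
  have hpow := pow_char_eq_one p _ htr
  have hc : (x * y * x⁻¹ * y⁻¹) ^ p = 1 := by
    have e : x' * y' * x'⁻¹ * y'⁻¹ = g * (x * y * x⁻¹ * y⁻¹) * g⁻¹ := by rw [hx', hy']; group
    rw [e, conj_pow] at hpow
    have h3 := congrArg (fun t => g⁻¹ * t * g) hpow
    simp only [mul_one, inv_mul_cancel] at h3
    rw [← h3]; group
  have hcH : x * y * x⁻¹ * y⁻¹ ∈ H :=
    H.mul_mem (H.mul_mem (H.mul_mem hx hy) (H.inv_mem hx)) (H.inv_mem hy)
  have hord : orderOf (x * y * x⁻¹ * y⁻¹) ∣ p := orderOf_dvd_of_pow_eq_one hc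
  have hord2 : orderOf (x * y * x⁻¹ * y⁻¹) ∣ Nat.card H := by
    have := orderOf_dvd_natCard (⟨_, hcH⟩ : H)
    rwa [← Subgroup.orderOf_coe] at this
  have h1 : orderOf (x * y * x⁻¹ * y⁻¹) = 1 := by
    rcases (Nat.dvd_prime hpp).1 hord with h | h
    · exact h
    · exfalso; exact hp (h ▸ hord2)
  have hc1 : x * y * x⁻¹ * y⁻¹ = 1 := orderOf_eq_one_iff.1 h1
  calc x * y = (x * y * x⁻¹ * y⁻¹) * (y * x) := by group
    _ = y * x := by rw [hc1, one_mul]

/-- over a prime field, conjugates of `u a` and `l c` generate everything -/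
theorem eq_top_of_prime [Finite F] (p : ℕ) (hp : p.Prime) (hF : Nat.card F = p)
    (H : Subgroup SL(2, F)) (g : SL(2, F)) (a c : F) (ha : a ≠ 0) (hc : c ≠ 0)
    (hu : g⁻¹ * u a * g ∈ H) (hl : g⁻¹ * l c * g ∈ H) : H = ⊤ := by
  let A : AddSubgroup F :=
    { carrier := {t | g⁻¹ * u t * g ∈ H}
      zero_mem' := by
        show g⁻¹ * u 0 * g ∈ H
        rw [u_zero]; simp [H.one_mem]
      add_mem' := by
        intro s t hs ht
        show g⁻¹ * u (s + t) * g ∈ H
        have e : g⁻¹ * u (s + t) * g = (g⁻¹ * u s * g) * (g⁻¹ * u t * g) := by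
          rw [← u_mul]; group
        rw [e]; exact H.mul_mem hs ht
      neg_mem' := by
        intro s hs
        show g⁻¹ * u (-s) * g ∈ H
        have e : g⁻¹ * u (-s) * g = (g⁻¹ * u s * g)⁻¹ := by
          rw [← u_inv]; group
        rw [e]; exact H.inv_mem hs }
  let C : AddSubgroup F :=
    { carrier := {t | g⁻¹ * l t * g ∈ H}
      zero_mem' := by
        show g⁻¹ * l 0 * g ∈ H
        rw [l_zero]; simp [H.one_mem]
      add_mem' := by
        intro s t hs ht
        show g⁻¹ * l (s + t) * g ∈ H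
        have e : g⁻¹ * l (s + t) * g = (g⁻¹ * l s * g) * (g⁻¹ * l t * g) := by
          rw [← l_mul]; group
        rw [e]; exact H.mul_mem hs ht
      neg_mem' := by
        intro s hs
        show g⁻¹ * l (-s) * g ∈ H
        have e : g⁻¹ * l (-s) * g = (g⁻¹ * l s * g)⁻¹ := by
          rw [← l_inv]; group
        rw [e]; exact H.inv_mem hs }
  have top_of : ∀ B : AddSubgroup F, (∃ b ∈ B, b ≠ 0) → B = ⊤ := by
    rintro B ⟨b, hb, hb0⟩
    have hdvd : Nat.card B ∣ p := by rw [← hF]; exact AddSubgroup.card_addSubgroup_dvd_card B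
    rcases (Nat.dvd_prime hp).1 hdvd with h | h
    · exfalso
      have := AddSubgroup.eq_bot_of_card_eq B h
      rw [this, AddSubgroup.mem_bot] at hb
      exact hb0 hb
    · exact AddSubgroup.eq_top_of_card_eq B (by rw [h, hF])
  have hA : A = ⊤ := top_of A ⟨a, hu, ha⟩
  have hC : C = ⊤ := top_of C ⟨c, hl, hc⟩
  have hK : H.map (MulAut.conj g).toMonoidHom = ⊤ := by
    apply eq_top_of_u_l
    · intro z
      have hz : z ∈ A := by rw [hA]; trivial
      refine ⟨g⁻¹ * u z * g, hz, ?_⟩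
      show g * (g⁻¹ * u z * g) * g⁻¹ = u z
      group
    · intro z
      have hz : z ∈ C := by rw [hC]; trivial
      refine ⟨g⁻¹ * l z * g, hz, ?_⟩
      show g * (g⁻¹ * l z * g) * g⁻¹ = l z
      group
  rw [eq_top_iff]
  intro y _
  have : g * y * g⁻¹ ∈ H.map (MulAut.conj g).toMonoidHom := by rw [hK]; trivial
  obtain ⟨x, hx, hxy⟩ := this
  have hxy' : g * x * g⁻¹ = g * y * g⁻¹ := hxy
  have : x = y := by
    have := congrArg (fun t => g⁻¹ * t * g) hxy'
    simpa [mul_assoc] using this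
  rw [← this]; exact hx

end Cfsg.Agent.Lib.Helper98.SL2Core
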