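import Mathlib
import Cfsg.Agent.Lib.Helper98.SL2Core

set_option autoImplicit false

/-!
# Overgroups of small subgroups of `PSL(2, F)`

`psl_overgroup`: if `M ≤ L ≤ PSL(2, F)` (odd characteristic `p`), the squares of `M` do not
commute and `p ∤ 2 |M|`, then `|L| ∈ {12, 24, 60}` or the preimage of `L` in `SL(2, F)` contains
conjugates (by the same element) of an upper and of a lower elementary matrix.
-/

namespace Cfsg.Agent.Lib.Helper98.PSL2Max

open Matrix MatrixGroups
open Cfsg.Agent.Lib.Helper98.SL2Sub Cfsg.Agent.Lib.Helper98.SL2Core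
open Cfsg.Agent.Lib.Helper53.SL2Inv

variable {F : Type*} [Field F]

/-- the projection onto `PSL(2, F)` -/
abbrev proj : SL(2, F) →* Matrix.ProjectiveSpecialLinearGroup (Fin 2) F :=
  QuotientGroup.mk' (Subgroup.center SL(2, F))

lemma proj_surj : Function.Surjective (proj (F := F)) := QuotientGroup.mk'_surjective _

lemma finite_SL [Finite F] : Finite SL(2, F) :=
  Finite.of_injective (fun x : SL(2, F) => x.1) Subtype.val_injective

lemma card_center (h2 : (2 : F) ≠ 0) : Nat.card (Subgroup.center SL(2, F)) = 2 := by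
  rw [center_eq]; exact card_Zc h2

lemma card_comap [Finite F] (h2 : (2 : F) ≠ 0)
    (N : Subgroup (Matrix.ProjectiveSpecialLinearGroup (Fin 2) F)) :
    Nat.card (N.comap proj) = 2 * Nat.card N := by
  haveI : Finite SL(2, F) := finite_SL
  have h1 := Subgroup.card_mul_index (N.comap (proj (F := F)))
  have h2' := Subgroup.card_mul_index N
  have h3 : (N.comap (proj (F := F))).index = N.index :=
    Subgroup.index_comap_of_surjective N proj_surj
  have h4 : Nat.card SL(2, F) =
      Nat.card (Matrix.ProjectiveSpecialLinearGroup (Fin 2) F) * 2 := by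
    rw [Subgroup.card_eq_card_quotient_mul_card_subgroup (Subgroup.center SL(2, F)),
      card_center h2]
  have hidx : N.index ≠ 0 := Subgroup.index_ne_zero_of_finite
  rw [h3, h4, ← h2'] at h1
  have h5 : Nat.card (N.comap (proj (F := F))) * N.index = (2 * Nat.card N) * N.index := by
    rw [h1]; ring
  exact Nat.eq_of_mul_eq_mul_right (Nat.pos_of_ne_zero hidx) h5

lemma negOne_mem_comap (N : Subgroup (Matrix.ProjectiveSpecialLinearGroup (Fin 2) F)) :
    negOne ∈ N.comap (proj (F := F)) := by
  rw [Subgroup.mem_comap]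
  have : proj (negOne : SL(2, F)) = 1 := by
    rw [QuotientGroup.mk'_apply, QuotientGroup.eq_one_iff, center_eq]
    exact Or.inr rfl
  rw [this]; exact N.one_mem

/-- **Overgroups of small subgroups.** -/
theorem psl_overgroup [Finite F] (p : ℕ) [Fact p.Prime] [CharP F p] (h2 : (2 : F) ≠ 0)
    (M L : Subgroup (Matrix.ProjectiveSpecialLinearGroup (Fin 2) F)) (hML : M ≤ L)
    (hsq : ¬ ∀ s ∈ M, ∀ t ∈ M, s ^ 2 * t ^ 2 = t ^ 2 * s ^ 2)
    (hpM : ¬ p ∣ 2 * Nat.card M) :
    Nat.card L = 12 ∨ Nat.card L = 24 ∨ Nat.card L = 60 ∨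
      ∃ (g : SL(2, F)) (a c : F), a ≠ 0 ∧ c ≠ 0 ∧ g⁻¹ * u a * g ∈ L.comap proj ∧
        g⁻¹ * l c * g ∈ L.comap proj := by
  haveI : Finite SL(2, F) := finite_SL
  have hMLc : M.comap (proj (F := F)) ≤ L.comap proj := Subgroup.comap_mono hML
  have hcM := card_comap h2 M
  have hcL := card_comap h2 L
  have descend : (∀ x ∈ M.comap (proj (F := F)), ∀ y ∈ M.comap (proj (F := F)),
      x ^ 2 * y ^ 2 = y ^ 2 * x ^ 2) → False := by
    intro h
    apply hsq
    intro s hs t ht
    obtain ⟨x, rfl⟩ := proj_surj s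
    obtain ⟨y, rfl⟩ := proj_surj t
    have := h x hs y ht
    rw [← map_pow, ← map_pow, ← map_mul, ← map_mul, this]
  by_cases hp : p ∣ Nat.card (L.comap (proj (F := F)))
  · rcases unip_dichotomy p _ hp with ⟨g, hg⟩ | h
    · exfalso
      apply descend
      have hab := abelian_of_triangular p (M.comap (proj (F := F)))
        (by rw [hcM]; exact hpM) g (fun y hy => hg y (hMLc hy))
      intro x hx y hy
      have hx2 : x ^ 2 ∈ M.comap (proj (F := F)) := Subgroup.pow_mem _ hx 2
      have hy2 : y ^ 2 ∈ M.comap (proj (F := F)) := Subgroup.pow_mem _ hy 2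
      exact hab _ hx2 _ hy2
    · right; right; right; exact h
  · rcases core p h2 _ (negOne_mem_comap L) hp with h | h | h | h
    · exfalso
      exact descend (fun x hx y hy => h x (hMLc hx) y (hMLc hy))
    · left; omega
    · right; left; omega
    · right; right; left; omega

/-- over a prime field, the last alternative of `psl_overgroup` forces `L = ⊤` -/
theorem eq_top_of_prime_psl [Finite F] (p : ℕ) (hp : p.Prime) (hF : Nat.card F = p)
    (L : Subgroup (Matrix.ProjectiveSpecialLinearGroup (Fin 2) F)) (g : SL(2, F)) (a c : F)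
    (ha : a ≠ 0) (hc : c ≠ 0) (hu : g⁻¹ * u a * g ∈ L.comap proj)
    (hl : g⁻¹ * l c * g ∈ L.comap proj) : L = ⊤ := by
  have := eq_top_of_prime p hp hF (L.comap proj) g a c ha hc hu hl
  rw [← Subgroup.map_comap_eq_self_of_surjective proj_surj L, this, ← MonoidHom.range_eq_map,
    MonoidHom.range_eq_top.2 proj_surj]

lemma prime_le_three_of_dvd {p a : ℕ} (hp : p.Prime) (h : p ∣ 2 ^ a * 3) : p ≤ 3 := by
  rcases (Nat.Prime.dvd_mul hp).1 h with h | h
  · have := hp.dvd_of_dvd_pow h
    have := Nat.le_of_dvd (by norm_num) this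
    omega
  · exact Nat.le_of_dvd (by norm_num) h

lemma prime_le_five_of_dvd {p a : ℕ} (hp : p.Prime) (h : p ∣ 2 ^ a * 3 * 5) : p ≤ 5 := by
  rcases (Nat.Prime.dvd_mul hp).1 h with h | h
  · have := prime_le_three_of_dvd hp h
    omega
  · exact Nat.le_of_dvd (by norm_num) h

end Cfsg.Agent.Lib.Helper98.PSL2Max
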