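import Mathlib
import Cfsg.Agent.Lib.Helper98.PSL2Max
import Cfsg.Agent.Lib.Helper42.SL2Odd

/-!
# Torus normalizers in `SL(2, F)`

* `NorInv a`: the elements conjugating `a` to `a` or to `a⁻¹` (any group); its order is once or
  twice the order of the centralizer of `a`, and it is solvable when that centralizer is abelian.
* a `p'`-subgroup of `SL(2, F)` (odd characteristic, containing `-1`) whose squares commute lies
  in the centre or in some `NorInv a`; hence its order divides `2(q - 1)` or `2(q + 1)`.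
* solvable subgroups of order `2(q - 1)` and (for `q ≡ 3 mod 4`) `2(q + 1)`.
-/

set_option autoImplicit false

namespace Cfsg.Agent.Lib.Helper98.SL2Tor

section general
variable {G : Type*} [Group G]

/-- the elements conjugating `a` to `a` or to `a⁻¹` -/
def NorInv (a : G) : Subgroup G where
  carrier := {y | y * a * y⁻¹ = a ∨ y * a * y⁻¹ = a⁻¹}
  one_mem' := by left; simp
  mul_mem' := by
    rintro y z hy hz
    have e : (y * z) * a * (y * z)⁻¹ = y * (z * a * z⁻¹) * y⁻¹ := by group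
    have e' : y * a⁻¹ * y⁻¹ = (y * a * y⁻¹)⁻¹ := by group
    show (y * z) * a * (y * z)⁻¹ = a ∨ (y * z) * a * (y * z)⁻¹ = a⁻¹
    rw [e]
    rcases hz with hz | hz <;> rcases hy with hy | hy
    · left; rw [hz, hy]
    · right; rw [hz, hy]
    · right; rw [hz, e', hy]
    · left; rw [hz, e', hy, inv_inv]
  inv_mem' := by
    rintro y hy
    show y⁻¹ * a * y⁻¹⁻¹ = a ∨ y⁻¹ * a * y⁻¹⁻¹ = a⁻¹
    rcases hy with hy | hy
    · left
      calc y⁻¹ * a * y⁻¹⁻¹ = y⁻¹ * (y * a * y⁻¹) * y := by rw [hy, inv_inv]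
        _ = a := by group
    · right
      have h' : y * a⁻¹ * y⁻¹ = a := by
        have e : y * a⁻¹ * y⁻¹ = (y * a * y⁻¹)⁻¹ := by group
        rw [e, hy, inv_inv]
      calc y⁻¹ * a * y⁻¹⁻¹ = y⁻¹ * (y * a⁻¹ * y⁻¹) * y := by rw [h', inv_inv]
        _ = a⁻¹ := by group

lemma mem_norInv {a y : G} : y ∈ NorInv a ↔ y * a * y⁻¹ = a ∨ y * a * y⁻¹ = a⁻¹ := Iff.rfl

lemma conj_eq_iff (a x : G) : x * a * x⁻¹ = a ↔ x * a = a * x := mul_inv_eq_iff_eq_mul

lemma centralizer_le_norInv (a : G) : Subgroup.centralizer {a} ≤ NorInv a := by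
  intro x hx
  rw [Subgroup.mem_centralizer_singleton_iff] at hx
  exact Or.inl ((conj_eq_iff a x).2 hx)

/-- the centralizer of `a` inside `NorInv a` -/
def Cen (a : G) : Subgroup (NorInv a) := (Subgroup.centralizer {a}).subgroupOf (NorInv a)

lemma mem_Cen {a : G} {x : NorInv a} : x ∈ Cen a ↔ x.1 * a = a * x.1 := by
  rw [Cen, Subgroup.mem_subgroupOf, Subgroup.mem_centralizer_singleton_iff]

lemma not_mem_Cen {a : G} {x : NorInv a} (hx : x ∉ Cen a) : x.1 * a * x.1⁻¹ = a⁻¹ := by
  rcases x.2 with h | h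
  · exact absurd (mem_Cen.2 ((conj_eq_iff a x.1).1 h)) hx
  · exact h

lemma card_Cen (a : G) : Nat.card (Cen a) = Nat.card (Subgroup.centralizer {a}) :=
  Nat.card_congr (Subgroup.subgroupOfEquivOfLe (centralizer_le_norInv a)).toEquiv

lemma index_Cen (a : G) : (Cen a).index = 1 ∨ (Cen a).index = 2 := by
  by_cases htop : Cen a = ⊤
  · left; rw [htop]; exact Subgroup.index_top
  · right
    obtain ⟨y₀, hy₀⟩ : ∃ y₀ : NorInv a, y₀ ∉ Cen a := by
      by_contra h
      push Not at h
      exact htop (eq_top_iff.2 fun x _ => h x)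
    rw [Subgroup.index_eq_two_iff]
    refine ⟨y₀, fun b => ?_⟩
    by_cases hb : b ∈ Cen a
    · right
      exact ⟨hb, fun h => hy₀ ((Subgroup.mul_mem_cancel_left (Cen a) hb).1 h)⟩
    · left
      refine ⟨?_, hb⟩
      rw [mem_Cen]
      have h1 := not_mem_Cen hb
      have h2 := not_mem_Cen hy₀
      have e : (b.1 * y₀.1) * a * (b.1 * y₀.1)⁻¹ = b.1 * (y₀.1 * a * y₀.1⁻¹) * b.1⁻¹ := by group
      have e' : b.1 * a⁻¹ * b.1⁻¹ = (b.1 * a * b.1⁻¹)⁻¹ := by group
      have h3 : (b.1 * y₀.1) * a * (b.1 * y₀.1)⁻¹ = a := by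
        rw [e, h2, e', h1, inv_inv]
      exact (conj_eq_iff a _).1 h3

lemma index_Cen_of (a n₀ : G) (h : n₀ * a * n₀⁻¹ = a⁻¹) (hne : a ≠ a⁻¹) : (Cen a).index = 2 := by
  rcases index_Cen a with h1 | h1
  · exfalso
    rw [Subgroup.index_eq_one] at h1
    have hn : n₀ ∈ NorInv a := Or.inr h
    have : (⟨n₀, hn⟩ : NorInv a) ∈ Cen a := by rw [h1]; trivial
    rw [mem_Cen] at this
    have h2 : n₀ * a * n₀⁻¹ = a := (conj_eq_iff a n₀).2 this
    exact hne (h2.symm.trans h)
  · exact h1

lemma card_norInv_dvd [Finite G] (a : G) :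
    Nat.card (NorInv a) ∣ 2 * Nat.card (Subgroup.centralizer {a}) := by
  have h := Subgroup.card_mul_index (Cen a)
  rw [card_Cen] at h
  rcases index_Cen a with h1 | h1
  · rw [h1, mul_one] at h
    rw [← h]; exact Dvd.intro_left 2 rfl
  · rw [h1] at h
    rw [← h, mul_comm]

lemma card_norInv_eq [Finite G] (a n₀ : G) (h : n₀ * a * n₀⁻¹ = a⁻¹) (hne : a ≠ a⁻¹) :
    Nat.card (NorInv a) = 2 * Nat.card (Subgroup.centralizer {a}) := by
  have h' := Subgroup.card_mul_index (Cen a)
  rw [card_Cen, index_Cen_of a n₀ h hne] at h'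
  rw [← h', mul_comm]

lemma isSolvable_norInv [Finite G] (a : G)
    (hab : ∀ x ∈ Subgroup.centralizer {a}, ∀ y ∈ Subgroup.centralizer {a}, x * y = y * x) :
    Group.IsSolvable (NorInv a) := by
  haveI hCs : Group.IsSolvable (Cen a) := by
    apply Group.isSolvable_of_comm
    rintro ⟨x, hx⟩ ⟨y, hy⟩
    apply Subtype.ext
    apply Subtype.ext
    rw [Cen, Subgroup.mem_subgroupOf] at hx hy
    exact hab x.1 hx y.1 hy
  haveI hn : (Cen a).Normal := by
    rcases index_Cen a with h1 | h1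
    · rw [Subgroup.index_eq_one] at h1
      rw [h1]; infer_instance
    · exact Subgroup.normal_of_index_eq_two h1
  haveI hQ : Group.IsSolvable (NorInv a ⧸ Cen a) := by
    have hcard : Nat.card (NorInv a ⧸ Cen a) = (Cen a).index := rfl
    rcases index_Cen a with h1 | h1
    · rw [h1] at hcard
      haveI : Subsingleton (NorInv a ⧸ Cen a) := (Nat.card_eq_one_iff_unique.1 hcard).1
      apply Group.isSolvable_of_comm
      intro x y
      exact Subsingleton.elim _ _
    · rw [h1] at hcard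
      haveI : Fact (Nat.Prime 2) := ⟨Nat.prime_two⟩
      haveI : IsCyclic (NorInv a ⧸ Cen a) := isCyclic_of_prime_card hcard
      haveI := IsCyclic.isMulCommutative (α := NorInv a ⧸ Cen a)
      apply Group.isSolvable_of_comm
      intro x y
      exact mul_comm' x y
  exact Group.isSolvable_of_ker_le_range (Cen a).subtype (QuotientGroup.mk' (Cen a)) (by simp)

end general

open Matrix MatrixGroups
open Cfsg.Agent.Lib.Helper98.SL2Sub Cfsg.Agent.Lib.Helper98.SL2Core
open Cfsg.Agent.Lib.Helper53.SL2Inv Cfsg.Agent.Lib.Helper53.SL2Unip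

section sl2
variable {F : Type*} [Field F] [Fintype F]

lemma card_centralizer_split (a : SL(2, F)) (htr : (a.1 0 0 + a.1 1 1) ^ 2 ≠ 4) (r : F)
    (hr : r ^ 2 - (a.1 0 0 + a.1 1 1) * r + 1 = 0) :
    Nat.card (Subgroup.centralizer {a}) = Fintype.card F - 1 := by
  rw [Cfsg.Agent.Lib.Helper42.SL2Odd.card_centralizer a
    (Cfsg.Agent.Lib.Helper42.SL2Odd.not_scalar_of_trace a htr)]
  exact Cfsg.Agent.Lib.Helper42.SL2Odd.card_sol_split _ htr r hr

lemma card_centralizer_nonsplit (h2 : (2 : F) ≠ 0) (a : SL(2, F))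
    (htr : (a.1 0 0 + a.1 1 1) ^ 2 ≠ 4)
    (hr : ∀ r : F, r ^ 2 - (a.1 0 0 + a.1 1 1) * r + 1 ≠ 0) :
    Nat.card (Subgroup.centralizer {a}) = Fintype.card F + 1 := by
  rw [Cfsg.Agent.Lib.Helper42.SL2Odd.card_centralizer a
    (Cfsg.Agent.Lib.Helper42.SL2Odd.not_scalar_of_trace a htr)]
  exact Cfsg.Agent.Lib.Helper42.SL2Odd.card_sol_nonsplit h2 _ hr

lemma card_centralizer_cases (h2 : (2 : F) ≠ 0) (a : SL(2, F))
    (htr : (a.1 0 0 + a.1 1 1) ^ 2 ≠ 4) :
    Nat.card (Subgroup.centralizer {a}) = Fintype.card F - 1 ∨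
      Nat.card (Subgroup.centralizer {a}) = Fintype.card F + 1 := by
  by_cases h : ∃ r : F, r ^ 2 - (a.1 0 0 + a.1 1 1) * r + 1 = 0
  · obtain ⟨r, hr⟩ := h
    exact Or.inl (card_centralizer_split a htr r hr)
  · push Not at h
    exact Or.inr (card_centralizer_nonsplit h2 a htr h)

omit [Fintype F] in
lemma tr_sq_ne_four (p : ℕ) [Fact p.Prime] [CharP F p] (h2 : (2 : F) ≠ 0) (a : SL(2, F))
    (ha : (orderOf a).Coprime p) (ha1 : a ≠ 1) (ha2 : a ≠ negOne) :
    (a.1 0 0 + a.1 1 1) ^ 2 ≠ 4 := by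
  intro h
  rcases eq_one_or_negOne_of_tr p h2 a ha h with h' | h'
  · exact ha1 h'
  · exact ha2 h'

omit [Fintype F] in
lemma abelian_centralizer (a : SL(2, F)) (ha1 : a ≠ 1) (ha2 : a ≠ negOne) :
    ∀ x ∈ Subgroup.centralizer {a}, ∀ y ∈ Subgroup.centralizer {a}, x * y = y * x := by
  intro x hx y hy
  rw [Subgroup.mem_centralizer_singleton_iff] at hx hy
  exact comm_trans x a y ha1 ha2 hx hy.symm

/-- the order of `NorInv a`, `a` a non-central `p'`-element, divides `2(q - 1)` or `2(q + 1)` -/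
lemma card_norInv_dvd_cases (p : ℕ) [Fact p.Prime] [CharP F p] (h2 : (2 : F) ≠ 0) (a : SL(2, F))
    (ha : (orderOf a).Coprime p) (ha1 : a ≠ 1) (ha2 : a ≠ negOne) :
    Nat.card (NorInv a) ∣ 2 * (Fintype.card F - 1) ∨
      Nat.card (NorInv a) ∣ 2 * (Fintype.card F + 1) := by
  have h := card_norInv_dvd a
  rcases card_centralizer_cases h2 a (tr_sq_ne_four p h2 a ha ha1 ha2) with h' | h'
  · left; rw [← h']; exact h
  · right; rw [← h']; exact h

/-- **Structure of `p'`-subgroups with commuting squares.** -/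
theorem sq_comm_le_norInv (p : ℕ) [Fact p.Prime] [CharP F p] (h2 : (2 : F) ≠ 0)
    (X : Subgroup SL(2, F)) (hp : ¬ p ∣ Nat.card X)
    (hsq : ∀ x ∈ X, ∀ y ∈ X, x ^ 2 * y ^ 2 = y ^ 2 * x ^ 2) :
    X ≤ Zc ∨ ∃ a ∈ X, (orderOf a).Coprime p ∧ a ≠ 1 ∧ a ≠ negOne ∧ X ≤ NorInv a := by
  have hpp : p.Prime := Fact.out
  have hord : ∀ g ∈ X, (orderOf g).Coprime p := by
    intro g hg
    have hdvd : orderOf (⟨g, hg⟩ : X) ∣ Nat.card X := orderOf_dvd_natCard _
    rw [← Subgroup.orderOf_coe] at hdvd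
    exact Nat.Coprime.coprime_dvd_left hdvd ((Nat.Prime.coprime_iff_not_dvd hpp).2 hp).symm
  by_cases hB : ∃ x ∈ X, x ^ 2 ≠ 1 ∧ x ^ 2 ≠ negOne
  · -- a noncentral square
    right
    obtain ⟨x, hx, hx1, hx2⟩ := hB
    refine ⟨x ^ 2, X.pow_mem hx 2, hord _ (X.pow_mem hx 2), hx1, hx2, ?_⟩
    intro y hy
    have hyx : y * x * y⁻¹ ∈ X := X.mul_mem (X.mul_mem hy hx) (X.inv_mem hy)
    have e : y * x ^ 2 * y⁻¹ = (y * x * y⁻¹) ^ 2 := by rw [pow_two, pow_two]; group
    have hc : (y * x ^ 2 * y⁻¹) * x ^ 2 = x ^ 2 * (y * x ^ 2 * y⁻¹) := by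
      rw [e]; exact hsq _ hyx _ hx
    exact conj_eq_or p h2 (x ^ 2) y (hord _ (X.pow_mem hx 2)) hx1 hx2 hc
  · push Not at hB
    by_cases hZ : X ≤ Zc
    · exact Or.inl hZ
    · right
      obtain ⟨a, haX, haZ⟩ := SetLike.not_le_iff_exists.1 hZ
      have ha1 : a ≠ 1 := fun h => haZ (Or.inl h)
      have ha2 : a ≠ negOne := fun h => haZ (Or.inr h)
      have hsqc : ∀ g ∈ X, g * g = 1 ∨ g * g = negOne := by
        intro g hg
        by_cases h1 : g ^ 2 = 1
        · left; rw [← pow_two]; exact h1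
        · right; rw [← pow_two]; exact hB g hg h1
      have hcen : ∀ g ∈ X, g * g = 1 → g * a = a * g := by
        intro g _ hgg
        rcases sq_eq_one h2 g hgg with h | h
        · rw [h]; simp
        · rw [h]; exact negOne_comm a
      have haa : a * a = negOne := by
        rcases hsqc a haX with h | h
        · rcases sq_eq_one h2 a h with h' | h'
          · exact absurd h' ha1
          · exact absurd h' ha2
        · exact h
      refine ⟨a, haX, hord a haX, ha1, ha2, ?_⟩
      intro y hy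
      rcases hsqc y hy with hyy | hyy
      · left
        exact (conj_eq_iff a y).2 (hcen y hy hyy)
      · rcases hsqc (y * a) (X.mul_mem hy haX) with hya | hya
        · left
          have h1 := hcen (y * a) (X.mul_mem hy haX) hya
          have h3 : y * a = a * y := by
            have h4 : y * a * a = a * y * a := by
              rw [mul_assoc a y a]; exact h1
            exact mul_right_cancel h4
          exact (conj_eq_iff a y).2 h3
        · right
          have h1 : y * a * (y * a) = y * y := by rw [hya, hyy]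
          have h3 : a * y * a = y := by
            have h4 : y * (a * y * a) = y * y := by
              rw [← h1]; group
            exact mul_left_cancel h4
          have h5 : y * a = a⁻¹ * y := by
            rw [eq_inv_mul_iff_mul_eq, ← mul_assoc]; exact h3
          rw [h5]; group

/-- a `p'`-subgroup containing `-1` whose squares commute has order dividing `2(q - 1)` or
`2(q + 1)` -/
theorem card_dvd_of_sq_comm (p : ℕ) [Fact p.Prime] [CharP F p] (h2 : (2 : F) ≠ 0)
    (X : Subgroup SL(2, F)) (hneg : negOne ∈ X) (hp : ¬ p ∣ Nat.card X)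
    (hsq : ∀ x ∈ X, ∀ y ∈ X, x ^ 2 * y ^ 2 = y ^ 2 * x ^ 2) :
    Nat.card X ∣ 2 * (Fintype.card F - 1) ∨ Nat.card X ∣ 2 * (Fintype.card F + 1) := by
  rcases sq_comm_le_norInv p h2 X hp hsq with h | ⟨a, -, ha, ha1, ha2, hle⟩
  · left
    have hZ : X = Zc := by
      apply le_antisymm h
      rintro x (rfl | rfl)
      · exact X.one_mem
      · exact hneg
    rw [hZ, card_Zc h2]
    exact Dvd.intro _ rfl
  · rcases card_norInv_dvd_cases p h2 a ha ha1 ha2 with h | h
    · left; exact (Subgroup.card_dvd_of_le hle).trans h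
    · right; exact (Subgroup.card_dvd_of_le hle).trans h

/-- a solvable subgroup of order `2(q - 1)` -/
theorem exists_split (h2 : (2 : F) ≠ 0) (hq : 3 < Fintype.card F) :
    ∃ N : Subgroup SL(2, F), Group.IsSolvable N ∧ Nat.card N = 2 * (Fintype.card F - 1) := by
  classical
  obtain ⟨t, ht⟩ : ∃ t : F, t ∉ ({0, 1, -1} : Finset F) := by
    by_contra h
    push Not at h
    have h1 : (Finset.univ : Finset F) ⊆ {0, 1, -1} := fun x _ => h x
    have h3 := Finset.card_le_card h1
    rw [Finset.card_univ] at h3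
    have h4 : ({0, 1, -1} : Finset F).card ≤ 3 := Finset.card_le_three
    omega
  simp only [Finset.mem_insert, Finset.mem_singleton, not_or] at ht
  obtain ⟨ht0, ht1, htm⟩ := ht
  have htt : t ^ 2 ≠ 1 := by
    intro h
    have h1 : (t - 1) * (t + 1) = 0 := by linear_combination h
    rcases mul_eq_zero.1 h1 with h | h
    · exact ht1 (by linear_combination h)
    · exact htm (by linear_combination h)
  set a : SL(2, F) := d t ht0 with ha
  have htr : (a.1 0 0 + a.1 1 1) ^ 2 ≠ 4 := by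
    rw [ha, d00, d11]
    intro h
    have h1 : (t ^ 2 - 1) ^ 2 = 0 := by
      have : (t + t⁻¹) ^ 2 * t ^ 2 = 4 * t ^ 2 := by rw [h]
      field_simp at this
      linear_combination this
    exact htt (by
      have := pow_eq_zero_iff (two_ne_zero) |>.1 h1
      linear_combination this)
  have hroot : t ^ 2 - (a.1 0 0 + a.1 1 1) * t + 1 = 0 := by
    rw [ha, d00, d11]; field_simp; ring
  have hcard := card_centralizer_split a htr t hroot
  have hinv : w * a * w⁻¹ = a⁻¹ := by
    rw [ha, d_inv]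
    apply sl2_ext <;> simp [mul00, mul01, mul10, mul11, inv00, inv01, inv10, inv11]
  have hne : a ≠ a⁻¹ := by
    intro h
    rw [ha, d_inv] at h
    have h00 := congrArg (fun g : SL(2, F) => g.1 0 0) h
    simp only [d00] at h00
    apply htt
    field_simp at h00
    linear_combination h00
  have ha1 : a ≠ 1 := by
    intro h
    have h00 := congrArg (fun g : SL(2, F) => g.1 0 0) h
    simp only [ha, d00] at h00
    exact ht1 (by simpa using h00)
  have ha2 : a ≠ negOne := by
    intro h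
    have h00 := congrArg (fun g : SL(2, F) => g.1 0 0) h
    simp only [ha, d00] at h00
    exact htm (by simpa [negOne] using h00)
  refine ⟨NorInv a, isSolvable_norInv a (abelian_centralizer a ha1 ha2), ?_⟩
  rw [card_norInv_eq a w hinv hne, hcard]

/-- a solvable subgroup of order `2(q + 1)` when `q ≡ 3 (mod 4)` -/
theorem exists_nonsplit (h2 : (2 : F) ≠ 0) (hq : Fintype.card F % 4 = 3) :
    ∃ N : Subgroup SL(2, F), Group.IsSolvable N ∧ Nat.card N = 2 * (Fintype.card F + 1) := by
  have hns : ¬ IsSquare (-1 : F) := by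
    rw [FiniteField.isSquare_neg_one_iff]; omega
  set a : SL(2, F) := w with ha
  have htr : (a.1 0 0 + a.1 1 1) ^ 2 ≠ 4 := by
    rw [ha, w00, w11]
    intro h
    have h4 : (4 : F) = 2 * 2 := by norm_num
    rw [h4] at h
    have : (2 : F) * 2 = 0 := by rw [← h]; ring
    rcases mul_eq_zero.1 this with h | h <;> exact h2 h
  have hroot : ∀ r : F, r ^ 2 - (a.1 0 0 + a.1 1 1) * r + 1 ≠ 0 := by
    intro r h
    rw [ha, w00, w11] at h
    apply hns
    exact ⟨r, by linear_combination -h⟩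
  have hcard := card_centralizer_nonsplit h2 a htr hroot
  obtain ⟨P, Q, hPQ⟩ := Cfsg.Agent.Lib.Helper42.SL2Odd.exists_sq_add_sq_eq_neg_one (F := F)
  set n₀ : SL(2, F) := ⟨!![P, Q; Q, -P], by
    rw [Matrix.det_fin_two_of]; linear_combination -hPQ⟩ with hn₀
  have e00 : n₀.1 0 0 = P := rfl
  have e01 : n₀.1 0 1 = Q := rfl
  have e10 : n₀.1 1 0 = Q := rfl
  have e11 : n₀.1 1 1 = -P := rfl
  have hinv : n₀ * a * n₀⁻¹ = a⁻¹ := by
    rw [ha]
    apply sl2_ext <;>
      simp only [mul00, mul01, mul10, mul11, inv00, inv01, inv10, inv11, e00, e01, e10, e11,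
        w00, w01, w10, w11] <;>
      first
        | linear_combination (0 : F) * hPQ
        | linear_combination hPQ
        | linear_combination -hPQ
  have ha1 : a ≠ 1 := by
    intro h
    have h00 := congrArg (fun g : SL(2, F) => g.1 0 0) h
    simp [ha] at h00
  have ha2 : a ≠ negOne := by
    intro h
    have h00 := congrArg (fun g : SL(2, F) => g.1 0 1) h
    simp [ha, negOne] at h00
  have hne : a ≠ a⁻¹ := by
    intro h
    have h01 := congrArg (fun g : SL(2, F) => g.1 0 1) h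
    simp only [ha, inv01, w01] at h01
    apply h2
    linear_combination h01
  refine ⟨NorInv a, isSolvable_norInv a (abelian_centralizer a ha1 ha2), ?_⟩
  rw [card_norInv_eq a n₀ hinv hne, hcard]

end sl2

end Cfsg.Agent.Lib.Helper98.SL2Tor
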