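import Mathlib
import Cfsg.Agent.Lib.Helper98.SL2Sub

/-!
# Dickson's generation theorem for `SL(2, F)` (helper98)

For a subfield `k` of a finite field `F` of odd characteristic and `lam ≠ 0`, the subgroup
`N k lam = ⟨u a, l (lam * a) | a ∈ k⟩` contains all `u z`, `l z` with `z ∈ k(lam)`, unless
`3 = 0` and `lam ^ 2 = -1` (`gen_main`).  Consequence (`closure_eq_top`): the matrices
`!![1, 0; 1, 1]` and `!![1, lam; 0, 1]` generate `SL(2, F)` when `lam` generates `F`, unless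
`3 = 0` and `lam ^ 2 = -1`.
-/

set_option autoImplicit false
set_option linter.style.haveILetI false
set_option linter.unnecessarySeqFocus false
set_option linter.unreachableTactic false
set_option linter.unusedTactic false
set_option linter.unusedVariables false
set_option linter.unusedSectionVars false

namespace Cfsg.Agent.Lib.Helper98.SL2Gen

open Matrix MatrixGroups
open Cfsg.Agent.Lib.Helper98.SL2Sub

section field
variable {F : Type*} [Field F]

/-- a subring of a finite field is a subfield -/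
def mkSubfield [Finite F] (R : Subring F) : Subfield F :=
  { R with
    inv_mem' := by
      intro x hx
      by_cases h0 : x = 0
      · rw [h0, _root_.inv_zero]; exact R.zero_mem
      · have : Fintype F := Fintype.ofFinite F
        have h1 : x ^ (Fintype.card F - 1) = 1 := FiniteField.pow_card_sub_one_eq_one x h0
        have hc : 1 < Fintype.card F := Fintype.one_lt_card
        have h2 : x * x ^ (Fintype.card F - 2) = 1 := by
          rw [← pow_succ']
          have : Fintype.card F - 2 + 1 = Fintype.card F - 1 := by omega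
          rw [this]; exact h1
        have h3 : x⁻¹ = x ^ (Fintype.card F - 2) := inv_eq_of_mul_eq_one_right h2
        rw [h3]; exact R.pow_mem hx _ }

lemma mem_mkSubfield [Finite F] {R : Subring F} {x : F} : x ∈ mkSubfield R ↔ x ∈ R := Iff.rfl

/-- the multipliers of an additive subgroup contain the subfield generated by any set of
multipliers -/
lemma mul_mem_of_closure [Finite F] (A : AddSubgroup F) (X : Set F)
    (hX : ∀ a ∈ X, ∀ z ∈ A, a * z ∈ A) : ∀ a ∈ Subfield.closure X, ∀ z ∈ A, a * z ∈ A := by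
  let R : Subring F :=
    { carrier := {a | ∀ z ∈ A, a * z ∈ A}
      mul_mem' := fun {a b} ha hb z hz => by rw [mul_assoc]; exact ha _ (hb _ hz)
      one_mem' := fun z hz => by rwa [one_mul]
      add_mem' := fun {a b} ha hb z hz => by rw [add_mul]; exact A.add_mem (ha _ hz) (hb _ hz)
      zero_mem' := fun z hz => by rw [zero_mul]; exact A.zero_mem
      neg_mem' := fun {a} ha z hz => by rw [neg_mul]; exact A.neg_mem (ha _ hz) }
  have hle : Subfield.closure X ≤ mkSubfield R := Subfield.closure_le.2 (fun a ha => hX a ha)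
  intro a ha
  exact hle ha

/-- a module over `K` containing `1` and `η`, where `η ^ 2 ∈ K + K η`, contains `K(η)` -/
lemma mem_of_closure_quad [Finite F] (K : Subfield F) (η p q : F) (hp : p ∈ K) (hq : q ∈ K)
    (hη : η ^ 2 = p + q * η) (A : AddSubgroup F) (hA : ∀ a ∈ K, ∀ z ∈ A, a * z ∈ A)
    (h1 : (1 : F) ∈ A) (hηA : η ∈ A) :
    ∀ z ∈ Subfield.closure ((K : Set F) ∪ {η}), z ∈ A := by
  let R : Subring F :=
    { carrier := {z | ∃ x ∈ K, ∃ y ∈ K, z = x + y * η}
      mul_mem' := by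
        rintro _ _ ⟨x, hx, y, hy, rfl⟩ ⟨x', hx', y', hy', rfl⟩
        refine ⟨x * x' + y * y' * p, ?_, x * y' + x' * y + y * y' * q, ?_, ?_⟩
        · exact K.add_mem (K.mul_mem hx hx') (K.mul_mem (K.mul_mem hy hy') hp)
        · exact K.add_mem (K.add_mem (K.mul_mem hx hy') (K.mul_mem hx' hy))
            (K.mul_mem (K.mul_mem hy hy') hq)
        · linear_combination (y * y') * hη
      one_mem' := ⟨1, K.one_mem, 0, K.zero_mem, by ring⟩
      add_mem' := by
        rintro _ _ ⟨x, hx, y, hy, rfl⟩ ⟨x', hx', y', hy', rfl⟩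
        exact ⟨x + x', K.add_mem hx hx', y + y', K.add_mem hy hy', by ring⟩
      zero_mem' := ⟨0, K.zero_mem, 0, K.zero_mem, by ring⟩
      neg_mem' := by
        rintro _ ⟨x, hx, y, hy, rfl⟩
        exact ⟨-x, K.neg_mem hx, -y, K.neg_mem hy, by ring⟩ }
  have hle : Subfield.closure ((K : Set F) ∪ {η}) ≤ mkSubfield R := by
    rw [Subfield.closure_le]
    rintro z (hz | hz)
    · exact ⟨z, hz, 0, K.zero_mem, by ring⟩
    · rw [Set.mem_singleton_iff] at hz; subst hz
      exact ⟨0, K.zero_mem, 1, K.one_mem, by ring⟩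
  intro z hz
  obtain ⟨x, hx, y, hy, rfl⟩ := hle hz
  have e1 := hA x hx 1 h1
  have e2 := hA y hy η hηA
  rw [mul_one] at e1
  exact A.add_mem e1 e2

/-- the additive group of `z` with `u z ∈ H` -/
def UA (H : Subgroup SL(2, F)) : AddSubgroup F where
  carrier := {z | u z ∈ H}
  zero_mem' := by show u 0 ∈ H; rw [u_zero]; exact H.one_mem
  add_mem' := by
    intro x y hx hy
    show u (x + y) ∈ H
    rw [← u_mul]; exact H.mul_mem hx hy
  neg_mem' := by
    intro x hx
    show u (-x) ∈ H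
    rw [← u_inv]; exact H.inv_mem hx

lemma mem_UA {H : Subgroup SL(2, F)} {z : F} : z ∈ UA H ↔ u z ∈ H := Iff.rfl

lemma w_eq : (w : SL(2, F)) = u 1 * l (-1) * u 1 := by
  apply sl2_ext <;> simp [mul00, mul01, mul10, mul11]

lemma dconj_identity (s : F) (hs : s ≠ 0) (x : F) :
    (u x * d s hs * (u x)⁻¹)⁻¹ * (u (-x) * d s hs * (u (-x))⁻¹) =
      u (2 * (1 - (s⁻¹) ^ 2) * x) := by
  apply sl2_ext <;> simp [mul00, mul01, mul10, mul11, inv00, inv01, inv10, inv11] <;>
    field_simp <;> ring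

lemma dconj_u (s : F) (hs : s ≠ 0) (x z : F) :
    (u x * d s hs * (u x)⁻¹) * u z * (u x * d s hs * (u x)⁻¹)⁻¹ = u (s ^ 2 * z) := by
  apply sl2_ext <;> simp [mul00, mul01, mul10, mul11, inv00, inv01, inv10, inv11] <;>
    field_simp <;> ring

lemma n_conj_u (x : F) (hx : x ≠ 0) (z : F) :
    (u x⁻¹ * l (-x) * u x⁻¹) * u z * (u x⁻¹ * l (-x) * u x⁻¹)⁻¹ = l (-(x ^ 2 * z)) := by
  apply sl2_ext <;> simp [mul00, mul01, mul10, mul11, inv00, inv01, inv10, inv11] <;>
    field_simp <;> ring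

lemma exc_d (lam : F) (hlam : lam ≠ 0) (hl : lam ^ 2 = -1) :
    u lam⁻¹ * w * (u lam⁻¹)⁻¹ * l lam = d lam hlam := by
  have hinv : lam⁻¹ = -lam := by
    apply inv_eq_of_mul_eq_one_right
    linear_combination -hl
  apply sl2_ext <;> simp only [mul00, mul01, mul10, mul11, inv00, inv01, inv10, inv11, hinv,
    u00, u01, u10, u11, l00, l01, l10, l11, w00, w01, w10, w11, d00, d01, d10, d11]
  · linear_combination lam * hl
  · linear_combination hl
  · linear_combination (-1 : F) * hl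
  · ring

end field

section N
variable {F : Type*} [Field F] [Finite F] (k : Subfield F)

lemma UA_smul (lam : F) : ∀ a ∈ k, ∀ z ∈ UA (N k lam), a * z ∈ UA (N k lam) := by
  intro a ha z hz
  have hsqmem : ∀ s ∈ k, s ^ 2 * z ∈ UA (N k lam) := by
    intro s hs
    by_cases hs0 : s = 0
    · rw [hs0]; simp
    · show u (s ^ 2 * z) ∈ N k lam
      rw [← d_u_d s hs0]
      exact norm_d k lam s hs hs0 _ hz
  obtain ⟨s, hs, t, ht, rfl⟩ := exists_sq_sub_sq k a ha
  rw [sub_mul]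
  exact (UA (N k lam)).sub_mem (hsqmem s hs) (hsqmem t ht)

lemma N_le_of_u (lam : F) (hlam : lam ≠ 0) (hu : u lam⁻¹ ∈ N k lam) :
    N k (lam ^ 2) ≤ N k lam := by
  intro g hg
  have := step3 k lam hlam 1 k.one_mem one_ne_zero g hg
  rw [one_mul] at this
  have h2 := (N k lam).mul_mem ((N k lam).mul_mem ((N k lam).inv_mem hu) this) hu
  have e : (u lam⁻¹)⁻¹ * (u lam⁻¹ * g * (u lam⁻¹)⁻¹) * u lam⁻¹ = g := by group
  rwa [e] at h2

lemma conj_pos (lam : F) (hlam : lam ≠ 0) :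
    ∀ g ∈ N k (lam ^ 2), u lam⁻¹ * g * (u lam⁻¹)⁻¹ ∈ N k lam := by
  intro g hg
  have := step3 k lam hlam 1 k.one_mem one_ne_zero g hg
  rwa [one_mul] at this

lemma conj_neg (lam : F) (hlam : lam ≠ 0) :
    ∀ g ∈ N k (lam ^ 2), u (-lam⁻¹) * g * (u (-lam⁻¹))⁻¹ ∈ N k lam := by
  intro g hg
  have := step3 k lam hlam (-1) (k.neg_mem k.one_mem) (neg_ne_zero.2 one_ne_zero) g hg
  have e : (-1 * lam)⁻¹ = -lam⁻¹ := by rw [neg_one_mul, inv_neg]
  rwa [e] at this

lemma l_lam_mem (lam : F) : l lam ∈ N k lam := by simpa using l_mem_N k lam k.one_mem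

/-- from `u` to `l` -/
lemma l_mem_of_u (lam : F) (hlam : lam ≠ 0) (hu : u lam⁻¹ ∈ N k lam) (K : Subfield F)
    (hK : lam ∈ K) (hA : ∀ z ∈ K, u z ∈ N k lam) : ∀ z ∈ K, l z ∈ N k lam := by
  intro z hz
  have hl : l (-lam) ∈ N k lam := by rw [← l_inv]; exact (N k lam).inv_mem (l_lam_mem k lam)
  have hn : u lam⁻¹ * l (-lam) * u lam⁻¹ ∈ N k lam :=
    (N k lam).mul_mem ((N k lam).mul_mem hu hl) hu
  have hz' : -((lam ^ 2)⁻¹ * z) ∈ K := K.neg_mem (K.mul_mem (K.inv_mem (K.pow_mem hK 2)) hz)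
  have := (N k lam).mul_mem ((N k lam).mul_mem hn (hA _ hz')) ((N k lam).inv_mem hn)
  rw [n_conj_u lam hlam] at this
  have e : -(lam ^ 2 * -((lam ^ 2)⁻¹ * z)) = z := by field_simp
  rwa [e] at this

lemma closure_le_closure_inv (K : Subfield F) (hk : k ≤ K) (lam : F) :
    Subfield.closure ((k : Set F) ∪ {lam}) ≤ Subfield.closure ((K : Set F) ∪ {lam⁻¹}) := by
  rw [Subfield.closure_le]
  rintro z (hz | hz)
  · exact Subfield.subset_closure (Or.inl (hk hz))
  · rw [Set.mem_singleton_iff] at hz; subst hz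
    have : z⁻¹ ∈ Subfield.closure ((K : Set F) ∪ {z⁻¹}) := Subfield.subset_closure (Or.inr rfl)
    simpa using (Subfield.closure _).inv_mem this

theorem climb_full (h2 : (2 : F) ≠ 0) (lam : F) (hlam : lam ≠ 0)
    (hfull : ∀ z ∈ Subfield.closure ((k : Set F) ∪ {lam ^ 2}),
      u z ∈ N k (lam ^ 2) ∧ l z ∈ N k (lam ^ 2)) :
    (∀ z ∈ Subfield.closure ((k : Set F) ∪ {lam}), u z ∈ N k lam ∧ l z ∈ N k lam) ∨
      ((3 : F) = 0 ∧ lam ^ 2 = -1 ∧ d lam hlam ∈ N k lam) := by
  set F₂ := Subfield.closure ((k : Set F) ∪ {lam ^ 2}) with hF₂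
  have hk : k ≤ F₂ := fun z hz => Subfield.subset_closure (Or.inl hz)
  have hl2 : lam ^ 2 ∈ F₂ := Subfield.subset_closure (Or.inr rfl)
  have c1 := conj_pos k lam hlam
  have c2 := conj_neg k lam hlam
  have hw : (w : SL(2, F)) ∈ N k (lam ^ 2) := by
    rw [w_eq]
    exact (N k _).mul_mem ((N k _).mul_mem (hfull 1 F₂.one_mem).1
      (hfull (-1) (F₂.neg_mem F₂.one_mem)).2) (hfull 1 F₂.one_mem).1
  have hd : ∀ s (hs : s ≠ 0), s ∈ F₂ → d s hs ∈ N k (lam ^ 2) := by
    intro s hs hsF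
    rw [diag_eq s hs]
    have a1 := (hfull s⁻¹ (F₂.inv_mem hsF)).1
    have a2 := (hfull (-s) (F₂.neg_mem hsF)).2
    have a3 := (hfull (s ^ 2)⁻¹ (F₂.inv_mem (F₂.pow_mem hsF 2))).1
    have a4 := (hfull (-(s ^ 2)) (F₂.neg_mem (F₂.pow_mem hsF 2))).2
    exact (N k _).mul_mem ((N k _).mul_mem ((N k _).mul_mem a1 a2) a1)
      ((N k _).inv_mem ((N k _).mul_mem ((N k _).mul_mem a3 a4) a3))
  have hll : l lam ∈ N k lam := l_lam_mem k lam
  have hA2 : ∀ a ∈ F₂, u a ∈ N k lam := by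
    intro a ha
    have h1 := c1 (l (lam ^ 2 * (-a))) (hfull _ (F₂.mul_mem hl2 (F₂.neg_mem ha))).2
    rw [conj_identity lam hlam (-a), neg_neg] at h1
    have h3 := (N k lam).mul_mem ((N k lam).mul_mem ((N k lam).inv_mem hll) h1) hll
    have e : (l lam)⁻¹ * (l lam * u a * (l lam)⁻¹) * l lam = u a := by group
    rwa [e] at h3
  have h2F : (2 : F) ∈ F₂ := by
    have : (1 : F) + 1 ∈ F₂ := F₂.add_mem F₂.one_mem F₂.one_mem
    have e : (1 : F) + 1 = 2 := by norm_num
    rwa [e] at this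
  by_cases hlamF : lam ∈ F₂
  · left
    have hu : u lam⁻¹ ∈ N k lam := hA2 _ (F₂.inv_mem hlamF)
    have hle := N_le_of_u k lam hlam hu
    have hcl : Subfield.closure ((k : Set F) ∪ {lam}) ≤ F₂ := by
      rw [Subfield.closure_le]
      rintro z (hz | hz)
      · exact hk hz
      · rw [Set.mem_singleton_iff] at hz; rw [hz]; exact hlamF
    intro z hz
    exact ⟨hA2 z (hcl hz), hle (hfull z (hcl hz)).2⟩
  · by_cases hs : ∃ s ∈ F₂, s ≠ 0 ∧ s ^ 2 ≠ 1
    · left
      obtain ⟨s, hsF, hs0, hs1⟩ := hs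
      have hmod : ∀ a ∈ F₂, ∀ z ∈ UA (N k lam), a * z ∈ UA (N k lam) := by
        intro a ha z hz
        have hsq : ∀ t ∈ F₂, t ^ 2 * z ∈ UA (N k lam) := by
          intro t ht
          by_cases ht0 : t = 0
          · rw [ht0]; simp
          · have hg := c1 _ (hd t ht0 ht)
            have := (N k lam).mul_mem ((N k lam).mul_mem hg hz) ((N k lam).inv_mem hg)
            rw [dconj_u] at this
            exact this
        obtain ⟨s', hs', t, ht, rfl⟩ := exists_sq_sub_sq F₂ a ha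
        rw [sub_mul]
        exact (UA (N k lam)).sub_mem (hsq s' hs') (hsq t ht)
      have hg1 := c1 _ (hd s hs0 hsF)
      have hg2 := c2 _ (hd s hs0 hsF)
      have hc := (N k lam).mul_mem ((N k lam).inv_mem hg1) hg2
      rw [dconj_identity] at hc
      have hc0 : 2 * (1 - (s⁻¹) ^ 2) ≠ 0 := by
        refine mul_ne_zero h2 ?_
        intro h
        apply hs1
        have h' : (s⁻¹) ^ 2 = 1 := by linear_combination -h
        rw [inv_pow] at h'
        exact inv_eq_one.1 h'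
      have hcF : 2 * (1 - (s⁻¹) ^ 2) ∈ F₂ :=
        F₂.mul_mem h2F (F₂.sub_mem F₂.one_mem (F₂.pow_mem (F₂.inv_mem hsF) 2))
      have hu : u lam⁻¹ ∈ N k lam := by
        have := hmod _ (F₂.inv_mem hcF) _ hc
        have e : (2 * (1 - (s⁻¹) ^ 2))⁻¹ * (2 * (1 - (s⁻¹) ^ 2) * lam⁻¹) = lam⁻¹ := by
          rw [← mul_assoc, inv_mul_cancel₀ hc0, one_mul]
        rw [e] at this
        exact this
      have hall : ∀ z ∈ Subfield.closure ((F₂ : Set F) ∪ {lam⁻¹}), z ∈ UA (N k lam) :=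
        mem_of_closure_quad F₂ lam⁻¹ (lam ^ 2)⁻¹ 0 (F₂.inv_mem hl2) F₂.zero_mem
          (by rw [inv_pow]; ring) (UA (N k lam)) hmod (u_mem_N k lam k.one_mem) hu
      have hcl := closure_le_closure_inv k F₂ hk lam
      have hle := N_le_of_u k lam hlam hu
      have hwN : (w : SL(2, F)) ∈ N k lam := hle hw
      intro z hz
      refine ⟨hall z (hcl hz), ?_⟩
      have hz' : -z ∈ Subfield.closure ((k : Set F) ∪ {lam}) := (Subfield.closure _).neg_mem hz
      have := (N k lam).mul_mem ((N k lam).mul_mem hwN (hall _ (hcl hz'))) ((N k lam).inv_mem hwN)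
      rw [w_u_w, neg_neg] at this
      exact this
    · right
      push Not at hs
      have h3 : (3 : F) = 0 := by
        have := hs 2 h2F h2
        linear_combination this
      have h4 := hs (lam ^ 2) hl2 (pow_ne_zero 2 hlam)
      have hl : lam ^ 2 = -1 := by
        have h5 : (lam ^ 2 - 1) * (lam ^ 2 + 1) = 0 := by linear_combination h4
        rcases mul_eq_zero.1 h5 with h6 | h6
        · exfalso
          have h7 : (lam - 1) * (lam + 1) = 0 := by linear_combination h6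
          rcases mul_eq_zero.1 h7 with h8 | h8
          · apply hlamF
            have : lam = 1 := by linear_combination h8
            rw [this]; exact F₂.one_mem
          · apply hlamF
            have : lam = -1 := by linear_combination h8
            rw [this]; exact F₂.neg_mem F₂.one_mem
        · linear_combination h6
      refine ⟨h3, hl, ?_⟩
      rw [← exc_d lam hlam hl]
      exact (N k lam).mul_mem (c1 _ hw) hll

theorem climb_exc (h2 : (2 : F) ≠ 0) (lam : F) (hlam : lam ≠ 0) (h3 : (3 : F) = 0)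
    (h4 : (lam ^ 2) ^ 2 = -1) (hd : d (lam ^ 2) (pow_ne_zero 2 hlam) ∈ N k (lam ^ 2)) :
    ∀ z ∈ Subfield.closure ((k : Set F) ∪ {lam}), u z ∈ N k lam ∧ l z ∈ N k lam := by
  have hg1 := conj_pos k lam hlam _ hd
  have hg2 := conj_neg k lam hlam _ hd
  have hc := (N k lam).mul_mem ((N k lam).inv_mem hg1) hg2
  rw [dconj_identity] at hc
  have e : 2 * (1 - ((lam ^ 2)⁻¹) ^ 2) * lam⁻¹ = lam⁻¹ := by
    have : ((lam ^ 2)⁻¹) ^ 2 = -1 := by rw [inv_pow, h4, inv_neg, inv_one]
    rw [this]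
    linear_combination lam⁻¹ * h3
  rw [e] at hc
  have hu : u lam⁻¹ ∈ N k lam := hc
  have hη : (lam⁻¹) ^ 2 = 1 + (-1) * lam⁻¹ ∨ (lam⁻¹) ^ 2 = 1 + 1 * lam⁻¹ := by
    have h5 : ((lam⁻¹) ^ 2) ^ 2 = -1 := by rw [inv_pow, inv_pow, h4, inv_neg, inv_one]
    have h6 : ((lam⁻¹) ^ 2 - (1 + (-1) * lam⁻¹)) * ((lam⁻¹) ^ 2 - (1 + 1 * lam⁻¹)) = 0 := by
      linear_combination h5 - (lam⁻¹) ^ 2 * h3
    rcases mul_eq_zero.1 h6 with h | h
    · left; linear_combination h
    · right; linear_combination h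
  have hA := UA_smul k lam
  have hall : ∀ z ∈ Subfield.closure ((k : Set F) ∪ {lam⁻¹}), z ∈ UA (N k lam) := by
    rcases hη with h | h
    · exact mem_of_closure_quad k lam⁻¹ 1 (-1) k.one_mem (k.neg_mem k.one_mem) h
        (UA (N k lam)) hA (u_mem_N k lam k.one_mem) hu
    · exact mem_of_closure_quad k lam⁻¹ 1 1 k.one_mem k.one_mem h
        (UA (N k lam)) hA (u_mem_N k lam k.one_mem) hu
  have hcl := closure_le_closure_inv k k le_rfl lam
  have hA' : ∀ z ∈ Subfield.closure ((k : Set F) ∪ {lam}), u z ∈ N k lam :=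
    fun z hz => hall z (hcl hz)
  intro z hz
  exact ⟨hA' z hz, l_mem_of_u k lam hlam hu _ (Subfield.subset_closure (Or.inr rfl)) hA' z hz⟩

theorem caseAA (h2 : (2 : F) ≠ 0) (lam : F) (hlam : lam ≠ 0)
    (hP : ∀ b ∈ k, b ≠ 0 → ∀ g ∈ N k lam,
      (u (b * lam)⁻¹)⁻¹ * g * u (b * lam)⁻¹ ∈ N k (lam ^ 2))
    (hP2 : ∀ b ∈ k, b ≠ 0 → ∀ g ∈ N k (lam ^ 2),
      (u (b * lam ^ 2)⁻¹)⁻¹ * g * u (b * lam ^ 2)⁻¹ ∈ N k ((lam ^ 2) ^ 2)) :
    ∀ z ∈ Subfield.closure ((k : Set F) ∪ {lam}), u z ∈ N k lam ∧ l z ∈ N k lam := by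
  have hb : ∃ b ∈ k, b ≠ 0 ∧ b + 1 ≠ 0 := ⟨1, k.one_mem, one_ne_zero, by
    have e : (1 : F) + 1 = 2 := by norm_num
    rw [e]; exact h2⟩
  have hlam20 : lam ^ 2 ≠ 0 := pow_ne_zero 2 hlam
  have hu1 : u lam⁻¹ ∈ N k lam := u_inv_mem k hb lam hlam hP
  have hle := N_le_of_u k lam hlam hu1
  have hu2 : u (lam ^ 2)⁻¹ ∈ N k lam := hle (u_inv_mem k hb (lam ^ 2) hlam20 hP2)
  have hl1 : l lam ∈ N k lam := l_lam_mem k lam
  have hl2 : l (lam ^ 2) ∈ N k lam := hle (l_lam_mem k (lam ^ 2))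
  have hd : d lam hlam ∈ N k lam := by
    rw [diag_eq lam hlam]
    have hl1' : l (-lam) ∈ N k lam := by rw [← l_inv]; exact (N k lam).inv_mem hl1
    have hl2' : l (-(lam ^ 2)) ∈ N k lam := by rw [← l_inv]; exact (N k lam).inv_mem hl2
    exact (N k lam).mul_mem ((N k lam).mul_mem ((N k lam).mul_mem hu1 hl1') hu1)
      ((N k lam).inv_mem ((N k lam).mul_mem ((N k lam).mul_mem hu2 hl2') hu2))
  have hmod : ∀ a ∈ Subfield.closure ((k : Set F) ∪ {lam ^ 2}), ∀ z ∈ UA (N k lam),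
      a * z ∈ UA (N k lam) := by
    apply mul_mem_of_closure
    rintro a (ha | ha) z hz
    · exact UA_smul k lam a ha z hz
    · rw [Set.mem_singleton_iff] at ha; subst ha
      show u (lam ^ 2 * z) ∈ N k lam
      rw [← d_u_d lam hlam]
      exact (N k lam).mul_mem ((N k lam).mul_mem hd hz) ((N k lam).inv_mem hd)
  have hk : k ≤ Subfield.closure ((k : Set F) ∪ {lam ^ 2}) :=
    fun z hz => Subfield.subset_closure (Or.inl hz)
  have hl2F : lam ^ 2 ∈ Subfield.closure ((k : Set F) ∪ {lam ^ 2}) :=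
    Subfield.subset_closure (Or.inr rfl)
  have hall : ∀ z ∈ Subfield.closure
      ((Subfield.closure ((k : Set F) ∪ {lam ^ 2}) : Set F) ∪ {lam⁻¹}), z ∈ UA (N k lam) :=
    mem_of_closure_quad _ lam⁻¹ (lam ^ 2)⁻¹ 0 ((Subfield.closure _).inv_mem hl2F)
      (Subfield.closure _).zero_mem
      (by rw [inv_pow]; ring) (UA (N k lam)) hmod (u_mem_N k lam k.one_mem) hu1
  have hcl := closure_le_closure_inv k _ hk lam
  have hA' : ∀ z ∈ Subfield.closure ((k : Set F) ∪ {lam}), u z ∈ N k lam :=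
    fun z hz => hall z (hcl hz)
  intro z hz
  exact ⟨hA' z hz, l_mem_of_u k lam hlam hu1 _ (Subfield.subset_closure (Or.inr rfl)) hA' z hz⟩

theorem gen_aux (h2 : (2 : F) ≠ 0) : ∀ n : ℕ, ∀ (lam : F) (hlam : lam ≠ 0),
    Nat.card (N k lam) ≤ n →
    ((∀ z ∈ Subfield.closure ((k : Set F) ∪ {lam}), u z ∈ N k lam ∧ l z ∈ N k lam) ∨
      ((3 : F) = 0 ∧ lam ^ 2 = -1 ∧ d lam hlam ∈ N k lam)) := by
  intro n
  induction n with
  | zero =>
    intro lam _ h
    have : 0 < Nat.card (N k lam) := Nat.card_pos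
    omega
  | succ n ih =>
    intro lam hlam hcard
    have hlam20 : lam ^ 2 ≠ 0 := pow_ne_zero 2 hlam
    have climb : ∀ (μ : F) (hμ : μ ≠ 0),
        ((∀ z ∈ Subfield.closure ((k : Set F) ∪ {μ ^ 2}),
            u z ∈ N k (μ ^ 2) ∧ l z ∈ N k (μ ^ 2)) ∨
          ((3 : F) = 0 ∧ (μ ^ 2) ^ 2 = -1 ∧ d (μ ^ 2) (pow_ne_zero 2 hμ) ∈ N k (μ ^ 2))) →
        ((∀ z ∈ Subfield.closure ((k : Set F) ∪ {μ}), u z ∈ N k μ ∧ l z ∈ N k μ) ∨
          ((3 : F) = 0 ∧ μ ^ 2 = -1 ∧ d μ hμ ∈ N k μ)) := by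
      intro μ hμ h
      rcases h with h | ⟨h3, h4, hd⟩
      · exact climb_full k h2 μ hμ h
      · exact Or.inl (climb_exc k h2 μ hμ h3 h4 hd)
    by_cases hP : ∀ b ∈ k, b ≠ 0 → ∀ g ∈ N k lam,
        (u (b * lam)⁻¹)⁻¹ * g * u (b * lam)⁻¹ ∈ N k (lam ^ 2)
    · by_cases hP2 : ∀ b ∈ k, b ≠ 0 → ∀ g ∈ N k (lam ^ 2),
          (u (b * lam ^ 2)⁻¹)⁻¹ * g * u (b * lam ^ 2)⁻¹ ∈ N k ((lam ^ 2) ^ 2)
      · exact Or.inl (caseAA k h2 lam hlam hP hP2)
      · push Not at hP2
        obtain ⟨b, hbk, hb0, g, hg, hg'⟩ := hP2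
        have hlt := card_lt k (lam ^ 2) hlam20 b hbk hb0 g hg hg'
        have hb : ∃ b ∈ k, b ≠ 0 ∧ b + 1 ≠ 0 := ⟨1, k.one_mem, one_ne_zero, by
          have e : (1 : F) + 1 = 2 := by norm_num
          rw [e]; exact h2⟩
        have hu1 : u lam⁻¹ ∈ N k lam := u_inv_mem k hb lam hlam hP
        have hle' : Nat.card (N k (lam ^ 2)) ≤ Nat.card (N k lam) :=
          Subgroup.card_le_of_le (N_le_of_u k lam hlam hu1)
        exact climb lam hlam (climb (lam ^ 2) hlam20
          (ih ((lam ^ 2) ^ 2) (pow_ne_zero 2 hlam20) (by omega)))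
    · push Not at hP
      obtain ⟨b, hbk, hb0, g, hg, hg'⟩ := hP
      have hlt := card_lt k lam hlam b hbk hb0 g hg hg'
      exact climb lam hlam (ih (lam ^ 2) hlam20 (by omega))

/-- **Generation theorem**, general form. -/
theorem gen_main (h2 : (2 : F) ≠ 0) (lam : F) (hlam : lam ≠ 0) :
    (∀ z ∈ Subfield.closure ((k : Set F) ∪ {lam}), u z ∈ N k lam ∧ l z ∈ N k lam) ∨
      ((3 : F) = 0 ∧ lam ^ 2 = -1 ∧ d lam hlam ∈ N k lam) :=
  gen_aux k h2 _ lam hlam le_rfl

end N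

section prime
variable {F : Type*} [Field F]

/-- the prime subfield of a finite field: the integer multiples of one -/
def primeSub (F : Type*) [Field F] [Finite F] : Subfield F :=
  mkSubfield (Int.castRingHom F).range

lemma mem_primeSub [Finite F] {a : F} : a ∈ primeSub F ↔ ∃ n : ℤ, (n : F) = a := by
  show a ∈ (Int.castRingHom F).range ↔ _
  simp [RingHom.mem_range]

lemma u_zpow (a : F) (n : ℤ) : u a ^ n = u (n * a) := by
  induction n using Int.induction_on with
  | zero => simp [u_zero]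
  | succ i ih => rw [_root_.zpow_add_one, ih, u_mul]; congr 1; push_cast; ring
  | pred i ih => rw [_root_.zpow_sub_one, ih, u_inv, u_mul]; congr 1; push_cast; ring

lemma l_zpow (a : F) (n : ℤ) : l a ^ n = l (n * a) := by
  induction n using Int.induction_on with
  | zero => simp [l_zero]
  | succ i ih => rw [_root_.zpow_add_one, ih, l_mul]; congr 1; push_cast; ring
  | pred i ih => rw [_root_.zpow_sub_one, ih, l_inv, l_mul]; congr 1; push_cast; ring

lemma w_inv_u_w (a : F) : (w : SL(2, F))⁻¹ * u a * w = l (-a) := by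
  apply sl2_ext <;> simp [mul00, mul01, mul10, mul11, inv00, inv01, inv10, inv11]

lemma w_inv_l_w (a : F) : (w : SL(2, F))⁻¹ * l a * w = u (-a) := by
  apply sl2_ext <;> simp [mul00, mul01, mul10, mul11, inv00, inv01, inv10, inv11]

/-- **Dickson's generation theorem**: the two elementary matrices generate `SL(2, F)` when
`lam` generates the finite field `F` of odd characteristic, unless `3 = 0` and `lam ^ 2 = -1`. -/
theorem closure_eq_top [Finite F] (h2 : (2 : F) ≠ 0) (lam : F) (hlam : lam ≠ 0)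
    (hgen : Subfield.closure ({lam} : Set F) = ⊤) :
    Subgroup.closure {g : SL(2, F) | g.1 = !![1, 0; 1, 1] ∨ g.1 = !![1, lam; 0, 1]} = ⊤ ∨
      ((3 : F) = 0 ∧ lam ^ 2 = -1) := by
  set C : Subgroup SL(2, F) :=
    Subgroup.closure {g : SL(2, F) | g.1 = !![1, 0; 1, 1] ∨ g.1 = !![1, lam; 0, 1]} with hC
  rcases gen_main (primeSub F) h2 lam hlam with h | ⟨h3, hl, _⟩
  · left
    have hall : ∀ z : F, z ∈ Subfield.closure (((primeSub F : Subfield F) : Set F) ∪ {lam}) := by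
      intro z
      have hmono : Subfield.closure ({lam} : Set F) ≤
          Subfield.closure (((primeSub F : Subfield F) : Set F) ∪ {lam}) :=
        Subfield.closure_mono Set.subset_union_right
      rw [hgen] at hmono
      exact hmono (Subfield.mem_top z)
    have htop : N (primeSub F) lam = ⊤ := by
      apply eq_top_of_u_l
      · intro z; exact (h z (hall z)).1
      · intro z; exact (h z (hall z)).2
    have hl1 : l 1 ∈ C := Subgroup.subset_closure (Or.inl rfl)
    have hul : u lam ∈ C := Subgroup.subset_closure (Or.inr rfl)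
    have hle : N (primeSub F) lam ≤ C.comap (MulAut.conj (w⁻¹ : SL(2, F))).toMonoidHom := by
      rw [N, Subgroup.closure_le]
      rintro g (⟨a, ha, rfl⟩ | ⟨a, ha, rfl⟩)
      · obtain ⟨n, rfl⟩ := mem_primeSub.1 ha
        show (MulAut.conj (w⁻¹ : SL(2, F))) (u (n : F)) ∈ C
        rw [MulAut.conj_apply, inv_inv, w_inv_u_w]
        have e : l (-(n : F)) = l 1 ^ (-n) := by
          rw [l_zpow]; congr 1; push_cast; ring
        rw [e]; exact Subgroup.zpow_mem _ hl1 _
      · obtain ⟨n, rfl⟩ := mem_primeSub.1 ha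
        show (MulAut.conj (w⁻¹ : SL(2, F))) (l (lam * (n : F))) ∈ C
        rw [MulAut.conj_apply, inv_inv, w_inv_l_w]
        have e : u (-(lam * (n : F))) = u lam ^ (-n) := by
          rw [u_zpow]; congr 1; push_cast; ring
        rw [e]; exact Subgroup.zpow_mem _ hul _
    rw [htop] at hle
    rw [eq_top_iff]
    intro x _
    have h1 : (MulAut.conj (w⁻¹ : SL(2, F))) (w * x * w⁻¹) ∈ C := hle (Subgroup.mem_top _)
    rw [MulAut.conj_apply] at h1
    have e : (w : SL(2, F))⁻¹ * (w * x * w⁻¹) * w⁻¹⁻¹ = x := by group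
    rwa [e] at h1
  · right; exact ⟨h3, hl⟩

end prime

end Cfsg.Agent.Lib.Helper98.SL2Gen
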