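import Mathlib
import Cfsg.Agent.Lib.Helper98.SL2Sub
import Cfsg.Agent.Lib.Helper98.SL2Gen
import Cfsg.Agent.Lib.Helper98.SL2Field
import Cfsg.Agent.Lib.Helper5.SL2Card
import Cfsg.Agent.S5941

set_option autoImplicit false

/-!
# Subgroups of `SL(2, F)` containing `SL(2, k)`, `[F : k] = 2`, and small index subgroups

* `top_or_le_Pk`: a subgroup containing `Sk k` is everything or lies in `Pk k`
  (the preimage of `PGL(2, k)`);
* `top_or_sq_mem`: a subgroup containing `u a` and `l c`, `k` the prime field;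
* `eq_top_of_index`: `SL(2, F)` (`|F| > 3`) has no proper subgroups of index `2` or `3`.
-/

namespace Cfsg.Agent.Lib.Helper98.SL2Quad

open Matrix MatrixGroups
open Cfsg.Agent.Lib.Helper98.SL2Sub Cfsg.Agent.Lib.Helper98.SL2Gen
open Cfsg.Agent.Lib.Helper98.SL2Field
open Cfsg.Agent.S5941 (Pk Sk_le_Pk)

variable {F : Type*} [Field F]

/-- `Sk k` is generated by the elementary matrices over `k` -/
lemma Sk_le_of_u_l (k : Subfield F) (X : Subgroup SL(2, F)) (hu : ∀ z ∈ k, u z ∈ X)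
    (hl : ∀ z ∈ k, l z ∈ X) : Sk k ≤ X := by
  have key : ∀ g : SL(2, F), g ∈ Sk k → g.1 1 0 ≠ 0 → g ∈ X := by
    rintro g ⟨h00, h01, h10, h11⟩ hc
    rw [decomp_c g hc]
    exact X.mul_mem (X.mul_mem (hu _ (k.div_mem (k.sub_mem h00 k.one_mem) h10)) (hl _ h10))
      (hu _ (k.div_mem (k.sub_mem h11 k.one_mem) h10))
  intro g hg
  by_cases hc : g.1 1 0 = 0
  · have ha : g.1 0 0 ≠ 0 := by
      intro h0
      have hd := det_eq g
      rw [h0, hc] at hd
      simp at hd
    have h1 : l 1 * g ∈ X := by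
      apply key
      · exact (Sk k).mul_mem (l_mem_Sk k.one_mem) hg
      · simp [mul10, hc, ha]
    have := X.mul_mem (X.inv_mem (hl 1 k.one_mem)) h1
    simpa using this
  · exact key g hg hc

lemma mem_closure_of_quad [Finite F] (k : Subfield F) (hcard : Nat.card F = Nat.card k ^ 2)
    (μ : F) (hμ : μ ∉ k) (z : F) : z ∈ Subfield.closure ((k : Set F) ∪ {μ}) := by
  have h := adjoin_eq_top k 2 Nat.prime_two hcard μ hμ
  have h1 : z ∈ IntermediateField.adjoin k {μ} := by rw [h]; trivial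
  have h2 : (IntermediateField.adjoin k ({μ} : Set F)).toSubfield =
      Subfield.closure (Set.range (algebraMap k F) ∪ {μ}) := rfl
  have h3 : Set.range (algebraMap k F) = (k : Set F) := Subtype.range_coe
  rw [← h3, ← h2]
  exact h1

/-- a subgroup containing `SL(2, k)`, `[F : k] = 2`, is everything or lies in the preimage of
`PGL(2, k)` -/
theorem top_or_le_Pk [Finite F] (k : Subfield F) (h2 : (2 : F) ≠ 0) (h3 : (3 : F) ≠ 0)
    (hcard : Nat.card F = Nat.card k ^ 2) (X : Subgroup SL(2, F)) (hSk : Sk k ≤ X) :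
    X = ⊤ ∨ X ≤ Pk k := by
  by_cases h : ∃ g ∈ X, (g.1 1 0) ^ 2 ∉ k
  · left
    obtain ⟨g, hg, hc⟩ := h
    have hc0 : g.1 1 0 ≠ 0 := by
      intro h0
      rw [h0] at hc
      exact hc (by simp [k.zero_mem])
    have htop : N k ((g.1 1 0) ^ 2) = ⊤ := by
      rcases gen_main k h2 ((g.1 1 0) ^ 2) (pow_ne_zero 2 hc0) with h | ⟨h, -, -⟩
      · apply eq_top_of_u_l
        · intro z; exact (h z (mem_closure_of_quad k hcard _ hc z)).1
        · intro z; exact (h z (mem_closure_of_quad k hcard _ hc z)).2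
      · exact absurd h h3
    have hle2 : N k ((g.1 1 0) ^ 2) ≤
        X.comap (MulAut.conj (u (g.1 0 0 / g.1 1 0))).toMonoidHom := by
      rw [N, Subgroup.closure_le]
      rintro x (⟨a, ha, rfl⟩ | ⟨a, ha, rfl⟩)
      · show (MulAut.conj (u (g.1 0 0 / g.1 1 0))) (u a) ∈ X
        rw [MulAut.conj_apply, u_inv, u_mul, u_mul]
        have : g.1 0 0 / g.1 1 0 + a + -(g.1 0 0 / g.1 1 0) = a := by ring
        rw [this]; exact hSk (u_mem_Sk ha)
      · show (MulAut.conj (u (g.1 0 0 / g.1 1 0))) (l ((g.1 1 0) ^ 2 * a)) ∈ X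
        rw [MulAut.conj_apply, conj_gen g hc0]
        exact X.mul_mem (X.mul_mem hg (hSk (u_mem_Sk (k.neg_mem ha)))) (X.inv_mem hg)
    rw [htop] at hle2
    rw [eq_top_iff]
    intro x _
    have h1 : (MulAut.conj (u (g.1 0 0 / g.1 1 0)))
        ((u (g.1 0 0 / g.1 1 0))⁻¹ * x * u (g.1 0 0 / g.1 1 0)) ∈ X :=
      hle2 (Subgroup.mem_top _)
    rw [MulAut.conj_apply] at h1
    have e : u (g.1 0 0 / g.1 1 0) * ((u (g.1 0 0 / g.1 1 0))⁻¹ * x * u (g.1 0 0 / g.1 1 0)) *
        (u (g.1 0 0 / g.1 1 0))⁻¹ = x := by group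
    rwa [e] at h1
  · right
    push Not at h
    have h2k : (2 : F) ∈ k := by
      have : (2 : F) = 1 + 1 := by norm_num
      rw [this]; exact k.add_mem k.one_mem k.one_mem
    have hw : (w : SL(2, F)) ∈ X := hSk w_mem_Sk
    have hl1 : l 1 ∈ X := hSk (l_mem_Sk k.one_mem)
    have key : ∀ g ∈ X, g.1 1 0 ≠ 0 → g ∈ Pk k := by
      intro g hg hγ
      have e1 := h g hg
      have e2 := h (l 1 * g) (X.mul_mem hl1 hg)
      have e3 := h (w * g) (X.mul_mem hw hg)
      have e4 := h (g * l 1) (X.mul_mem hg hl1)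
      have e5 := h (g * w) (X.mul_mem hg hw)
      simp only [mul10, l10, l11, l00, w10, w11, w00, one_mul, mul_one, mul_zero, zero_mul,
        add_zero, zero_add, neg_mul, mul_neg, neg_sq] at e2 e3 e4 e5
      have p1 : g.1 0 0 * g.1 1 0 ∈ k := by
        have : g.1 0 0 * g.1 1 0 =
            ((g.1 0 0 + g.1 1 0) ^ 2 - (g.1 0 0) ^ 2 - (g.1 1 0) ^ 2) / 2 := by
          field_simp; ring
        rw [this]; exact k.div_mem (k.sub_mem (k.sub_mem e2 e3) e1) h2k
      have p2 : g.1 1 0 * g.1 1 1 ∈ k := by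
        have : g.1 1 0 * g.1 1 1 =
            ((g.1 1 0 + g.1 1 1) ^ 2 - (g.1 1 0) ^ 2 - (g.1 1 1) ^ 2) / 2 := by
          field_simp; ring
        rw [this]; exact k.div_mem (k.sub_mem (k.sub_mem e4 e1) e5) h2k
      have p3 : g.1 0 0 * g.1 1 1 ∈ k := by
        have : g.1 0 0 * g.1 1 1 =
            (g.1 0 0 * g.1 1 0) * (g.1 1 0 * g.1 1 1) / (g.1 1 0) ^ 2 := by field_simp
        rw [this]; exact k.div_mem (k.mul_mem p1 p2) e1
      have p4 : g.1 1 0 * g.1 0 1 ∈ k := by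
        have hd := det_eq g
        have : g.1 1 0 * g.1 0 1 = g.1 0 0 * g.1 1 1 - 1 := by linear_combination -hd
        rw [this]; exact k.sub_mem p3 k.one_mem
      refine ⟨g.1 1 0, hγ, ?_, p4, ?_, p2⟩
      · rw [mul_comm]; exact p1
      · rw [← sq]; exact e1
    intro g hg
    by_cases hc : g.1 1 0 = 0
    · have ha : g.1 0 0 ≠ 0 := by
        intro h0
        have hd := det_eq g
        rw [h0, hc] at hd
        simp at hd
      have h1 : w * g ∈ Pk k := by
        apply key _ (X.mul_mem hw hg)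
        simp [mul10, hc, ha]
      have := (Pk k).mul_mem ((Pk k).inv_mem (Sk_le_Pk k w_mem_Sk)) h1
      simpa using this
    · exact key g hg hc

/-- squares of elements of `Pk k` lie in `Sk k` -/
lemma sq_mem_Sk (k : Subfield F) (g : SL(2, F)) (hg : g ∈ Pk k) : g * g ∈ Sk k := by
  obtain ⟨c, hc, h00, h01, h10, h11⟩ := hg
  have hd := det_eq g
  have hc2 : c ^ 2 ∈ k := by
    have : c ^ 2 = (c * g.1 0 0) * (c * g.1 1 1) - (c * g.1 0 1) * (c * g.1 1 0) := by
      linear_combination (-(c ^ 2)) * hd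
    rw [this]; exact k.sub_mem (k.mul_mem h00 h11) (k.mul_mem h01 h10)
  have hc20 : c ^ 2 ≠ 0 := pow_ne_zero 2 hc
  refine ⟨?_, ?_, ?_, ?_⟩
  · rw [mul00]
    have : g.1 0 0 * g.1 0 0 + g.1 0 1 * g.1 1 0 =
        ((c * g.1 0 0) * (c * g.1 0 0) + (c * g.1 0 1) * (c * g.1 1 0)) / c ^ 2 := by
      field_simp
    rw [this]; exact k.div_mem (k.add_mem (k.mul_mem h00 h00) (k.mul_mem h01 h10)) hc2
  · rw [mul01]
    have : g.1 0 0 * g.1 0 1 + g.1 0 1 * g.1 1 1 =
        ((c * g.1 0 0) * (c * g.1 0 1) + (c * g.1 0 1) * (c * g.1 1 1)) / c ^ 2 := by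
      field_simp
    rw [this]; exact k.div_mem (k.add_mem (k.mul_mem h00 h01) (k.mul_mem h01 h11)) hc2
  · rw [mul10]
    have : g.1 1 0 * g.1 0 0 + g.1 1 1 * g.1 1 0 =
        ((c * g.1 1 0) * (c * g.1 0 0) + (c * g.1 1 1) * (c * g.1 1 0)) / c ^ 2 := by
      field_simp
    rw [this]; exact k.div_mem (k.add_mem (k.mul_mem h10 h00) (k.mul_mem h11 h10)) hc2
  · rw [mul11]
    have : g.1 1 0 * g.1 0 1 + g.1 1 1 * g.1 1 1 =
        ((c * g.1 1 0) * (c * g.1 0 1) + (c * g.1 1 1) * (c * g.1 1 1)) / c ^ 2 := by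
      field_simp
    rw [this]; exact k.div_mem (k.add_mem (k.mul_mem h10 h01) (k.mul_mem h11 h11)) hc2

/-- conjugation by `diag(t, 1)⁻¹`, as a function -/
def dc (t : F) (ht : t ≠ 0) (g : SL(2, F)) : SL(2, F) :=
  ⟨!![g.1 0 0, t⁻¹ * g.1 0 1; t * g.1 1 0, g.1 1 1], by
    have e : g.1 0 0 * g.1 1 1 - t⁻¹ * g.1 0 1 * (t * g.1 1 0) =
        g.1 0 0 * g.1 1 1 - g.1 0 1 * g.1 1 0 := by field_simp
    rw [Matrix.det_fin_two_of, e]; exact det_eq g⟩

@[simp] lemma dc00 (t : F) (ht : t ≠ 0) (g : SL(2, F)) : (dc t ht g).1 0 0 = g.1 0 0 := rfl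
@[simp] lemma dc01 (t : F) (ht : t ≠ 0) (g : SL(2, F)) :
    (dc t ht g).1 0 1 = t⁻¹ * g.1 0 1 := rfl
@[simp] lemma dc10 (t : F) (ht : t ≠ 0) (g : SL(2, F)) : (dc t ht g).1 1 0 = t * g.1 1 0 := rfl
@[simp] lemma dc11 (t : F) (ht : t ≠ 0) (g : SL(2, F)) : (dc t ht g).1 1 1 = g.1 1 1 := rfl

lemma dc_mul (t : F) (ht : t ≠ 0) (g h : SL(2, F)) :
    dc t ht (g * h) = dc t ht g * dc t ht h := by
  apply sl2_ext <;> simp only [mul00, mul01, mul10, mul11, dc00, dc01, dc10, dc11] <;>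
    field_simp <;> ring

/-- conjugation by `diag(t, 1)⁻¹` -/
def diagConj (t : F) (ht : t ≠ 0) : SL(2, F) →* SL(2, F) := MonoidHom.mk' (dc t ht) (dc_mul t ht)

@[simp] lemma diagConj00 (t : F) (ht : t ≠ 0) (g : SL(2, F)) :
    (diagConj t ht g).1 0 0 = g.1 0 0 := rfl
@[simp] lemma diagConj01 (t : F) (ht : t ≠ 0) (g : SL(2, F)) :
    (diagConj t ht g).1 0 1 = t⁻¹ * g.1 0 1 := rfl
@[simp] lemma diagConj10 (t : F) (ht : t ≠ 0) (g : SL(2, F)) :
    (diagConj t ht g).1 1 0 = t * g.1 1 0 := rfl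
@[simp] lemma diagConj11 (t : F) (ht : t ≠ 0) (g : SL(2, F)) :
    (diagConj t ht g).1 1 1 = g.1 1 1 := rfl

lemma diagConj_u (t : F) (ht : t ≠ 0) (b : F) : diagConj t ht (u b) = u (t⁻¹ * b) := by
  apply sl2_ext <;> simp

lemma diagConj_l (t : F) (ht : t ≠ 0) (c : F) : diagConj t ht (l c) = l (t * c) := by
  apply sl2_ext <;> simp

lemma diagConj_injective (t : F) (ht : t ≠ 0) : Function.Injective (diagConj t ht) := by
  intro g h hgh
  have h00 := congrArg (fun x : SL(2, F) => x.1 0 0) hgh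
  have h01 := congrArg (fun x : SL(2, F) => x.1 0 1) hgh
  have h10 := congrArg (fun x : SL(2, F) => x.1 1 0) hgh
  have h11 := congrArg (fun x : SL(2, F) => x.1 1 1) hgh
  simp only [diagConj00, diagConj01, diagConj10, diagConj11] at h00 h01 h10 h11
  exact sl2_ext g h h00 (mul_left_cancel₀ (inv_ne_zero ht) h01) (mul_left_cancel₀ ht h10) h11

/-- a subgroup containing `u a` and `l c`, where `k` is the prime field and `[F : k] = 2` -/
theorem top_or_sq_mem [Finite F] (k : Subfield F) (h2 : (2 : F) ≠ 0) (h3 : (3 : F) ≠ 0)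
    (hcard : Nat.card F = Nat.card k ^ 2) (hk : ∀ x ∈ k, ∃ n : ℤ, (n : F) = x)
    (X : Subgroup SL(2, F)) (a c : F) (ha : a ≠ 0) (hc : c ≠ 0) (hu : u a ∈ X)
    (hl : l c ∈ X) :
    X = ⊤ ∨ ∀ x ∈ X, diagConj a ha x * diagConj a ha x ∈ Sk k := by
  obtain ⟨X', hX'⟩ : ∃ X', X' = X.map (diagConj a ha) := ⟨_, rfl⟩
  have hu1 : u 1 ∈ X' := by
    rw [hX']; exact ⟨u a, hu, by rw [diagConj_u, inv_mul_cancel₀ ha]⟩
  have hl1 : l (a * c) ∈ X' := by
    rw [hX']; exact ⟨l c, hl, by rw [diagConj_l]⟩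
  have hlam : a * c ≠ 0 := mul_ne_zero ha hc
  have hN : N k (a * c) ≤ X' := by
    rw [N, Subgroup.closure_le]
    rintro x (⟨b, hb, rfl⟩ | ⟨b, hb, rfl⟩)
    · obtain ⟨n, rfl⟩ := hk b hb
      have e : u (n : F) = u 1 ^ n := by rw [u_zpow, mul_one]
      rw [e]; exact X'.zpow_mem hu1 n
    · obtain ⟨n, rfl⟩ := hk b hb
      have e : l (a * c * (n : F)) = l (a * c) ^ n := by
        rw [l_zpow]; congr 1; ring
      rw [e]; exact X'.zpow_mem hl1 n
  have top_of : X' = ⊤ → X = ⊤ := by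
    intro h
    rw [eq_top_iff]
    intro y _
    have : diagConj a ha y ∈ X' := by rw [h]; trivial
    rw [hX'] at this
    obtain ⟨x, hx, hxy⟩ := this
    rw [← diagConj_injective a ha hxy]; exact hx
  rcases gen_main k h2 (a * c) hlam with h | ⟨h, -, -⟩
  swap
  · exact absurd h h3
  by_cases hmem : a * c ∈ k
  · have hSk : Sk k ≤ X' := by
      apply Sk_le_of_u_l
      · intro z hz; exact hN (h z (Subfield.subset_closure (Or.inl hz))).1
      · intro z hz; exact hN (h z (Subfield.subset_closure (Or.inl hz))).2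
    rcases top_or_le_Pk k h2 h3 hcard X' hSk with h' | h'
    · left; exact top_of h'
    · right
      intro x hx
      exact sq_mem_Sk k _ (h' (by rw [hX']; exact ⟨x, hx, rfl⟩))
  · left
    apply top_of
    apply eq_top_of_u_l
    · intro z; exact hN (h z (mem_closure_of_quad k hcard _ hmem z)).1
    · intro z; exact hN (h z (mem_closure_of_quad k hcard _ hmem z)).2

/-- the prime subfield, with the order of its special linear group -/
theorem prime_data [Finite F] (p : ℕ) [Fact p.Prime] [CharP F p] :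
    ∃ k : Subfield F, Nat.card k = p ∧ (∀ x ∈ k, ∃ n : ℤ, (n : F) = x) ∧
      Nat.card (Sk k) = p * (p ^ 2 - 1) := by
  classical
  let ι : ZMod p →+* F := ZMod.castHom (dvd_refl p) F
  have hι : Function.Injective ι := ι.injective
  refine ⟨ι.fieldRange, ?_, ?_, ?_⟩
  · have : ((ι.fieldRange : Subfield F) : Set F) = Set.range ι := RingHom.coe_fieldRange ι
    show Nat.card ((ι.fieldRange : Subfield F) : Set F) = p
    rw [this, Nat.card_congr (Equiv.ofInjective ι hι).symm, Nat.card_eq_fintype_card, ZMod.card]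
  · rintro x ⟨z, rfl⟩
    refine ⟨(z.val : ℤ), ?_⟩
    show ((z.val : ℤ) : F) = ZMod.cast z
    rw [Int.cast_natCast, ZMod.natCast_val]
  · rw [← range_map ι]
    have hinj : Function.Injective (Matrix.SpecialLinearGroup.map (n := Fin 2) ι) := by
      intro A B hAB
      have h00 := congrArg (fun g : SL(2, F) => g.1 0 0) hAB
      have h01 := congrArg (fun g : SL(2, F) => g.1 0 1) hAB
      have h10 := congrArg (fun g : SL(2, F) => g.1 1 0) hAB
      have h11 := congrArg (fun g : SL(2, F) => g.1 1 1) hAB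
      simp only [map_entry] at h00 h01 h10 h11
      exact sl2_ext A B (hι h00) (hι h01) (hι h10) (hι h11)
    rw [Nat.card_congr (MonoidHom.ofInjective hinj).symm.toEquiv]
    exact Cfsg.Agent.Lib.Helper5.SL2Card.card_SL_two (ZMod.card p)

section index

/-- a homomorphism from `SL(2, F)` with commutative image is trivial (`|F| > 3`) -/
lemma hom_trivial_of_comm (s : F) (hs0 : s ≠ 0) (hs : s ^ 2 ≠ 1) {P : Type*} [Group P]
    (f : SL(2, F) →* P) (hc : ∀ g h, f g * f h = f h * f g) : ∀ g, f g = 1 := by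
  have hker : f.ker = ⊤ := by
    apply eq_top_of_u_l
    · intro z
      rw [MonoidHom.mem_ker]
      have hs1 : s ^ 2 - 1 ≠ 0 := sub_ne_zero.2 hs
      have e : u z = d s hs0 * u (z / (s ^ 2 - 1)) * (d s hs0)⁻¹ * (u (z / (s ^ 2 - 1)))⁻¹ := by
        rw [d_u_d, u_inv, u_mul]
        congr 1
        field_simp
        ring
      rw [e]
      simp only [map_mul, map_inv]
      rw [hc (d s hs0), mul_inv_cancel_right, mul_inv_cancel]
    · intro z
      rw [MonoidHom.mem_ker]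
      have hs1 : (s⁻¹) ^ 2 - 1 ≠ 0 := by
        intro h
        apply hs
        have h' : (s⁻¹) ^ 2 = 1 := sub_eq_zero.1 h
        field_simp at h'
        exact h'.symm
      have e : l z = d s hs0 * l (z / ((s⁻¹) ^ 2 - 1)) * (d s hs0)⁻¹ *
          (l (z / ((s⁻¹) ^ 2 - 1)))⁻¹ := by
        rw [d_l_d', l_inv, l_mul]
        congr 1
        field_simp
        ring
      rw [e]
      simp only [map_mul, map_inv]
      rw [hc (d s hs0), mul_inv_cancel_right, mul_inv_cancel]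
  intro g
  have : g ∈ f.ker := by rw [hker]; trivial
  exact this

/-- `SL(2, F)`, `|F| > 3`, has no proper subgroup of small index -/
theorem eq_top_of_index [Fintype F] (hF : 3 < Fintype.card F) (X : Subgroup SL(2, F)) (n : ℕ)
    (hn : X.index = n) (hn0 : n ≠ 0)
    (hcomm : ∀ a b : Equiv.Perm (Fin n), Equiv.Perm.sign a = 1 → Equiv.Perm.sign b = 1 →
      a * b = b * a) : X = ⊤ := by
  classical
  obtain ⟨s, hs0, hs⟩ : ∃ s : F, s ≠ 0 ∧ s ^ 2 ≠ 1 := by
    have hlt : ({0, 1, -1} : Finset F).card < (Finset.univ : Finset F).card := by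
      rw [Finset.card_univ]
      exact lt_of_le_of_lt Finset.card_le_three hF
    obtain ⟨s, -, hs⟩ := Finset.exists_mem_notMem_of_card_lt_card hlt
    simp only [Finset.mem_insert, Finset.mem_singleton, not_or] at hs
    refine ⟨s, hs.1, fun h => ?_⟩
    have h' : (s - 1) * (s + 1) = 0 := by linear_combination h
    rcases mul_eq_zero.1 h' with h'' | h''
    · exact hs.2.1 (sub_eq_zero.1 h'')
    · exact hs.2.2 (eq_neg_of_add_eq_zero_left h'')
  have hQ : Nat.card (SL(2, F) ⧸ X) = n := by rw [← Subgroup.index_eq_card, hn]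
  haveI : Finite (SL(2, F) ⧸ X) := Nat.finite_of_card_ne_zero (by rw [hQ]; exact hn0)
  haveI := Fintype.ofFinite (SL(2, F) ⧸ X)
  let e : (SL(2, F) ⧸ X) ≃ Fin n :=
    Fintype.equivFinOfCardEq (by rw [← Nat.card_eq_fintype_card]; exact hQ)
  let φ : SL(2, F) →* Equiv.Perm (SL(2, F) ⧸ X) := MulAction.toPermHom SL(2, F) (SL(2, F) ⧸ X)
  let Φ : SL(2, F) →* Equiv.Perm (Fin n) := e.permCongrHom.toMonoidHom.comp φ
  have hsign : ∀ g, Equiv.Perm.sign (Φ g) = 1 :=
    hom_trivial_of_comm s hs0 hs (Equiv.Perm.sign.comp Φ) (fun g h => mul_comm _ _)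
  have hΦ : ∀ g, Φ g = 1 :=
    hom_trivial_of_comm s hs0 hs Φ (fun g h => hcomm _ _ (hsign g) (hsign h))
  have hφ : ∀ g, φ g = 1 := by
    intro g
    apply e.permCongrHom.injective
    rw [map_one]
    exact hΦ g
  rw [eq_top_iff]
  intro g _
  have h1 : φ g (QuotientGroup.mk 1) = QuotientGroup.mk 1 := by rw [hφ g]; rfl
  have h2 : φ g (QuotientGroup.mk 1) = (QuotientGroup.mk (g * 1) : SL(2, F) ⧸ X) := rfl
  rw [h2, mul_one] at h1
  have h3 := QuotientGroup.eq.1 h1
  have h4 := X.inv_mem h3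
  simpa using h4

end index

end Cfsg.Agent.Lib.Helper98.SL2Quad
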