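import Mathlib
import Cfsg.Agent.Lib.Helper98.SL2Quad
import Cfsg.Agent.Lib.Helper98.SL2Core
import Cfsg.Agent.Lib.Helper98.PSL2Max

set_option autoImplicit false

/-!
# Dickson's theorem for `SL(2, F)`, `F` a finite field of odd characteristic: subgroups of order
divisible by the characteristic

`main`: a subgroup `X` of `SL(2, F)` of order divisible by the characteristic is conjugate into
the upper triangular group, or some automorphic image of it lies between `Sk k` and `Pk k` for a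
subfield `k`, or (characteristic three) some automorphic image of it is a proper subgroup of
`Sk k9` for a subfield `k9` with nine elements.
-/

namespace Cfsg.Agent.Lib.Helper98.DicksonOdd

open Matrix MatrixGroups
open Cfsg.Agent.Lib.Helper98.SL2Sub Cfsg.Agent.Lib.Helper98.SL2Gen
open Cfsg.Agent.Lib.Helper98.SL2Field Cfsg.Agent.Lib.Helper98.SL2Quad
open Cfsg.Agent.Lib.Helper98.SL2Core
open Cfsg.Agent.S5941 (Pk Sk_le_Pk)

variable {F : Type*} [Field F]

/-- conjugation by a diagonal matrix, as an automorphism -/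
def diagAut (t : F) (ht : t ≠ 0) : SL(2, F) ≃* SL(2, F) where
  toFun := diagConj t ht
  invFun := diagConj t⁻¹ (inv_ne_zero ht)
  left_inv := by
    intro g
    apply sl2_ext <;> simp [ht]
  right_inv := by
    intro g
    apply sl2_ext <;> simp [ht]
  map_mul' := (diagConj t ht).map_mul

lemma diagAut_apply (t : F) (ht : t ≠ 0) (g : SL(2, F)) : diagAut t ht g = diagConj t ht g := rfl

/-- the subfields `k` such that some automorphic image of `X` contains `Sk k` -/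
def KK (X : Subgroup SL(2, F)) : Set (Subfield F) :=
  {k | ∃ φ : SL(2, F) ≃* SL(2, F), Sk k ≤ X.map φ.toMonoidHom}

lemma N_le_comap (k : Subfield F) (Y : Subgroup SL(2, F)) (hu : ∀ a ∈ k, u a ∈ Y)
    (g : SL(2, F)) (hg : g ∈ Y) (hc0 : g.1 1 0 ≠ 0) :
    N k ((g.1 1 0) ^ 2) ≤ Y.comap (MulAut.conj (u (g.1 0 0 / g.1 1 0))).toMonoidHom := by
  rw [N, Subgroup.closure_le]
  rintro x (⟨a, ha, rfl⟩ | ⟨a, ha, rfl⟩)
  · show (MulAut.conj (u (g.1 0 0 / g.1 1 0))) (u a) ∈ Y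
    rw [MulAut.conj_apply, u_inv, u_mul, u_mul]
    have : g.1 0 0 / g.1 1 0 + a + -(g.1 0 0 / g.1 1 0) = a := by ring
    rw [this]; exact hu a ha
  · show (MulAut.conj (u (g.1 0 0 / g.1 1 0))) (l ((g.1 1 0) ^ 2 * a)) ∈ Y
    rw [MulAut.conj_apply, conj_gen g hc0]
    exact Y.mul_mem (Y.mul_mem hg (hu _ (k.neg_mem ha))) (Y.inv_mem hg)

lemma le_map_trans (X S : Subgroup SL(2, F)) (φ ψ : SL(2, F) ≃* SL(2, F))
    (h : S ≤ (X.map φ.toMonoidHom).comap ψ.toMonoidHom) :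
    S ≤ X.map (φ.trans ψ.symm).toMonoidHom := by
  intro x hx
  obtain ⟨y, hy, hyx⟩ := h hx
  refine ⟨y, hy, ?_⟩
  show ψ.symm (φ y) = x
  rw [MulEquiv.symm_apply_eq]
  exact hyx

/-- the climbing step -/
lemma climb [Finite F] (h2 : (2 : F) ≠ 0) (X : Subgroup SL(2, F)) (k : Subfield F)
    (φ : SL(2, F) ≃* SL(2, F)) (hu : ∀ a ∈ k, u a ∈ X.map φ.toMonoidHom) (g : SL(2, F))
    (hg : g ∈ X.map φ.toMonoidHom) (hc0 : g.1 1 0 ≠ 0) :
    Subfield.closure ((k : Set F) ∪ {(g.1 1 0) ^ 2}) ∈ KK X ∨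
      ((3 : F) = 0 ∧ ((g.1 1 0) ^ 2) ^ 2 = -1 ∧
        N k ((g.1 1 0) ^ 2) ≤
          X.map (φ.trans (MulAut.conj (u (g.1 0 0 / g.1 1 0))).symm).toMonoidHom) := by
  have hle := le_map_trans X _ φ _ (N_le_comap k _ hu g hg hc0)
  rcases gen_main k h2 ((g.1 1 0) ^ 2) (pow_ne_zero 2 hc0) with h | ⟨h3, hl, -⟩
  · left
    exact ⟨_, (Sk_le_of_u_l _ _ (fun z hz => (h z hz).1) (fun z hz => (h z hz).2)).trans hle⟩
  · right
    exact ⟨h3, hl, hle⟩

lemma exists_max_KK [Finite F] (X : Subgroup SL(2, F)) (h : (KK X).Nonempty) :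
    ∃ k ∈ KK X, ∀ k' ∈ KK X, k ≤ k' → k' = k := by
  haveI : Finite (Subfield F) :=
    Finite.of_injective (fun k : Subfield F => (k : Set F)) SetLike.coe_injective
  obtain ⟨k₀, hk₀⟩ := h
  obtain ⟨k, -, hk⟩ := (Set.toFinite (KK X)).exists_le_maximal hk₀
  exact ⟨k, hk.1, fun k' hk' hle => le_antisymm (hk.2 hk' hle) hle⟩

/-- a subgroup containing `Sk k` all of whose lower left entries have squares in `k` lies in
`Pk k` -/
lemma le_Pk_of_sq (k : Subfield F) (h2 : (2 : F) ≠ 0) (X : Subgroup SL(2, F)) (hSk : Sk k ≤ X)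
    (h : ∀ g ∈ X, (g.1 1 0) ^ 2 ∈ k) : X ≤ Pk k := by
  have h2k : (2 : F) ∈ k := by
    have : (2 : F) = 1 + 1 := by norm_num
    rw [this]; exact k.add_mem k.one_mem k.one_mem
  have hw : (w : SL(2, F)) ∈ X := hSk w_mem_Sk
  have hl1 : l 1 ∈ X := hSk (l_mem_Sk k.one_mem)
  have key : ∀ g ∈ X, g.1 1 0 ≠ 0 → g ∈ Pk k := by
    intro g hg hγ
    have e1 := h g hg
    have e2 := h (l 1 * g) (X.mul_mem hl1 hg)
    have e3 := h (w * g) (X.mul_mem hw hg)
    have e4 := h (g * l 1) (X.mul_mem hg hl1)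
    have e5 := h (g * w) (X.mul_mem hg hw)
    simp only [mul10, l10, l11, l00, w10, w11, w00, one_mul, mul_one, mul_zero, zero_mul,
      add_zero, zero_add, neg_mul, mul_neg, neg_sq] at e2 e3 e4 e5
    have p1 : g.1 0 0 * g.1 1 0 ∈ k := by
      have : g.1 0 0 * g.1 1 0 =
          ((g.1 0 0 + g.1 1 0) ^ 2 - (g.1 0 0) ^ 2 - (g.1 1 0) ^ 2) / 2 := by
        field_simp; ring
      rw [this]; exact k.div_mem (k.sub_mem (k.sub_mem e2 e3) e1) h2k
    have p2 : g.1 1 0 * g.1 1 1 ∈ k := by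
      have : g.1 1 0 * g.1 1 1 =
          ((g.1 1 0 + g.1 1 1) ^ 2 - (g.1 1 0) ^ 2 - (g.1 1 1) ^ 2) / 2 := by
        field_simp; ring
      rw [this]; exact k.div_mem (k.sub_mem (k.sub_mem e4 e1) e5) h2k
    have p3 : g.1 0 0 * g.1 1 1 ∈ k := by
      have : g.1 0 0 * g.1 1 1 =
          (g.1 0 0 * g.1 1 0) * (g.1 1 0 * g.1 1 1) / (g.1 1 0) ^ 2 := by field_simp
      rw [this]; exact k.div_mem (k.mul_mem p1 p2) e1
    have p4 : g.1 1 0 * g.1 0 1 ∈ k := by
      have hd := det_eq g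
      have : g.1 1 0 * g.1 0 1 = g.1 0 0 * g.1 1 1 - 1 := by linear_combination -hd
      rw [this]; exact k.sub_mem p3 k.one_mem
    refine ⟨g.1 1 0, hγ, ?_, p4, ?_, p2⟩
    · rw [mul_comm]; exact p1
    · rw [← sq]; exact e1
  intro g hg
  by_cases hc : g.1 1 0 = 0
  · have ha : g.1 0 0 ≠ 0 := by
      intro h0
      have hd := det_eq g
      rw [h0, hc] at hd
      simp at hd
    have h1 : w * g ∈ Pk k := by
      apply key _ (X.mul_mem hw hg)
      simp [mul10, hc, ha]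
    have := (Pk k).mul_mem ((Pk k).inv_mem (Sk_le_Pk k w_mem_Sk)) h1
    simpa using this
  · exact key g hg hc

/-- the subfield generated by a square root of `-1` -/
def k9 [Finite F] (i : F) (hi : i ^ 2 = -1) : Subfield F :=
  mkSubfield
    { carrier := {x | ∃ a b : ℤ, x = a + b * i}
      mul_mem' := by
        rintro x y ⟨a, b, rfl⟩ ⟨c, d, rfl⟩
        refine ⟨a * c - b * d, a * d + b * c, ?_⟩
        push_cast
        linear_combination ((b : F) * d) * hi
      one_mem' := ⟨1, 0, by simp⟩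
      add_mem' := by
        rintro x y ⟨a, b, rfl⟩ ⟨c, d, rfl⟩
        exact ⟨a + c, b + d, by push_cast; ring⟩
      zero_mem' := ⟨0, 0, by simp⟩
      neg_mem' := by
        rintro x ⟨a, b, rfl⟩
        exact ⟨-a, -b, by push_cast; ring⟩ }

lemma mem_k9 [Finite F] (i : F) (hi : i ^ 2 = -1) {x : F} :
    x ∈ k9 i hi ↔ ∃ a b : ℤ, x = a + b * i := Iff.rfl

lemma cast_emod (h3 : (3 : F) = 0) (a : ℤ) : ((a % 3 : ℤ) : F) = (a : F) := by
  conv_rhs => rw [← Int.emod_add_mul_ediv a 3]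
  push_cast
  rw [h3]; ring

lemma cast_eq_zero (h2 : (2 : F) ≠ 0) (h3 : (3 : F) = 0) (a : ℤ) (h : (a : F) = 0) :
    (3 : ℤ) ∣ a := by
  rw [← cast_emod h3] at h
  have h0 : 0 ≤ a % 3 := Int.emod_nonneg a (by norm_num)
  have h1 : a % 3 < 3 := Int.emod_lt_of_pos a (by norm_num)
  obtain ⟨r, hr⟩ : ∃ r, r = a % 3 := ⟨_, rfl⟩
  rw [← hr] at h h0 h1
  interval_cases r
  · exact Int.dvd_of_emod_eq_zero hr.symm
  · simp at h
  · exact absurd (by exact_mod_cast h) h2

lemma card_k9 [Finite F] (h2 : (2 : F) ≠ 0) (h3 : (3 : F) = 0) (i : F) (hi : i ^ 2 = -1) :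
    Nat.card (k9 i hi) = 9 := by
  let f : Fin 3 × Fin 3 → k9 i hi := fun ab =>
    ⟨((ab.1 : ℕ) : F) + ((ab.2 : ℕ) : F) * i, ⟨(ab.1 : ℕ), (ab.2 : ℕ), by push_cast; ring⟩⟩
  have hsurj : Function.Surjective f := by
    rintro ⟨x, a, b, rfl⟩
    have ha0 : 0 ≤ a % 3 := Int.emod_nonneg a (by norm_num)
    have ha1 : a % 3 < 3 := Int.emod_lt_of_pos a (by norm_num)
    have hb0 : 0 ≤ b % 3 := Int.emod_nonneg b (by norm_num)
    have hb1 : b % 3 < 3 := Int.emod_lt_of_pos b (by norm_num)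
    refine ⟨(⟨(a % 3).toNat, by omega⟩, ⟨(b % 3).toNat, by omega⟩), ?_⟩
    apply Subtype.ext
    show (((a % 3).toNat : ℕ) : F) + (((b % 3).toNat : ℕ) : F) * i = a + b * i
    have e1 : (((a % 3).toNat : ℕ) : F) = (a : F) := by
      rw [← cast_emod h3 a]
      conv_rhs => rw [← Int.toNat_of_nonneg ha0]
      rw [Int.cast_natCast]
    have e2 : (((b % 3).toNat : ℕ) : F) = (b : F) := by
      rw [← cast_emod h3 b]
      conv_rhs => rw [← Int.toNat_of_nonneg hb0]
      rw [Int.cast_natCast]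
    rw [e1, e2]
  have hinj : Function.Injective f := by
    rintro ⟨a, b⟩ ⟨c, d⟩ h
    have h' : ((a : ℕ) : F) + ((b : ℕ) : F) * i = ((c : ℕ) : F) + ((d : ℕ) : F) * i :=
      congrArg Subtype.val h
    have key : (3 : ℤ) ∣ ((b : ℤ) - d) ^ 2 + ((c : ℤ) - a) ^ 2 := by
      apply cast_eq_zero h2 h3
      push_cast
      have e : (((b : ℕ) : F) - ((d : ℕ) : F)) * i = ((c : ℕ) : F) - ((a : ℕ) : F) := by
        linear_combination h'
      have e2 : (((b : ℕ) : F) - ((d : ℕ) : F)) ^ 2 * i ^ 2 =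
          (((c : ℕ) : F) - ((a : ℕ) : F)) ^ 2 := by rw [← e]; ring
      rw [hi] at e2
      linear_combination -e2
    have fin : ∀ a b c d : Fin 3,
        (3 : ℤ) ∣ (((b : ℕ) : ℤ) - ((d : ℕ) : ℤ)) ^ 2 + (((c : ℕ) : ℤ) - ((a : ℕ) : ℤ)) ^ 2 →
          a = c ∧ b = d := by decide
    obtain ⟨rfl, rfl⟩ := fin a b c d key
    rfl
  rw [← Nat.card_congr (Equiv.ofBijective f ⟨hinj, hsurj⟩)]
  simp

/-- the exceptional scenario in characteristic three -/
lemma scenarioE [Finite F] (h2 : (2 : F) ≠ 0) (h3 : (3 : F) = 0) (X : Subgroup SL(2, F))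
    (φ : SL(2, F) ≃* SL(2, F)) (i : F) (hi : i ^ 2 = -1)
    (hu : u 1 ∈ X.map φ.toMonoidHom) (hl : l i ∈ X.map φ.toMonoidHom)
    (hK : ∀ k ∈ KK X, ∀ x ∈ k, x = 0 ∨ x = 1 ∨ x = -1) :
    X.map φ.toMonoidHom ≤ Sk (k9 i hi) ∧ X.map φ.toMonoidHom ≠ Sk (k9 i hi) := by
  obtain ⟨Y, hY⟩ : ∃ Y, Y = X.map φ.toMonoidHom := ⟨_, rfl⟩
  have huP : ∀ a ∈ primeSub F, u a ∈ X.map φ.toMonoidHom := by
    intro a ha
    obtain ⟨n, rfl⟩ := mem_primeSub.1 ha
    have := (X.map φ.toMonoidHom).zpow_mem hu n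
    rw [u_zpow, mul_one] at this
    exact this
  rw [← hY] at hu hl ⊢
  have hi0 : i ≠ 0 := by
    rintro rfl
    simp at hi
  have hik : i ∈ k9 i hi := ⟨0, 1, by simp⟩
  have h1k : (1 : F) ∈ k9 i hi := (k9 i hi).one_mem
  have s1 : ∀ g ∈ Y, g.1 1 0 ∈ k9 i hi := by
    intro g hg
    by_cases hc0 : g.1 1 0 = 0
    · rw [hc0]; exact (k9 i hi).zero_mem
    rcases climb h2 X (primeSub F) φ huP g (hY ▸ hg) hc0 with hKK | ⟨-, hlam, -⟩
    · rcases hK _ hKK ((g.1 1 0) ^ 2) (Subfield.subset_closure (Or.inr rfl)) with h | h | h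
      · exact (pow_ne_zero 2 hc0 h).elim
      · have : (g.1 1 0 - 1) * (g.1 1 0 + 1) = 0 := by linear_combination h
        rcases mul_eq_zero.1 this with h' | h'
        · rw [sub_eq_zero.1 h']; exact h1k
        · rw [eq_neg_of_add_eq_zero_left h']; exact (k9 i hi).neg_mem h1k
      · have : (g.1 1 0 - i) * (g.1 1 0 + i) = 0 := by linear_combination h - hi
        rcases mul_eq_zero.1 this with h' | h'
        · rw [sub_eq_zero.1 h']; exact hik
        · rw [eq_neg_of_add_eq_zero_left h']; exact (k9 i hi).neg_mem hik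
    · have : ((g.1 1 0) ^ 2 - i) * ((g.1 1 0) ^ 2 + i) = 0 := by linear_combination hlam - hi
      rcases mul_eq_zero.1 this with h' | h'
      · have : (g.1 1 0 - (1 - i)) * (g.1 1 0 + (1 - i)) = 0 := by
          linear_combination h' - hi + i * h3
        rcases mul_eq_zero.1 this with h'' | h''
        · rw [sub_eq_zero.1 h'']; exact (k9 i hi).sub_mem h1k hik
        · rw [eq_neg_of_add_eq_zero_left h'']
          exact (k9 i hi).neg_mem ((k9 i hi).sub_mem h1k hik)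
      · have : (g.1 1 0 - (1 + i)) * (g.1 1 0 + (1 + i)) = 0 := by
          linear_combination h' - hi - i * h3
        rcases mul_eq_zero.1 this with h'' | h''
        · rw [sub_eq_zero.1 h'']; exact (k9 i hi).add_mem h1k hik
        · rw [eq_neg_of_add_eq_zero_left h'']
          exact (k9 i hi).neg_mem ((k9 i hi).add_mem h1k hik)
  have s00 : ∀ g ∈ Y, g.1 0 0 ∈ k9 i hi := by
    intro g hg
    have e := s1 (l i * g) (Y.mul_mem hl hg)
    rw [mul10, l10, l11, one_mul] at e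
    have e2 : i * g.1 0 0 ∈ k9 i hi := by
      have := (k9 i hi).sub_mem e (s1 g hg)
      simpa using this
    have : g.1 0 0 = (i * g.1 0 0) / i := by field_simp
    rw [this]; exact (k9 i hi).div_mem e2 hik
  have s11 : ∀ g ∈ Y, g.1 1 1 ∈ k9 i hi := by
    intro g hg
    have e := s1 (g * l i) (Y.mul_mem hg hl)
    rw [mul10, l00, l10, mul_one] at e
    have e2 : g.1 1 1 * i ∈ k9 i hi := by
      have := (k9 i hi).sub_mem e (s1 g hg)
      simpa using this
    have : g.1 1 1 = (g.1 1 1 * i) / i := by field_simp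
    rw [this]; exact (k9 i hi).div_mem e2 hik
  have s01 : ∀ g ∈ Y, g.1 1 0 ≠ 0 → g.1 0 1 ∈ k9 i hi := by
    intro g hg hc0
    have hd := det_eq g
    have : g.1 0 1 = (g.1 0 0 * g.1 1 1 - 1) / g.1 1 0 := by
      field_simp; linear_combination (-1 : F) * hd
    rw [this]
    exact (k9 i hi).div_mem ((k9 i hi).sub_mem ((k9 i hi).mul_mem (s00 g hg) (s11 g hg)) h1k)
      (s1 g hg)
  constructor
  · intro g hg
    refine ⟨s00 g hg, ?_, s1 g hg, s11 g hg⟩
    by_cases hc0 : g.1 1 0 = 0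
    · have ha : g.1 0 0 ≠ 0 := by
        intro h0
        have hd := det_eq g
        rw [h0, hc0] at hd
        simp at hd
      have e := s01 (l i * g) (Y.mul_mem hl hg) (by rw [mul10, l10, l11, hc0]; simp [hi0, ha])
      rw [mul01, l00, l01] at e
      simpa using e
    · exact s01 g hg hc0
  · intro heq
    have hmem : k9 i hi ∈ KK X := ⟨φ, by rw [← hY, heq]⟩
    rcases hK _ hmem i hik with h | h | h
    · exact hi0 h
    · rw [h] at hi
      apply h2; linear_combination hi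
    · rw [h] at hi
      apply h2; linear_combination hi

/-- **Dickson's theorem**, subgroups of order divisible by the characteristic. -/
theorem main [Finite F] (p : ℕ) [Fact p.Prime] [CharP F p] (h2 : (2 : F) ≠ 0)
    (X : Subgroup SL(2, F)) (hp : p ∣ Nat.card X) :
    (∃ g : SL(2, F), ∀ y ∈ X, (g * y * g⁻¹).1 1 0 = 0) ∨
    (∃ (φ : SL(2, F) ≃* SL(2, F)) (k : Subfield F),
      Sk k ≤ X.map φ.toMonoidHom ∧ X.map φ.toMonoidHom ≤ Pk k) ∨
    ((3 : F) = 0 ∧ ∃ (φ : SL(2, F) ≃* SL(2, F)) (i : F) (hi : i ^ 2 = -1),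
      X.map φ.toMonoidHom ≤ Sk (k9 i hi) ∧ X.map φ.toMonoidHom ≠ Sk (k9 i hi)) := by
  haveI : Finite SL(2, F) := Cfsg.Agent.Lib.Helper98.PSL2Max.finite_SL
  rcases unip_dichotomy p X hp with hB | ⟨g, a, c, ha, hc, hua, hlc⟩
  · left; exact hB
  right
  obtain ⟨φ₁, hφ₁⟩ : ∃ φ₁ : SL(2, F) ≃* SL(2, F),
      φ₁ = (MulAut.conj g).trans (diagAut a ha) := ⟨_, rfl⟩
  have hu1 : u 1 ∈ X.map φ₁.toMonoidHom := by
    refine ⟨g⁻¹ * u a * g, hua, ?_⟩
    rw [hφ₁]
    show diagConj a ha (g * (g⁻¹ * u a * g) * g⁻¹) = u 1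
    have e : g * (g⁻¹ * u a * g) * g⁻¹ = u a := by group
    rw [e, diagConj_u, inv_mul_cancel₀ ha]
  have hl1 : l (a * c) ∈ X.map φ₁.toMonoidHom := by
    refine ⟨g⁻¹ * l c * g, hlc, ?_⟩
    rw [hφ₁]
    show diagConj a ha (g * (g⁻¹ * l c * g) * g⁻¹) = l (a * c)
    have e : g * (g⁻¹ * l c * g) * g⁻¹ = l c := by group
    rw [e, diagConj_l]
  have huP : ∀ x ∈ primeSub F, u x ∈ X.map φ₁.toMonoidHom := by
    intro x hx
    obtain ⟨n, rfl⟩ := mem_primeSub.1 hx
    have := (X.map φ₁.toMonoidHom).zpow_mem hu1 n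
    rw [u_zpow, mul_one] at this
    exact this
  by_cases hne : (KK X).Nonempty
  · obtain ⟨k, ⟨φ, hφ⟩, hmax⟩ := exists_max_KK X hne
    by_cases hsq : ∀ g ∈ X.map φ.toMonoidHom, (g.1 1 0) ^ 2 ∈ k
    · left; exact ⟨φ, k, hφ, le_Pk_of_sq k h2 _ hφ hsq⟩
    right
    push Not at hsq
    obtain ⟨g₀, hg₀, hg₀k⟩ := hsq
    have hc0 : g₀.1 1 0 ≠ 0 := by
      intro h0
      rw [h0] at hg₀k
      exact hg₀k (by simp [k.zero_mem])
    have huk : ∀ a ∈ k, u a ∈ X.map φ.toMonoidHom := fun a ha => hφ (u_mem_Sk ha)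
    have hnoext : ∀ lam : F, lam ∉ k → Subfield.closure ((k : Set F) ∪ {lam}) ∉ KK X := by
      intro lam hlam hmem
      have hle : k ≤ Subfield.closure ((k : Set F) ∪ {lam}) :=
        fun x hx => Subfield.subset_closure (Or.inl hx)
      have := hmax _ hmem hle
      apply hlam
      rw [← this]
      exact Subfield.subset_closure (Or.inr rfl)
    rcases climb h2 X k φ huk g₀ hg₀ hc0 with hK | ⟨h3, hl, hN⟩
    · exact absurd hK (hnoext _ hg₀k)
    obtain ⟨i, hi⟩ : ∃ i, i = (g₀.1 1 0) ^ 2 := ⟨_, rfl⟩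
    obtain ⟨φ', hφ'⟩ : ∃ φ' : SL(2, F) ≃* SL(2, F),
        φ' = φ.trans (MulAut.conj (u (g₀.1 0 0 / g₀.1 1 0))).symm := ⟨_, rfl⟩
    rw [← hi] at hl hN hg₀k
    rw [← hφ'] at hN
    have hu' : ∀ a ∈ k, u a ∈ X.map φ'.toMonoidHom := fun a ha => hN (u_mem_N k i ha)
    have h2k : (2 : F) ∈ k := by
      have : (2 : F) = 1 + 1 := by norm_num
      rw [this]; exact k.add_mem k.one_mem k.one_mem
    have h4k : (4 : F) ∈ k := by
      have : (4 : F) = 2 * 2 := by norm_num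
      rw [this]; exact k.mul_mem h2k h2k
    have h4 : (4 : F) ≠ 0 := by
      have : (4 : F) = 2 * 2 := by norm_num
      rw [this]; exact mul_ne_zero h2 h2
    have hkP : ∀ x ∈ k, x = 0 ∨ x = 1 ∨ x = -1 := by
      intro x hx
      by_contra hcon
      push Not at hcon
      obtain ⟨hx0, hx1, hx2⟩ := hcon
      have hxx : x * (x ^ 2 - 1) ≠ 0 := by
        apply mul_ne_zero hx0
        intro h
        have : (x - 1) * (x + 1) = 0 := by linear_combination h
        rcases mul_eq_zero.1 this with h' | h'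
        · exact hx1 (sub_eq_zero.1 h')
        · exact hx2 (eq_neg_of_add_eq_zero_left h')
      obtain ⟨g', hg'⟩ : ∃ g' : SL(2, F), g' = l (i * (-1)) * u (-x) * l (i * (-1)) := ⟨_, rfl⟩
      have hg'Y : g' ∈ X.map φ'.toMonoidHom := by
        rw [hg']
        have hl' : l (i * (-1)) ∈ N k i := l_mem_N k i (k.neg_mem k.one_mem)
        exact hN ((N k i).mul_mem ((N k i).mul_mem hl' (u_mem_N k i (k.neg_mem hx))) hl')
      have h10 : g'.1 1 0 = x + i := by
        rw [hg']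
        simp only [mul10, mul11, l00, l10, l11, u00, u01, u10, u11]
        linear_combination (-x) * hl - i * h3
      have hne10 : g'.1 1 0 ≠ 0 := by
        rw [h10]
        intro h
        apply hg₀k
        have : i = -x := by linear_combination h
        rw [this]; exact k.neg_mem hx
      have hsqv : (g'.1 1 0) ^ 2 = (x ^ 2 - 1) + 2 * x * i := by
        rw [h10]; linear_combination hl
      have hlam' : (g'.1 1 0) ^ 2 ∉ k := by
        rw [hsqv]
        intro h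
        apply hg₀k
        have : i = ((x ^ 2 - 1 + 2 * x * i) - (x ^ 2 - 1)) / (2 * x) := by field_simp; ring
        rw [this]
        exact k.div_mem (k.sub_mem h (k.sub_mem (k.pow_mem hx 2) k.one_mem)) (k.mul_mem h2k hx)
      rcases climb h2 X k φ' hu' g' hg'Y hne10 with hK | ⟨-, hl', -⟩
      · exact hnoext _ hlam' hK
      · rw [hsqv] at hl'
        apply hg₀k
        have : i = (-1 - (x ^ 2 - 1) ^ 2 + 4 * x ^ 2) / (4 * (x * (x ^ 2 - 1))) := by
          rw [eq_div_iff (mul_ne_zero h4 hxx)]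
          linear_combination hl' - 4 * x ^ 2 * hl
        rw [this]
        exact k.div_mem
          (k.add_mem (k.sub_mem (k.neg_mem k.one_mem)
            (k.pow_mem (k.sub_mem (k.pow_mem hx 2) k.one_mem) 2)) (k.mul_mem h4k (k.pow_mem hx 2)))
          (k.mul_mem h4k (k.mul_mem hx (k.sub_mem (k.pow_mem hx 2) k.one_mem)))
    refine ⟨h3, φ', i, hl, ?_⟩
    apply scenarioE h2 h3 X φ' i hl (hN (u_mem_N k i k.one_mem)) ?_ ?_
    · have := hN (l_mem_N k i k.one_mem)
      rwa [mul_one] at this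
    · intro k' hk' x hx
      have hle : k ≤ k' := by
        intro y hy
        rcases hkP y hy with rfl | rfl | rfl
        · exact k'.zero_mem
        · exact k'.one_mem
        · exact k'.neg_mem k'.one_mem
      have := hmax k' hk' hle
      rw [this] at hx
      exact hkP x hx
  · right
    have hlc0 : (l (a * c)).1 1 0 ≠ 0 := by rw [l10]; exact mul_ne_zero ha hc
    rcases climb h2 X (primeSub F) φ₁ huP (l (a * c)) hl1 hlc0 with hK | ⟨h3, hl, hN⟩
    · exact absurd ⟨_, hK⟩ hne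
    obtain ⟨i, hi⟩ : ∃ i, i = ((l (a * c)).1 1 0) ^ 2 := ⟨_, rfl⟩
    obtain ⟨φ', hφ'⟩ : ∃ φ' : SL(2, F) ≃* SL(2, F), φ' = φ₁.trans
        (MulAut.conj (u ((l (a * c)).1 0 0 / (l (a * c)).1 1 0))).symm := ⟨_, rfl⟩
    rw [← hi] at hl hN
    rw [← hφ'] at hN
    refine ⟨h3, φ', i, hl, ?_⟩
    apply scenarioE h2 h3 X φ' i hl (hN (u_mem_N _ _ (primeSub F).one_mem)) ?_ ?_
    · have := hN (l_mem_N (primeSub F) i (primeSub F).one_mem)
      rwa [mul_one] at this
    · intro k' hk'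
      exact absurd ⟨k', hk'⟩ hne

end Cfsg.Agent.Lib.Helper98.DicksonOdd
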