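import Mathlib
import Cfsg.Agent.Lib.Helper98.DicksonOdd
import Cfsg.Agent.Lib.Helper98.SL2Tor

set_option autoImplicit false

/-!
# Orders of the subgroups of `SL(2, F)`, `F` a finite field of odd characteristic

* `card_Bo`, `card_Sk`, `card_Pk_le`: orders of the upper triangular group, of `SL(2, k)` and of
  the preimage of `PGL(2, k)`;
* `proper_cases`: the list of proper subgroups containing `-1`;
* `card_le_of_ne_top`: a proper subgroup containing `-1` has order at most `q (q - 1)`, `q ≥ 13`.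
-/

namespace Cfsg.Agent.Lib.Helper98.DicksonB

open Matrix MatrixGroups
open Cfsg.Agent.Lib.Helper98.SL2Sub Cfsg.Agent.Lib.Helper98.SL2Gen
open Cfsg.Agent.Lib.Helper98.SL2Field Cfsg.Agent.Lib.Helper98.SL2Quad
open Cfsg.Agent.Lib.Helper98.SL2Core Cfsg.Agent.Lib.Helper98.DicksonOdd
open Cfsg.Agent.Lib.Helper98.SL2Tor
open Cfsg.Agent.Lib.Helper53.SL2Inv Cfsg.Agent.Lib.Helper53.SL2Unip
open Cfsg.Agent.S5941 (Pk Sk_le_Pk)

variable {F : Type*} [Field F]

/-- the upper triangular subgroup -/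
def Bo (F : Type*) [Field F] : Subgroup SL(2, F) where
  carrier := {g | g.1 1 0 = 0}
  mul_mem' := by
    intro a b ha hb
    have ha' : a.1 1 0 = 0 := ha
    have hb' : b.1 1 0 = 0 := hb
    show (a * b).1 1 0 = 0
    rw [mul10, ha', hb']; ring
  one_mem' := one10
  inv_mem' := by
    intro a ha
    have ha' : a.1 1 0 = 0 := ha
    show (a⁻¹).1 1 0 = 0
    rw [inv10, ha', neg_zero]

lemma mem_Bo (g : SL(2, F)) : g ∈ Bo F ↔ g.1 1 0 = 0 := Iff.rfl

theorem card_Bo [Fintype F] : Nat.card (Bo F) = Fintype.card F * (Fintype.card F - 1) := by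
  classical
  have hinj : ∀ g : Bo F, g.1.1 0 0 ≠ 0 := by
    intro g h0
    have hd := det_eq g.1
    have hc : g.1.1 1 0 = 0 := g.2
    rw [h0, hc] at hd
    simp at hd
  let e : Bo F ≃ F × Fˣ :=
    { toFun := fun g => (g.1.1 0 1, Units.mk0 (g.1.1 0 0) (hinj g))
      invFun := fun p => ⟨⟨!![(p.2 : F), p.1; 0, (p.2 : F)⁻¹], by
          rw [Matrix.det_fin_two_of, mul_zero, sub_zero, mul_inv_cancel₀ p.2.ne_zero]⟩, rfl⟩
      left_inv := by
        rintro ⟨g, hg⟩
        have hg' : g.1 1 0 = 0 := hg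
        apply Subtype.ext
        apply sl2_ext
        · rfl
        · rfl
        · exact hg'.symm
        · have hd := det_eq g
          rw [hg', mul_zero, sub_zero] at hd
          show (g.1 0 0)⁻¹ = g.1 1 1
          exact inv_eq_of_mul_eq_one_right hd
      right_inv := by
        rintro ⟨b, a⟩
        apply Prod.ext
        · rfl
        · apply Units.ext
          rfl }
  rw [Nat.card_congr e, Nat.card_prod, Nat.card_units, Nat.card_eq_fintype_card]

lemma map_conj_le_Bo (X : Subgroup SL(2, F)) (g : SL(2, F))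
    (h : ∀ y ∈ X, (g * y * g⁻¹).1 1 0 = 0) : X.map (MulAut.conj g).toMonoidHom ≤ Bo F := by
  rintro _ ⟨y, hy, rfl⟩
  exact h y hy

lemma card_map_equiv {G : Type*} [Group G] (X : Subgroup G) (φ : G ≃* G) :
    Nat.card (X.map φ.toMonoidHom) = Nat.card X :=
  Subgroup.card_map_of_injective φ.injective

lemma card_dvd_of_borel [Fintype F] (X : Subgroup SL(2, F)) (g : SL(2, F))
    (h : ∀ y ∈ X, (g * y * g⁻¹).1 1 0 = 0) :
    Nat.card X ∣ Fintype.card F * (Fintype.card F - 1) := by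
  have h1 := Subgroup.card_dvd_of_le (map_conj_le_Bo X g h)
  rw [card_Bo, card_map_equiv X (MulAut.conj g)] at h1
  exact h1

theorem card_Sk [Finite F] (k : Subfield F) :
    Nat.card (Sk k) = Nat.card k * (Nat.card k ^ 2 - 1) := by
  classical
  haveI : Fintype k := Fintype.ofFinite k
  have hι : Function.Injective k.subtype := Subtype.val_injective
  have hr := range_map k.subtype
  rw [Subfield.fieldRange_subtype] at hr
  rw [← hr]
  have hinj : Function.Injective (Matrix.SpecialLinearGroup.map (n := Fin 2) k.subtype) := by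
    intro A B hAB
    have h00 := congrArg (fun g : SL(2, F) => g.1 0 0) hAB
    have h01 := congrArg (fun g : SL(2, F) => g.1 0 1) hAB
    have h10 := congrArg (fun g : SL(2, F) => g.1 1 0) hAB
    have h11 := congrArg (fun g : SL(2, F) => g.1 1 1) hAB
    simp only [map_entry] at h00 h01 h10 h11
    exact sl2_ext A B (hι h00) (hι h01) (hι h10) (hι h11)
  rw [Nat.card_congr (MonoidHom.ofInjective hinj).symm.toEquiv]
  exact Cfsg.Agent.Lib.Helper5.SL2Card.card_SL_two (by rw [Nat.card_eq_fintype_card])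

/-- two elements of a finite field extension with squares but not themselves in `k` have their
product in `k` -/
lemma mul_mem_of_sq [Finite F] (h2 : (2 : F) ≠ 0) (k : Subfield F) (x y : F) (hx : x ^ 2 ∈ k)
    (hy : y ^ 2 ∈ k) (hxk : x ∉ k) (hyk : y ∉ k) : x * y ∈ k := by
  classical
  haveI : Fintype k := Fintype.ofFinite k
  have hx0 : x ≠ 0 := fun h => hxk (h ▸ k.zero_mem)
  have hy0 : y ≠ 0 := fun h => hyk (h ▸ k.zero_mem)
  have hch : ringChar k ≠ 2 := by
    intro h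
    have h' : ((ringChar k : ℕ) : k) = 0 := ringChar.Nat.cast_ringChar
    rw [h] at h'
    have h'' : (2 : k) = 0 := by
      have e : ((2 : ℕ) : k) = (2 : k) := by norm_num
      rw [← e, h']
    have h3 := congrArg k.subtype h''
    rw [map_ofNat, map_zero] at h3
    exact h2 h3
  have nsq : ∀ z : F, ∀ hz : z ^ 2 ∈ k, z ∉ k → ¬ IsSquare (⟨z ^ 2, hz⟩ : k) := by
    rintro z hz hzk ⟨e, he⟩
    have he' : z ^ 2 = (e : F) * e := congrArg Subtype.val he
    have : (z - e) * (z + e) = 0 := by linear_combination he'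
    rcases mul_eq_zero.1 this with h | h
    · exact hzk (by rw [sub_eq_zero.1 h]; exact e.2)
    · exact hzk (by rw [eq_neg_of_add_eq_zero_left h]; exact k.neg_mem e.2)
  have ne0 : ∀ z : F, ∀ hz : z ^ 2 ∈ k, z ≠ 0 → (⟨z ^ 2, hz⟩ : k) ≠ 0 := by
    intro z hz hz0 h
    have := congrArg Subtype.val h
    exact pow_ne_zero 2 hz0 this
  have pm : ∀ z : F, ∀ hz : z ^ 2 ∈ k, z ∉ k → z ≠ 0 →
      (⟨z ^ 2, hz⟩ : k) ^ (Fintype.card k / 2) = -1 := by
    intro z hz hzk hz0
    rcases FiniteField.pow_dichotomy hch (ne0 z hz hz0) with h | h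
    · exact absurd ((FiniteField.isSquare_iff hch (ne0 z hz hz0)).2 h) (nsq z hz hzk)
    · exact h
  have hsq : IsSquare ((⟨x ^ 2, hx⟩ : k) * ⟨y ^ 2, hy⟩) := by
    rw [FiniteField.isSquare_iff hch (mul_ne_zero (ne0 x hx hx0) (ne0 y hy hy0)), mul_pow,
      pm x hx hxk hx0, pm y hy hyk hy0]
    simp
  obtain ⟨e, he⟩ := hsq
  have he' : x ^ 2 * y ^ 2 = (e : F) * e := congrArg Subtype.val he
  have : (x * y - e) * (x * y + e) = 0 := by linear_combination he'
  rcases mul_eq_zero.1 this with h | h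
  · rw [sub_eq_zero.1 h]; exact e.2
  · rw [eq_neg_of_add_eq_zero_left h]; exact k.neg_mem e.2

lemma mul_mem_Sk_of_not_mem [Finite F] (h2 : (2 : F) ≠ 0) (k : Subfield F) (g₀ g : SL(2, F))
    (hg₀ : g₀ ∈ Pk k) (hg : g ∈ Pk k) (hn₀ : g₀ ∉ Sk k) (hn : g ∉ Sk k) : g₀ * g ∈ Sk k := by
  obtain ⟨c₀, hc₀, a00, a01, a10, a11⟩ := hg₀
  obtain ⟨c, hc, b00, b01, b10, b11⟩ := hg
  have hc₀2 : c₀ ^ 2 ∈ k := by
    have : c₀ ^ 2 = (c₀ * g₀.1 0 0) * (c₀ * g₀.1 1 1) - (c₀ * g₀.1 0 1) * (c₀ * g₀.1 1 0) := by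
      linear_combination (-c₀ ^ 2) * det_eq g₀
    rw [this]; exact k.sub_mem (k.mul_mem a00 a11) (k.mul_mem a01 a10)
  have hc2 : c ^ 2 ∈ k := by
    have : c ^ 2 = (c * g.1 0 0) * (c * g.1 1 1) - (c * g.1 0 1) * (c * g.1 1 0) := by
      linear_combination (-c ^ 2) * det_eq g
    rw [this]; exact k.sub_mem (k.mul_mem b00 b11) (k.mul_mem b01 b10)
  have hc₀k : c₀ ∉ k := by
    intro h
    have aux : ∀ x : F, c₀ * x ∈ k → x ∈ k := by
      intro x hx
      have := k.mul_mem (k.inv_mem h) hx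
      rwa [inv_mul_cancel_left₀ hc₀] at this
    exact hn₀ ⟨aux _ a00, aux _ a01, aux _ a10, aux _ a11⟩
  have hck : c ∉ k := by
    intro h
    have aux : ∀ x : F, c * x ∈ k → x ∈ k := by
      intro x hx
      have := k.mul_mem (k.inv_mem h) hx
      rwa [inv_mul_cancel_left₀ hc] at this
    exact hn ⟨aux _ b00, aux _ b01, aux _ b10, aux _ b11⟩
  have hcc : c₀ * c ∈ k := mul_mem_of_sq h2 k c₀ c hc₀2 hc2 hc₀k hck
  have hcc0 : c₀ * c ≠ 0 := mul_ne_zero hc₀ hc
  refine ⟨?_, ?_, ?_, ?_⟩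
  · rw [mul00]
    have : g₀.1 0 0 * g.1 0 0 + g₀.1 0 1 * g.1 1 0 =
        ((c₀ * g₀.1 0 0) * (c * g.1 0 0) + (c₀ * g₀.1 0 1) * (c * g.1 1 0)) / (c₀ * c) := by
      field_simp
    rw [this]; exact k.div_mem (k.add_mem (k.mul_mem a00 b00) (k.mul_mem a01 b10)) hcc
  · rw [mul01]
    have : g₀.1 0 0 * g.1 0 1 + g₀.1 0 1 * g.1 1 1 =
        ((c₀ * g₀.1 0 0) * (c * g.1 0 1) + (c₀ * g₀.1 0 1) * (c * g.1 1 1)) / (c₀ * c) := by
      field_simp
    rw [this]; exact k.div_mem (k.add_mem (k.mul_mem a00 b01) (k.mul_mem a01 b11)) hcc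
  · rw [mul10]
    have : g₀.1 1 0 * g.1 0 0 + g₀.1 1 1 * g.1 1 0 =
        ((c₀ * g₀.1 1 0) * (c * g.1 0 0) + (c₀ * g₀.1 1 1) * (c * g.1 1 0)) / (c₀ * c) := by
      field_simp
    rw [this]; exact k.div_mem (k.add_mem (k.mul_mem a10 b00) (k.mul_mem a11 b10)) hcc
  · rw [mul11]
    have : g₀.1 1 0 * g.1 0 1 + g₀.1 1 1 * g.1 1 1 =
        ((c₀ * g₀.1 1 0) * (c * g.1 0 1) + (c₀ * g₀.1 1 1) * (c * g.1 1 1)) / (c₀ * c) := by
      field_simp
    rw [this]; exact k.div_mem (k.add_mem (k.mul_mem a10 b01) (k.mul_mem a11 b11)) hcc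

theorem card_Pk_le [Finite F] (h2 : (2 : F) ≠ 0) (k : Subfield F) :
    Nat.card (Pk k) ≤ 2 * Nat.card (Sk k) := by
  haveI : Finite SL(2, F) := Cfsg.Agent.Lib.Helper98.PSL2Max.finite_SL
  by_cases hex : ∃ g₀ ∈ Pk k, g₀ ∉ Sk k
  · obtain ⟨g₀, hg₀, hn₀⟩ := hex
    have hsub : ((Pk k : Subgroup SL(2, F)) : Set SL(2, F)) ⊆
        ((Sk k : Subgroup SL(2, F)) : Set SL(2, F)) ∪
          (fun s => g₀⁻¹ * s) '' ((Sk k : Subgroup SL(2, F)) : Set SL(2, F)) := by
      intro g hg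
      by_cases hgS : g ∈ Sk k
      · exact Or.inl hgS
      · right
        exact ⟨g₀ * g, mul_mem_Sk_of_not_mem h2 k g₀ g hg₀ hg hn₀ hgS, by group⟩
    have h1 : Nat.card (Pk k) = ((Pk k : Subgroup SL(2, F)) : Set SL(2, F)).ncard :=
      (Nat.card_coe_set_eq _)
    have h2' : Nat.card (Sk k) = ((Sk k : Subgroup SL(2, F)) : Set SL(2, F)).ncard :=
      (Nat.card_coe_set_eq _)
    have h3 := Set.ncard_le_ncard hsub (Set.toFinite _)
    have h4 := Set.ncard_union_le ((Sk k : Subgroup SL(2, F)) : Set SL(2, F))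
      ((fun s => g₀⁻¹ * s) '' ((Sk k : Subgroup SL(2, F)) : Set SL(2, F)))
    have h5 := Set.ncard_image_le (f := fun s => g₀⁻¹ * s)
      (Set.toFinite ((Sk k : Subgroup SL(2, F)) : Set SL(2, F)))
    omega
  · push Not at hex
    have hle : Pk k ≤ Sk k := hex
    have := Subgroup.card_le_of_le hle
    omega

lemma card_sq_le [Finite F] (k : Subfield F) (x : F) (hx : x ∉ k) :
    Nat.card k ^ 2 ≤ Nat.card F := by
  have hinj : Function.Injective (fun ab : k × k => (ab.1 : F) + ab.2 * x) := by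
    rintro ⟨a, b⟩ ⟨a', b'⟩ h
    have h' : (a : F) + b * x = a' + b' * x := h
    by_cases hb : b = b'
    · subst hb
      have : (a : F) = a' := by linear_combination h'
      rw [Subtype.ext this]
    · exfalso
      apply hx
      have hne : (b : F) - b' ≠ 0 := sub_ne_zero.2 (fun h'' => hb (Subtype.ext h''))
      have : x = ((a' : F) - a) / ((b : F) - b') := by
        rw [eq_div_iff hne]; linear_combination h'
      rw [this]; exact k.div_mem (k.sub_mem a'.2 a.2) (k.sub_mem b.2 b'.2)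
  have := Nat.card_le_card_of_injective _ hinj
  rwa [Nat.card_prod, ← sq] at this

lemma exists_pow [Finite F] (k : Subfield F) : ∃ m : ℕ, Nat.card F = Nat.card k ^ m := by
  classical
  haveI := Fintype.ofFinite F
  haveI := Fintype.ofFinite k
  refine ⟨Module.finrank k F, ?_⟩
  rw [Nat.card_eq_fintype_card, Nat.card_eq_fintype_card]
  exact Module.card_eq_pow_finrank

lemma Sk_top : Sk (⊤ : Subfield F) = ⊤ := by
  rw [eq_top_iff]
  intro g _
  exact ⟨Subfield.mem_top _, Subfield.mem_top _, Subfield.mem_top _, Subfield.mem_top _⟩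

lemma eq_top_of_map_eq_top {G : Type*} [Group G] (X : Subgroup G) (φ : G ≃* G)
    (h : X.map φ.toMonoidHom = ⊤) : X = ⊤ := by
  rw [eq_top_iff]
  intro x _
  have : φ x ∈ X.map φ.toMonoidHom := by rw [h]; trivial
  obtain ⟨y, hy, hyx⟩ := this
  have : y = x := φ.injective hyx
  rw [← this]; exact hy

/-- **The proper subgroups of `SL(2, F)` containing `-1`**, odd characteristic. -/
theorem proper_cases [Fintype F] (p : ℕ) [Fact p.Prime] [CharP F p] (h2 : (2 : F) ≠ 0)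
    (X : Subgroup SL(2, F)) (hneg : negOne ∈ X) (hX : X ≠ ⊤) :
    (∃ g : SL(2, F), ∀ y ∈ X, (g * y * g⁻¹).1 1 0 = 0) ∨
    (¬ p ∣ Nat.card X ∧ ∀ x ∈ X, ∀ y ∈ X, x ^ 2 * y ^ 2 = y ^ 2 * x ^ 2) ∨
    (¬ p ∣ Nat.card X ∧ (Nat.card X = 24 ∨ Nat.card X = 48 ∨ Nat.card X = 120)) ∨
    (∃ (φ : SL(2, F) ≃* SL(2, F)) (k : Subfield F), (∃ x, x ∉ k) ∧
      Sk k ≤ X.map φ.toMonoidHom ∧ X.map φ.toMonoidHom ≤ Pk k) ∨
    ((3 : F) = 0 ∧ ∃ (φ : SL(2, F) ≃* SL(2, F)) (i : F) (hi : i ^ 2 = -1),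
      X.map φ.toMonoidHom ≤ Sk (k9 i hi) ∧ X.map φ.toMonoidHom ≠ Sk (k9 i hi)) := by
  haveI : Finite SL(2, F) := Cfsg.Agent.Lib.Helper98.PSL2Max.finite_SL
  by_cases hp : p ∣ Nat.card X
  · rcases main p h2 X hp with h | ⟨φ, k, h1, h2'⟩ | h
    · exact Or.inl h
    · right; right; right; left
      refine ⟨φ, k, ?_, h1, h2'⟩
      by_contra hcon
      push Not at hcon
      apply hX
      apply eq_top_of_map_eq_top X φ
      rw [eq_top_iff]
      refine le_trans ?_ h1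
      intro g _
      exact ⟨hcon _, hcon _, hcon _, hcon _⟩
    · exact Or.inr (Or.inr (Or.inr (Or.inr h)))
  · rcases core p h2 X hneg hp with h | h
    · exact Or.inr (Or.inl ⟨hp, h⟩)
    · exact Or.inr (Or.inr (Or.inl ⟨hp, h⟩))

/-- a proper subgroup containing `-1` has order at most `q (q - 1)`, for odd `q ≥ 13` -/
theorem card_le_of_ne_top [Fintype F] (p : ℕ) [Fact p.Prime] [CharP F p] (h2 : (2 : F) ≠ 0)
    (hq : 13 ≤ Fintype.card F) (X : Subgroup SL(2, F)) (hneg : negOne ∈ X) (hX : X ≠ ⊤) :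
    Nat.card X ≤ Fintype.card F * (Fintype.card F - 1) := by
  haveI : Finite SL(2, F) := Cfsg.Agent.Lib.Helper98.PSL2Max.finite_SL
  obtain ⟨q, hqd⟩ : ∃ q, q = Fintype.card F := ⟨_, rfl⟩
  rw [← hqd] at hq ⊢
  have hpos : 0 < q * (q - 1) := Nat.mul_pos (by omega) (by omega)
  have hbig : 2 * (q + 1) ≤ q * (q - 1) := by
    obtain ⟨m, rfl⟩ : ∃ m, q = m + 13 := ⟨q - 13, by omega⟩
    have : m + 13 - 1 = m + 12 := by omega
    rw [this]; nlinarith
  have h156 : 156 ≤ q * (q - 1) := by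
    calc 156 = 13 * 12 := by norm_num
      _ ≤ q * (q - 1) := Nat.mul_le_mul hq (by omega)
  rcases proper_cases p h2 X hneg hX with ⟨g, hg⟩ | ⟨hp, hsq⟩ | ⟨hp, h⟩ |
    ⟨φ, k, ⟨x, hx⟩, h1, h2'⟩ | ⟨h3, φ, i, hi, hle, hne⟩
  · have := card_dvd_of_borel X g hg
    rw [← hqd] at this
    exact Nat.le_of_dvd hpos this
  · rcases card_dvd_of_sq_comm p h2 X hneg hp hsq with h | h
    · have := Nat.le_of_dvd (by omega) h
      rw [← hqd] at this
      omega
    · have := Nat.le_of_dvd (by omega) h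
      rw [← hqd] at this
      omega
  · rcases h with h | h | h <;> omega
  · have hc : Nat.card X ≤ 2 * Nat.card (Sk k) := by
      rw [← card_map_equiv X φ]
      exact (Subgroup.card_le_of_le h2').trans (card_Pk_le h2 k)
    rw [card_Sk] at hc
    have hsq := card_sq_le k x hx
    rw [Nat.card_eq_fintype_card (α := F), ← hqd] at hsq
    have hk2 : 2 ≤ Nat.card k := card_subfield_two_le k
    obtain ⟨q₀, hq₀⟩ : ∃ q₀, q₀ = Nat.card k := ⟨_, rfl⟩
    rw [← hq₀] at hc hsq hk2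
    calc Nat.card X ≤ 2 * (q₀ * (q₀ ^ 2 - 1)) := hc
      _ = (2 * q₀) * (q₀ ^ 2 - 1) := by ring
      _ ≤ q₀ ^ 2 * (q₀ ^ 2 - 1) := Nat.mul_le_mul_right _ (by nlinarith)
      _ ≤ q * (q - 1) := Nat.mul_le_mul hsq (by omega)
  · have h9 := card_k9 h2 h3 i hi
    have hSk : Nat.card (Sk (k9 i hi)) = 720 := by rw [card_Sk, h9]; norm_num
    have hlt : Nat.card (X.map φ.toMonoidHom) ≤ 360 := by
      have hd := Subgroup.card_dvd_of_le hle
      rw [hSk] at hd
      have hne' : Nat.card (X.map φ.toMonoidHom) ≠ 720 := by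
        intro h
        apply hne
        exact Subgroup.eq_of_le_of_card_ge hle (by rw [hSk, h])
      obtain ⟨m, hm⟩ := hd
      rcases Nat.lt_or_ge m 2 with hm2 | hm2
      · interval_cases m <;> omega
      · nlinarith
    rw [card_map_equiv] at hlt
    have hx : ∃ x, x ∉ k9 i hi := by
      by_contra hcon
      push Not at hcon
      have : Nat.card (k9 i hi) = Nat.card F := Nat.card_congr (Equiv.subtypeUnivEquiv hcon)
      rw [h9, Nat.card_eq_fintype_card, ← hqd] at this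
      omega
    obtain ⟨x, hx⟩ := hx
    have hsq := card_sq_le _ x hx
    rw [h9, Nat.card_eq_fintype_card, ← hqd] at hsq
    have : 81 * 80 ≤ q * (q - 1) := Nat.mul_le_mul (by omega) (by omega)
    omega

end Cfsg.Agent.Lib.Helper98.DicksonB
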