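import Mathlib
import Cfsg.Agent.Lib.Helper98.DicksonB
import Cfsg.Agent.S0144
import Cfsg.Agent.S0804
import Cfsg.Agent.S0805

set_option autoImplicit false

/-!
# `PSL(2, q)`, `q` odd, is minimal simple iff `q = 3 ^ r` (`r` an odd prime), `q` a prime
congruent to `±2` modulo `5`, or `q = 5`

`odd_S0810`: the statement S0810 with the additional hypothesis that `q` is odd.
-/

namespace Cfsg.Agent.Lib.Helper98.DOdd10

open Matrix MatrixGroups
open Cfsg.Agent.Lib.Helper98.SL2Sub Cfsg.Agent.Lib.Helper98.SL2Gen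
open Cfsg.Agent.Lib.Helper98.SL2Field Cfsg.Agent.Lib.Helper98.SL2Quad
open Cfsg.Agent.Lib.Helper98.SL2Core Cfsg.Agent.Lib.Helper98.DicksonOdd
open Cfsg.Agent.Lib.Helper98.SL2Tor Cfsg.Agent.Lib.Helper98.DicksonB
open Cfsg.Agent.Lib.Helper98.PSL2Max
open Cfsg.Agent.Lib.Helper53.SL2Inv Cfsg.Agent.Lib.Helper53.SL2Unip
open Cfsg.Agent.S5941 (Pk Sk_le_Pk)

variable {F : Type*} [Field F]

lemma upper_unit (c : SL(2, F)) (h10 : c.1 1 0 = 0) (h00 : c.1 0 0 = 1) : c = u (c.1 0 1) := by
  have hd := det_eq c
  rw [h10, h00, mul_zero, sub_zero, one_mul] at hd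
  apply sl2_ext
  · rw [h00, u00]
  · rw [u01]
  · rw [h10, u10]
  · rw [hd, u11]

/-- the upper left entry, on the upper triangular group -/
def diagHom (F : Type*) [Field F] : Bo F →* Fˣ where
  toFun g := Units.mk0 (g.1.1 0 0) (by
    intro h0
    have hd := det_eq g.1
    have hc : g.1.1 1 0 = 0 := g.2
    rw [h0, hc] at hd
    simp at hd)
  map_one' := by
    apply Units.ext
    show (1 : SL(2, F)).1 0 0 = 1
    exact one00
  map_mul' a b := by
    apply Units.ext
    show (a.1 * b.1).1 0 0 = a.1.1 0 0 * b.1.1 0 0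
    have hb : b.1.1 1 0 = 0 := b.2
    rw [mul00, hb, mul_zero, add_zero]

theorem isSolvable_Bo : Group.IsSolvable (Bo F) := by
  haveI : Group.IsSolvable (diagHom F).ker := by
    apply Group.isSolvable_of_comm
    rintro ⟨x, hx⟩ ⟨y, hy⟩
    have hx0 : x.1.1 0 0 = 1 := congrArg Units.val (MonoidHom.mem_ker.1 hx)
    have hy0 : y.1.1 0 0 = 1 := congrArg Units.val (MonoidHom.mem_ker.1 hy)
    obtain ⟨bx, hbx⟩ : ∃ b, x.1 = u b := ⟨_, upper_unit x.1 x.2 hx0⟩
    obtain ⟨by', hby⟩ : ∃ b, y.1 = u b := ⟨_, upper_unit y.1 y.2 hy0⟩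
    apply Subtype.ext
    apply Subtype.ext
    show x.1 * y.1 = y.1 * x.1
    rw [hbx, hby, u_mul, u_mul, add_comm]
  exact Group.isSolvable_of_ker_le_range (diagHom F).ker.subtype (diagHom F)
    (by rw [Subgroup.range_subtype])

lemma isSolvable_of_map_le {G : Type*} [Group G] (X N : Subgroup G) (φ : G ≃* G)
    (h : X.map φ.toMonoidHom ≤ N) (hN : Group.IsSolvable N) : Group.IsSolvable X := by
  let f : X →* N :=
    { toFun := fun x => ⟨φ x.1, h ⟨x.1, x.2, rfl⟩⟩
      map_one' := Subtype.ext (map_one φ)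
      map_mul' := fun a b => Subtype.ext (map_mul φ a.1 b.1) }
  have hf : Function.Injective f := by
    intro a b hab
    have : φ a.1 = φ b.1 := congrArg Subtype.val hab
    exact Subtype.ext (φ.injective this)
  exact Group.isSolvable_of_isSolvable_injective hf

lemma isSolvable_of_card_24_48 {G : Type*} [Group G] [Finite G]
    (h : Nat.card G = 24 ∨ Nat.card G = 48) : Group.IsSolvable G := by
  rcases h with h | h
  · exact Cfsg.Agent.S0144.result 2 3 3 1 Nat.prime_two Nat.prime_three (by rw [h]; norm_num)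
  · exact Cfsg.Agent.S0144.result 2 3 4 1 Nat.prime_two Nat.prime_three (by rw [h]; norm_num)

/-- solvability of the proper subgroups under arithmetic conditions on the field -/
theorem solvable_proper [Fintype F] (p : ℕ) [Fact p.Prime] [CharP F p] (h2 : (2 : F) ≠ 0)
    (h120 : 120 ∣ Fintype.card F * (Fintype.card F ^ 2 - 1) → Fintype.card F = 5)
    (hsub : ∀ k : Subfield F, (∃ x, x ∉ k) → Nat.card k = 3)
    (h9 : ∀ k : Subfield F, Nat.card k ≠ 9)
    (X : Subgroup SL(2, F)) (hneg : negOne ∈ X) (hX : X ≠ ⊤) : Group.IsSolvable X := by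
  haveI : Finite SL(2, F) := finite_SL
  rcases proper_cases p h2 X hneg hX with ⟨g, hg⟩ | ⟨hp, hsq⟩ | ⟨hp, h⟩ |
    ⟨φ, k, hx, h1, h2'⟩ | ⟨h3, φ, i, hi, hle, hne⟩
  · exact isSolvable_of_map_le X (Bo F) (MulAut.conj g) (map_conj_le_Bo X g hg) isSolvable_Bo
  · rcases sq_comm_le_norInv p h2 X hp hsq with h | ⟨a, -, -, ha1, ha2, hle⟩
    · apply Group.isSolvable_of_comm
      rintro ⟨x, hx⟩ ⟨y, hy⟩
      apply Subtype.ext
      show x * y = y * x
      rcases h hx with rfl | rfl
      · simp
      · exact negOne_comm y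
    · haveI := isSolvable_norInv a (abelian_centralizer a ha1 ha2)
      exact Group.isSolvable_of_isSolvable_injective (Subgroup.inclusion_injective hle)
  · rcases h with h | h | h
    · exact isSolvable_of_card_24_48 (Or.inl h)
    · exact isSolvable_of_card_24_48 (Or.inr h)
    · exfalso
      have hd := Subgroup.card_subgroup_dvd_card X
      rw [h, Cfsg.Agent.Lib.Helper5.SL2Card.card_SL_two (F := F) rfl] at hd
      have h5 := h120 hd
      apply hX
      apply Subgroup.eq_top_of_card_eq
      rw [h, Cfsg.Agent.Lib.Helper5.SL2Card.card_SL_two (F := F) rfl, h5]; norm_num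
  · have hk3 := hsub k hx
    have hSk : Nat.card (Sk k) = 24 := by rw [card_Sk, hk3]; norm_num
    have hd : 24 ∣ Nat.card X := by
      rw [← card_map_equiv X φ, ← hSk]
      exact Subgroup.card_dvd_of_le h1
    have hle : Nat.card X ≤ 48 := by
      rw [← card_map_equiv X φ]
      have := (Subgroup.card_le_of_le h2').trans (card_Pk_le h2 k)
      rw [hSk] at this
      exact this
    have hpos : 0 < Nat.card X := Nat.card_pos
    apply isSolvable_of_card_24_48
    obtain ⟨m, hm⟩ := hd
    have hm12 : m = 1 ∨ m = 2 := by omega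
    rcases hm12 with rfl | rfl
    · left; omega
    · right; omega
  · exact absurd (card_k9 h2 h3 i hi) (h9 _)

lemma isSolvable_of_comap (H : Subgroup (Matrix.ProjectiveSpecialLinearGroup (Fin 2) F))
    (h : Group.IsSolvable (H.comap (proj (F := F)))) : Group.IsSolvable H :=
  Group.isSolvable_of_surjective
    (MonoidHom.subgroupComap_surjective_of_surjective (proj (F := F)) H proj_surj)

lemma comap_ne_top (H : Subgroup (Matrix.ProjectiveSpecialLinearGroup (Fin 2) F)) (hH : H ≠ ⊤) :
    H.comap (proj (F := F)) ≠ ⊤ := by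
  intro htop
  apply hH
  rw [← Subgroup.map_comap_eq_self_of_surjective (proj_surj (F := F)) H, htop,
    ← MonoidHom.range_eq_map, MonoidHom.range_eq_top.2 proj_surj]

lemma not_comm (h2 : (2 : F) ≠ 0) :
    ¬ IsMulCommutative (Matrix.ProjectiveSpecialLinearGroup (Fin 2) F) := by
  intro hc
  have h := (isMulCommutative_iff.1 hc) (proj (u (1 : F))) (proj (l (1 : F)))
  rw [← map_mul, ← map_mul] at h
  have h' : (u (1 : F) * l 1)⁻¹ * (l 1 * u 1) ∈ Subgroup.center SL(2, F) := QuotientGroup.eq.1 h
  rw [center_eq] at h'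
  obtain ⟨n00, n01, n10, n11⟩ := negOne_entries (F := F)
  rcases h' with h' | h'
  · have e : u (1 : F) * l 1 = l 1 * u 1 := inv_mul_eq_one.1 h'
    have := congrArg (fun z : SL(2, F) => z.1 0 0) e
    simp only [mul00, u00, u01, l00, l10, l01, u10] at this
    exact one_ne_zero (α := F) (by linear_combination this)
  · have e : l (1 : F) * u 1 = u 1 * l 1 * negOne := inv_mul_eq_iff_eq_mul.1 h'
    have := congrArg (fun z : SL(2, F) => z.1 0 1) e
    simp only [mul00, mul01, u00, u01, l00, l01, l10, l11, u11] at this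
    have e01 : (negOne : SL(2, F)).1 0 1 = 0 := n01
    have e11 : (negOne : SL(2, F)).1 1 1 = -1 := n11
    rw [e01, e11] at this
    exact h2 (by linear_combination this)

/-- minimal simplicity from the arithmetic conditions -/
theorem minimal_of_conds [Fintype F] (p : ℕ) [Fact p.Prime] [CharP F p] (h2 : (2 : F) ≠ 0)
    (hq4 : 4 ≤ Fintype.card F)
    (h120 : 120 ∣ Fintype.card F * (Fintype.card F ^ 2 - 1) → Fintype.card F = 5)
    (hsub : ∀ k : Subfield F, (∃ x, x ∉ k) → Nat.card k = 3)
    (h9 : ∀ k : Subfield F, Nat.card k ≠ 9) :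
    Cfsg.IsMinimalSimple (Matrix.ProjectiveSpecialLinearGroup (Fin 2) F) := by
  refine ⟨Matrix.ProjectiveSpecialLinearGroup.rank_two_simple
    (by rw [Nat.card_eq_fintype_card]; exact hq4), not_comm h2, ?_⟩
  intro H hH
  apply isSolvable_of_comap
  exact solvable_proper p h2 h120 hsub h9 _ (negOne_mem_comap H) (comap_ne_top H hH)

lemma not_solvable_A5 : ¬ Group.IsSolvable (alternatingGroup (Fin 5)) := by
  intro h
  haveI := h
  apply Equiv.Perm.not_isSolvable_fin_5
  exact Group.isSolvable_of_ker_le_range (alternatingGroup (Fin 5)).subtype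
    (Equiv.Perm.sign (α := Fin 5)) (by rw [Subgroup.range_subtype]; exact le_rfl)

lemma not_solvable_psl {K : Type*} [Field K] [Fintype K] (h2 : (2 : K) ≠ 0)
    (h4 : 4 ≤ Fintype.card K) :
    ¬ Group.IsSolvable (Matrix.ProjectiveSpecialLinearGroup (Fin 2) K) := by
  intro h
  haveI := Matrix.ProjectiveSpecialLinearGroup.rank_two_simple (F := K)
    (by rw [Nat.card_eq_fintype_card]; exact h4)
  exact not_comm h2 (isMulCommutative_iff.2 (IsSimpleGroup.comm_iff_isSolvable.2 h))

lemma two_ne_zero_of_odd {K : Type*} [Field K] [Fintype K] (hodd : Odd (Fintype.card K)) :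
    (2 : K) ≠ 0 := by
  intro h2
  have hch : ringChar K = 2 :=
    CharP.ringChar_of_prime_eq_zero Nat.prime_two (by exact_mod_cast h2)
  have heven : Fintype.card K % 2 = 0 := FiniteField.even_card_iff_char_two.1 hch
  rw [Nat.odd_iff] at hodd
  omega

lemma five_dvd_of_mod (q : ℕ) (h : q % 5 = 1 ∨ q % 5 = 4) : 5 ∣ q * (q ^ 2 - 1) := by
  have h1 : q ^ 2 % 5 = 1 := by
    rw [Nat.pow_mod]
    rcases h with h | h <;> rw [h]
  exact Dvd.dvd.mul_left (by omega) q

lemma not_five_dvd_of_mod (q : ℕ) (h : q % 5 = 2 ∨ q % 5 = 3) : ¬ 5 ∣ q * (q ^ 2 - 1) := by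
  have h1 : q ^ 2 % 5 = 4 := by
    rw [Nat.pow_mod]
    rcases h with h | h <;> rw [h]
  intro hd
  rcases (Nat.Prime.dvd_mul Nat.prime_five).1 hd with h5 | h5
  · omega
  · omega

lemma pow3_odd_mod (j : ℕ) : 3 ^ (2 * j + 1) % 5 = 3 ∨ 3 ^ (2 * j + 1) % 5 = 2 := by
  induction j with
  | zero => left; norm_num
  | succ j ih =>
    have e : 3 ^ (2 * (j + 1) + 1) = 3 ^ (2 * j + 1) * 9 := by ring
    rw [e]
    rcases ih with h | h <;> omega

lemma pow3_even_mod (j : ℕ) : 3 ^ (2 * j) % 5 = 1 ∨ 3 ^ (2 * j) % 5 = 4 := by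
  induction j with
  | zero => left; norm_num
  | succ j ih =>
    have e : 3 ^ (2 * (j + 1)) = 3 ^ (2 * j) * 9 := by ring
    rw [e]
    rcases ih with h | h <;> omega

lemma card_A5 : Nat.card (alternatingGroup (Fin 5)) = 60 := by
  have h := two_mul_nat_card_alternatingGroup (α := Fin 5)
  rw [Nat.card_eq_fintype_card (α := Equiv.Perm (Fin 5)), Fintype.card_perm, Fintype.card_fin] at h
  have : Nat.factorial 5 = 120 := by decide
  omega

lemma card_psl_odd {K : Type*} [Field K] [Fintype K] {q : ℕ} (hK : Fintype.card K = q)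
    (hodd : Odd q) :
    2 * Nat.card (Matrix.ProjectiveSpecialLinearGroup (Fin 2) K) = q * (q ^ 2 - 1) := by
  have h := Cfsg.Agent.Lib.Helper5.SL2Card.card_PSL_two hK
  have hoddq : q % 2 = 1 := Nat.odd_iff.1 hodd
  have hg : Nat.gcd 2 (q - 1) = 2 := Nat.gcd_eq_left (by omega)
  rw [hg] at h
  omega

/-- a minimal simple `PSL(2, q)`, `q` odd, has `q` in the list -/
theorem list_of_minimal [Fintype F] {q : ℕ} (hF : Fintype.card F = q) (hodd : Odd q)
    (hms : Cfsg.IsMinimalSimple (Matrix.ProjectiveSpecialLinearGroup (Fin 2) F)) :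
    (∃ r : ℕ, r.Prime ∧ r ≠ 2 ∧ q = 3 ^ r) ∨ (q.Prime ∧ 5 < q ∧ (q % 5 = 2 ∨ q % 5 = 3)) ∨
      q = 5 := by
  classical
  obtain ⟨hsimple, hnc, hsol⟩ := hms
  haveI : Finite SL(2, F) := finite_SL
  have hq2 : 2 ≤ q := hF ▸ Fintype.one_lt_card
  have hoddq : q % 2 = 1 := Nat.odd_iff.1 hodd
  have hcard := card_psl_odd hF hodd
  have hA5 : 5 ∣ q * (q ^ 2 - 1) → q = 5 := by
    intro h5
    obtain ⟨H, ⟨e⟩⟩ := (Cfsg.Agent.S0804.result hF).2 h5
    by_contra hq5
    have hH : H ≠ ⊤ := by
      intro htop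
      have hc : Nat.card H = 60 := by rw [Nat.card_congr e.toEquiv, card_A5]
      rw [htop, Subgroup.card_top] at hc
      rw [hc] at hcard
      apply hq5
      have hle : q ≤ 5 := by
        by_contra hcon
        push Not at hcon
        have h6 : 6 * (6 ^ 2 - 1) ≤ q * (q ^ 2 - 1) :=
          Nat.mul_le_mul (by omega) (Nat.sub_le_sub_right (Nat.pow_le_pow_left (by omega) 2) 1)
        norm_num at h6
        omega
      interval_cases q <;> first | rfl | (exfalso; norm_num at hcard)
    haveI := hsol H hH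
    exact not_solvable_A5 (Group.isSolvable_of_surjective (f := e.toMonoidHom) e.surjective)
  have hK : ∀ (K : Type) [Field K] [Fintype K] (m : ℕ), 1 ≤ m → Fintype.card K ^ m = q →
      4 ≤ Fintype.card K → Fintype.card K < q → False := by
    intro K _ _ m hm hKq h4 hlt
    obtain ⟨⟨H, ⟨e⟩⟩, -⟩ := Cfsg.Agent.S0805.result hF hodd m hm hKq
    have hoddK : Odd (Fintype.card K) := by
      have hodd' := hodd
      rw [← hKq] at hodd'
      exact (Nat.odd_pow_iff (by omega)).1 hodd'
    have h2K : (2 : K) ≠ 0 := two_ne_zero_of_odd hoddK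
    have hcK := card_psl_odd (K := K) rfl hoddK
    have hH : H ≠ ⊤ := by
      intro htop
      have hc : Nat.card H =
          Nat.card (Matrix.ProjectiveSpecialLinearGroup (Fin 2) K) := Nat.card_congr e.toEquiv
      rw [htop, Subgroup.card_top] at hc
      have h16 : 4 ^ 2 ≤ Fintype.card K ^ 2 := Nat.pow_le_pow_left h4 2
      have hlt' : Fintype.card K * (Fintype.card K ^ 2 - 1) < q * (q ^ 2 - 1) :=
        calc Fintype.card K * (Fintype.card K ^ 2 - 1) < q * (Fintype.card K ^ 2 - 1) :=
              Nat.mul_lt_mul_of_pos_right hlt (by omega)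
          _ ≤ q * (q ^ 2 - 1) :=
              Nat.mul_le_mul_left _ (Nat.sub_le_sub_right (Nat.pow_le_pow_left hlt.le 2) 1)
      omega
    haveI := hsol H hH
    exact not_solvable_psl h2K h4
      (Group.isSolvable_of_surjective (f := e.toMonoidHom) e.surjective)
  obtain ⟨p, hpc⟩ := CharP.exists F
  haveI := hpc
  obtain ⟨n, hpp, hn⟩ := FiniteField.card F p
  haveI : Fact p.Prime := ⟨hpp⟩
  rw [hF] at hn
  obtain ⟨n', hn'⟩ : ∃ n' : ℕ, n' = (n : ℕ) := ⟨_, rfl⟩
  rw [← hn'] at hn
  have hn1 : 1 ≤ n' := hn' ▸ n.pos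
  have hp2 : p ≠ 2 := by
    rintro rfl
    have : 2 ∣ q := by rw [hn]; exact dvd_pow_self 2 (by omega)
    omega
  by_cases hp3 : p = 3
  · subst hp3
    rcases Nat.even_or_odd' n' with ⟨j, hj | hj⟩
    · exfalso
      have h5 : 5 ∣ q * (q ^ 2 - 1) :=
        five_dvd_of_mod q (by rw [hn, hj]; exact pow3_even_mod j)
      have hq5 := hA5 h5
      rw [hq5] at hn
      have : 3 ∣ 5 := by rw [hn]; exact dvd_pow_self 3 (by omega)
      omega
    · by_cases hj0 : j = 0
      · exfalso
        subst hj0
        have hq3 : q = 3 := by rw [hn, hj]; norm_num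
        have hc12 : Nat.card (Matrix.ProjectiveSpecialLinearGroup (Fin 2) F) = 12 := by
          have e24 : q * (q ^ 2 - 1) = 24 := by rw [hq3]; norm_num
          omega
        have hs : Group.IsSolvable (Matrix.ProjectiveSpecialLinearGroup (Fin 2) F) :=
          Cfsg.Agent.S0144.result 2 3 2 1 Nat.prime_two Nat.prime_three (by rw [hc12]; norm_num)
        exact hnc (isMulCommutative_iff.2 (IsSimpleGroup.comm_iff_isSolvable.2 hs))
      · by_cases hpr : n'.Prime
        · left
          exact ⟨n', hpr, by omega, hn⟩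
        · exfalso
          obtain ⟨d, hd, hd2, hdlt⟩ := Nat.exists_dvd_of_not_prime2 (by omega) hpr
          obtain ⟨e, he⟩ := hd
          haveI : Fintype (GaloisField 3 d) := Fintype.ofFinite _
          have hcK : Fintype.card (GaloisField 3 d) = 3 ^ d := by
            rw [← Nat.card_eq_fintype_card]
            exact GaloisField.card 3 d (by omega)
          apply hK (GaloisField 3 d) e
          · by_contra hcon
            have : e = 0 := by omega
            rw [this, mul_zero] at he
            omega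
          · rw [hcK, ← pow_mul, ← he, hn]
          · rw [hcK]
            calc 4 ≤ 3 ^ 2 := by norm_num
              _ ≤ 3 ^ d := Nat.pow_le_pow_right (by norm_num) hd2
          · rw [hcK, hn]
            exact Nat.pow_lt_pow_right (by norm_num) hdlt
  · have hp5 : 5 ≤ p := by
      have := hpp.two_le
      by_contra hcon
      push Not at hcon
      have h4 : p = 4 := by omega
      rw [h4] at hpp
      exact absurd hpp (by decide)
    by_cases hn2 : 2 ≤ n'
    · exfalso
      apply hK (ZMod p) n' hn1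
      · rw [ZMod.card, hn]
      · rw [ZMod.card]; omega
      · rw [ZMod.card, hn]
        calc p = p ^ 1 := (pow_one p).symm
          _ < p ^ n' := Nat.pow_lt_pow_right hpp.one_lt hn2
    · have hn1' : n' = 1 := by omega
      have hqp : q = p := by rw [hn, hn1', pow_one]
      have hqpr : q.Prime := hqp ▸ hpp
      by_cases hq5 : q = 5
      · right; right; exact hq5
      · right; left
        refine ⟨hqpr, by omega, ?_⟩
        by_contra hcon
        push Not at hcon
        have hmod : q % 5 = 1 ∨ q % 5 = 4 := by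
          have h0 : q % 5 ≠ 0 := by
            intro h0
            have := (Nat.prime_dvd_prime_iff_eq Nat.prime_five hqpr).1 (Nat.dvd_of_mod_eq_zero h0)
            omega
          omega
        exact hq5 (hA5 (five_dvd_of_mod q hmod))

/-- **S0810 for odd `q`.** -/
theorem odd_S0810 {F : Type*} [Field F] [Fintype F] {q : ℕ} (hF : Fintype.card F = q)
    (hodd : Odd q) :
    Cfsg.IsMinimalSimple (Matrix.ProjectiveSpecialLinearGroup (Fin 2) F) ↔
      ((∃ r : ℕ, r.Prime ∧ q = 2 ^ r) ∨ (∃ r : ℕ, r.Prime ∧ r ≠ 2 ∧ q = 3 ^ r) ∨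
        (q.Prime ∧ 5 < q ∧ (q % 5 = 2 ∨ q % 5 = 3)) ∨ q = 5) := by
  classical
  have hoddq : q % 2 = 1 := Nat.odd_iff.1 hodd
  constructor
  · intro hms
    exact Or.inr (list_of_minimal hF hodd hms)
  · intro h
    have h2 : (2 : F) ≠ 0 := two_ne_zero_of_odd (hF.symm ▸ hodd)
    obtain ⟨p, hpc⟩ := CharP.exists F
    haveI := hpc
    haveI : Fact p.Prime := ⟨CharP.char_is_prime F p⟩
    have hpow : ∀ k : Subfield F, ∃ m : ℕ, q = Nat.card k ^ m := by
      intro k
      obtain ⟨m, hm⟩ := exists_pow k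
      rw [Nat.card_eq_fintype_card (α := F), hF] at hm
      exact ⟨m, hm⟩
    have hsq : ∀ k : Subfield F, (∃ x, x ∉ k) → Nat.card k ^ 2 ≤ q := by
      rintro k ⟨x, hx⟩
      have := card_sq_le k x hx
      rwa [Nat.card_eq_fintype_card (α := F), hF] at this
    have hk2 : ∀ k : Subfield F, 2 ≤ Nat.card k := card_subfield_two_le
    have prime_case : q.Prime → 5 ≤ q → (120 ∣ q * (q ^ 2 - 1) → q = 5) →
        Cfsg.IsMinimalSimple (Matrix.ProjectiveSpecialLinearGroup (Fin 2) F) := by
      intro hqp hq5 h120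
      apply minimal_of_conds p h2 (by rw [hF]; omega) (by rw [hF]; exact h120)
      · intro k hx
        exfalso
        obtain ⟨m, hm⟩ := hpow k
        have hs := hsq k hx
        have h2k := hk2 k
        rcases Nat.eq_zero_or_pos m with rfl | hmpos
        · rw [pow_zero] at hm; omega
        · have hdvd : Nat.card k ∣ q := by
            rw [hm]; exact dvd_pow_self _ (by omega)
          rcases (Nat.dvd_prime hqp).1 hdvd with h1 | h1
          · omega
          · rw [h1] at hs
            nlinarith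
      · intro k hk9
        obtain ⟨m, hm⟩ := hpow k
        rw [hk9] at hm
        rcases Nat.eq_zero_or_pos m with rfl | hmpos
        · rw [pow_zero] at hm; omega
        · have hdvd : 9 ∣ q := by
            rw [hm]; exact dvd_pow_self _ (by omega)
          rcases (Nat.dvd_prime hqp).1 hdvd with h1 | h1
          · omega
          · rw [← h1] at hqp
            exact absurd hqp (by norm_num)
    rcases h with ⟨r, hr, hq⟩ | ⟨r, hr, hr2, hq⟩ | ⟨hqp, hq5, hmod⟩ | hq5
    · exfalso
      have : 2 ∣ q := by rw [hq]; exact dvd_pow_self 2 hr.pos.ne'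
      omega
    · have hrodd : r % 2 = 1 := by
        rcases hr.eq_two_or_odd with h | h
        · exact absurd h hr2
        · exact h
      obtain ⟨j, hj⟩ : ∃ j, r = 2 * j + 1 := ⟨r / 2, by omega⟩
      have hmod := pow3_odd_mod j
      rw [← hj, ← hq] at hmod
      have hq27 : 27 ≤ q := by
        have hr3 : 3 ≤ r := by
          have := hr.two_le
          omega
        calc 27 = 3 ^ 3 := by norm_num
          _ ≤ 3 ^ r := Nat.pow_le_pow_right (by norm_num) hr3
          _ = q := hq.symm
      apply minimal_of_conds p h2 (by rw [hF]; omega)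
      · rw [hF]
        intro h120
        exact absurd (Dvd.dvd.trans (by norm_num : 5 ∣ 120) h120)
          (not_five_dvd_of_mod q hmod.symm)
      · intro k hx
        obtain ⟨m, hm⟩ := hpow k
        have hs := hsq k hx
        have h2k := hk2 k
        rcases Nat.eq_zero_or_pos m with rfl | hmpos
        · rw [pow_zero] at hm; omega
        · have hdvd : Nat.card k ∣ 3 ^ r := by
            rw [← hq, hm]; exact dvd_pow_self _ (by omega)
          obtain ⟨j', hj'r, hj'⟩ := (Nat.dvd_prime_pow Nat.prime_three).1 hdvd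
          rw [hj', ← pow_mul, hq] at hm
          have hjm : r = j' * m := Nat.pow_right_injective (by norm_num : 2 ≤ 3) hm
          have hdj : j' ∣ r := ⟨m, hjm⟩
          rcases (Nat.dvd_prime hr).1 hdj with h1 | h1
          · rw [hj', h1]; norm_num
          · exfalso
            rw [hj', h1, ← hq] at hs
            nlinarith
      · intro k hk9
        obtain ⟨m, hm⟩ := hpow k
        rw [hk9, hq] at hm
        have e : (9 : ℕ) ^ m = 3 ^ (2 * m) := by rw [pow_mul]; norm_num
        rw [e] at hm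
        have : r = 2 * m := Nat.pow_right_injective (by norm_num : 2 ≤ 3) hm
        omega
    · exact prime_case hqp (by omega) (fun h120 =>
        absurd (Dvd.dvd.trans (by norm_num : 5 ∣ 120) h120) (not_five_dvd_of_mod q hmod))
    · exact prime_case (hq5 ▸ Nat.prime_five) (by omega) (fun _ => hq5)

end Cfsg.Agent.Lib.Helper98.DOdd10
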