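import Mathlib
import Cfsg.Prelude.Def_FusionSystem
import Cfsg.Agent.Lib.Helper85.PPStmt

set_option autoImplicit false

/-! Piece SB3 of S5113: the inverse of a Star map (from its image) is a Star map. -/

namespace Cfsg.Agent.Lib.Helper98.PPSB3

open Cfsg Cfsg.FusionSystem Cfsg.Agent.Lib.Helper85.PPStmt

universe u v

theorem star_injective {Ω : Type u} [Group Ω] {S : Subgroup Ω} (F : FusionSystem S) (p : ℕ)
    {P : Subgroup Ω} {φ : P →* Ω} (h : Star F p P φ) : Function.Injective φ := by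
  induction h with
  | @base R P hR β hβ hPR =>
    intro x y hxy
    have h1 : (β : MulAut R) (Subgroup.inclusion hPR x) = (β : MulAut R) (Subgroup.inclusion hPR y) :=
      Subtype.ext hxy
    exact Subgroup.inclusion_injective hPR ((β : MulAut R).injective h1)
  | @comp P Q φ ψ h h1 h2 ih1 ih2 =>
    intro x y hxy
    apply ih1
    have h3 : φ.codRestrict Q h x = φ.codRestrict Q h y := ih2 hxy
    exact congrArg Subtype.val h3

theorem star_inv_aux {Ω : Type u} [Group Ω] {S : Subgroup Ω} (F : FusionSystem S) (p : ℕ)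
    {P : Subgroup Ω} {φ : P →* Ω} (hst : Star F p P φ) :
    ∀ (P' : Subgroup Ω) (hP' : P' ≤ P) (Q : Subgroup Ω) (ψ : Q →* Ω)
      (h : ∀ x : P', φ (Subgroup.inclusion hP' x) ∈ Q),
      (∀ x : P', ψ ⟨φ (Subgroup.inclusion hP' x), h x⟩ = (x : Ω)) →
      (∀ y : Q, ∃ x : P', φ (Subgroup.inclusion hP' x) = (y : Ω)) → Star F p Q ψ := by
  induction hst with
  | @base R P hR β hβ hPR =>
    intro P' hP' Q ψ h hinv hsurj
    have hQR : Q ≤ R := by
      intro y hy
      obtain ⟨x, hx⟩ := hsurj ⟨y, hy⟩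
      have hx' : (((β : MulAut R) (Subgroup.inclusion hPR (Subgroup.inclusion hP' x)) : R) : Ω)
          = y := hx
      rw [← hx']
      exact ((β : MulAut R) _).2
    have hψ : ψ = (R.subtype.comp ((β⁻¹ : F.autGroup R) : MulAut R).toMonoidHom).comp
        (Subgroup.inclusion hQR) := by
      ext y
      obtain ⟨x, hx⟩ := hsurj y
      have hz : Subgroup.inclusion hQR y
          = (β : MulAut R) (Subgroup.inclusion hPR (Subgroup.inclusion hP' x)) :=
        Subtype.ext hx.symm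
      have hy : y = ⟨_, h x⟩ := Subtype.ext hx.symm
      calc ψ y = ψ ⟨_, h x⟩ := congrArg ψ hy
        _ = (x : Ω) := hinv x
        _ = _ := by
          show (x : Ω) = ((((β⁻¹ : F.autGroup R) : MulAut R) (Subgroup.inclusion hQR y) : R) : Ω)
          rw [hz, InvMemClass.coe_inv, MulAut.inv_apply_self]
          rfl
    rw [hψ]
    exact Star.base hR β⁻¹ (inv_mem hβ) hQR
  | @comp P Q₁ φ₁ φ₂ h₁ hst₁ hst₂ ih₁ ih₂ =>
    intro P' hP' Q ψ h hinv hsurj
    have hinj' : Function.Injective (φ₁.comp (Subgroup.inclusion hP')) :=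
      (star_injective F p hst₁).comp (Subgroup.inclusion_injective hP')
    obtain ⟨φ₁', hφ₁'⟩ : ∃ φ₁' : P' →* Ω, φ₁' = φ₁.comp (Subgroup.inclusion hP') := ⟨_, rfl⟩
    have happ : ∀ x : P', φ₁' x = φ₁ (Subgroup.inclusion hP' x) := by
      intro x; rw [hφ₁']; rfl
    have hinj : Function.Injective φ₁' := by rw [hφ₁']; exact hinj'
    obtain ⟨ψ₁, hψ₁⟩ : ∃ ψ₁ : φ₁'.range →* Ω, ∀ x : P', ψ₁ ⟨φ₁' x, x, rfl⟩ = (x : Ω) := by
      refine ⟨P'.subtype.comp (MonoidHom.ofInjective hinj).symm.toMonoidHom, fun x => ?_⟩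
      show (((MonoidHom.ofInjective hinj).symm ⟨φ₁' x, x, rfl⟩ : P') : Ω) = x
      congr 1
      exact (MulEquiv.symm_apply_eq _).mpr (Subtype.ext (MonoidHom.ofInjective_apply hinj).symm)
    have hQ₁' : φ₁'.range ≤ Q₁ := by
      rintro _ ⟨x, rfl⟩
      rw [happ]
      exact h₁ _
    have hstψ₁ : Star F p φ₁'.range ψ₁ := by
      refine ih₁ P' hP' φ₁'.range ψ₁ (fun x => ⟨x, happ x⟩) (fun x => ?_) (fun y => ?_)
      · rw [← hψ₁ x]
        exact congrArg ψ₁ (Subtype.ext (happ x).symm)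
      · obtain ⟨x, hx⟩ := y.2
        exact ⟨x, (happ x).symm.trans hx⟩
    have hψP' : ∀ y : Q, ψ y ∈ P' := by
      intro y
      obtain ⟨x, hx⟩ := hsurj y
      have hy : y = ⟨_, h x⟩ := Subtype.ext hx.symm
      rw [hy, hinv x]
      exact x.2
    have key : ∀ (z : φ₁'.range) (x : P'), φ₁' x = (z : Ω) →
        Subgroup.inclusion hQ₁' z = (φ₁.codRestrict Q₁ h₁) (Subgroup.inclusion hP' x) := by
      intro z x hx
      apply Subtype.ext
      show (z : Ω) = φ₁ (Subgroup.inclusion hP' x)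
      rw [← happ, hx]
    have h' : ∀ z : φ₁'.range, φ₂ (Subgroup.inclusion hQ₁' z) ∈ Q := by
      intro z
      obtain ⟨x, hx⟩ := z.2
      rw [key z x hx]
      exact h x
    have hstψ₂ : Star F p Q (φ₁'.comp (ψ.codRestrict P' hψP')) := by
      refine ih₂ φ₁'.range hQ₁' Q (φ₁'.comp (ψ.codRestrict P' hψP')) h' (fun z => ?_) (fun y => ?_)
      · obtain ⟨x, hx⟩ := z.2
        have e1 : (ψ.codRestrict P' hψP') ⟨φ₂ (Subgroup.inclusion hQ₁' z), h' z⟩ = x := by
          apply Subtype.ext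
          show ψ ⟨φ₂ (Subgroup.inclusion hQ₁' z), h' z⟩ = (x : Ω)
          rw [← hinv x]
          refine congrArg ψ (Subtype.ext ?_)
          show φ₂ (Subgroup.inclusion hQ₁' z)
            = φ₂ ((φ₁.codRestrict Q₁ h₁) (Subgroup.inclusion hP' x))
          rw [key z x hx]
        show φ₁' ((ψ.codRestrict P' hψP') ⟨φ₂ (Subgroup.inclusion hQ₁' z), h' z⟩) = (z : Ω)
        rw [e1]
        exact hx
      · obtain ⟨x, hx⟩ := hsurj y
        refine ⟨⟨φ₁' x, x, rfl⟩, ?_⟩
        rw [key ⟨φ₁' x, x, rfl⟩ x rfl]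
        exact hx
    have h2 : ∀ y : Q, (φ₁'.comp (ψ.codRestrict P' hψP')) y ∈ φ₁'.range := fun y => ⟨_, rfl⟩
    have hfinal : ψ = ψ₁.comp ((φ₁'.comp (ψ.codRestrict P' hψP')).codRestrict φ₁'.range h2) := by
      ext y
      exact (hψ₁ (ψ.codRestrict P' hψP' y)).symm
    rw [hfinal]
    exact Star.comp h2 hstψ₂ hstψ₁

theorem main : StarInv.{u} := by
  intro Ω _ S F p P Q φ ψ hst h hinv hsurj
  exact star_inv_aux F p hst P le_rfl Q ψ (fun x => h x) (fun x => hinv x)
    (fun y => by obtain ⟨x, hx⟩ := hsurj y; exact ⟨x, hx⟩)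

end Cfsg.Agent.Lib.Helper98.PPSB3
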