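import Mathlib
import Cfsg.Prelude.Def_FusionSystem
import Cfsg.Agent.Lib.Helper85.PPStmt

set_option autoImplicit false

/-! Piece SM of S5113: Star maps of a subsystem are Star maps. -/

namespace Cfsg.Agent.Lib.Helper98.PPSM

open Cfsg Cfsg.FusionSystem Cfsg.Agent.Lib.Helper85.PPStmt

universe u v

theorem pres_map {A B : Type*} [Group A] [Group B] (f : A →* B) {p : ℕ} {a : A}
    (ha : a ∈ pResidual p A) : f a ∈ pResidual p B := by
  have h : pResidual p A ≤ (pResidual p B).comap f := by
    refine (Subgroup.closure_le _).mpr ?_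
    intro g hg
    have hg' : Nat.Coprime (orderOf g) p := hg
    show f g ∈ pResidual p B
    apply Subgroup.subset_closure
    show Nat.Coprime (orderOf (f g)) p
    exact Nat.Coprime.coprime_dvd_left (orderOf_map_dvd f g) hg'
  exact h ha

theorem main : StarMono.{u} := by
  intro Ω _ S U F E p hUS hEF P φ hst
  induction hst with
  | @base R P hR β hβ hPR =>
    have hle : E.autGroup R ≤ F.autGroup R := Subgroup.closure_mono fun _ hα => hEF R hα
    exact Star.base (hR.trans hUS) (Subgroup.inclusion hle β)
      (pres_map (Subgroup.inclusion hle) hβ) hPR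
  | @comp P Q φ ψ h h1 h2 ih1 ih2 =>
    exact Star.comp h ih1 ih2

end Cfsg.Agent.Lib.Helper98.PPSM
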