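import Mathlib

/-!
Small tools for maximal subgroups of subgroups (`IsCoatom (H.subgroupOf K)`).
-/

set_option autoImplicit false

namespace Cfsg.Agent.Lib.Helper98.Coatom

open scoped Pointwise

variable {G : Type*} [Group G]

/-- coatom criterion in terms of intermediate subgroups -/
lemma isCoatom_subgroupOf_of {H K : Subgroup G} (hHK : H ≤ K) (hne : ¬ K ≤ H)
    (h : ∀ L : Subgroup G, H ≤ L → L ≤ K → ¬ L ≤ H → K ≤ L) : IsCoatom (H.subgroupOf K) := by
  constructor
  · rw [Ne, Subgroup.subgroupOf_eq_top]; exact hne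
  · intro L' hlt
    have h1 : H ≤ L'.map K.subtype := by
      have h0 := Subgroup.map_mono (f := K.subtype) hlt.le
      rwa [Subgroup.map_subgroupOf_eq_of_le hHK] at h0
    have h2 : L'.map K.subtype ≤ K := Subgroup.map_subtype_le L'
    have h3 : ¬ L'.map K.subtype ≤ H := by
      intro hle
      apply hlt.not_ge
      intro x hx
      rw [Subgroup.mem_subgroupOf]
      exact hle ⟨x, hx, rfl⟩
    have h4 := h _ h1 h2 h3
    rw [eq_top_iff]
    intro x _
    obtain ⟨y, hy, hyx⟩ := h4 x.2
    have hyx' : y = x := Subtype.ext hyx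
    rwa [← hyx']

/-- an intermediate subgroup above a maximal subgroup of `M` is all of `M` -/
lemma le_of_isCoatom_subgroupOf {H M L : Subgroup G} (hmax : IsCoatom (H.subgroupOf M))
    (hHL : H ≤ L) (hLM : L ≤ M) (hne : ¬ L ≤ H) : M ≤ L := by
  have hlt : H.subgroupOf M < L.subgroupOf M := by
    refine lt_of_le_of_ne (Subgroup.subgroupOf_mono M hHL) ?_
    intro heq
    apply hne
    intro x hx
    have hx' : (⟨x, hLM hx⟩ : M) ∈ L.subgroupOf M := hx
    rw [← heq] at hx'
    exact hx'
  have h := hmax.2 _ hlt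
  rwa [Subgroup.subgroupOf_eq_top] at h

/-- the image of a maximal subgroup under an injective homomorphism is maximal in the range -/
lemma isCoatom_map_subgroupOf_range {G' : Type*} [Group G'] (φ : G' →* G)
    (hφ : Function.Injective φ) {H' : Subgroup G'} (hH' : IsCoatom H') :
    IsCoatom ((H'.map φ).subgroupOf φ.range) := by
  apply isCoatom_subgroupOf_of
  · exact Subgroup.map_le_range φ H'
  · intro hle
    apply hH'.1
    rw [eq_top_iff]
    intro x _
    obtain ⟨y, hy, hyx⟩ := hle ⟨x, rfl⟩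
    rwa [← hφ hyx]
  · intro L hHL hLK hLH
    have h1 : H' ≤ L.comap φ := by
      rw [← Subgroup.map_le_iff_le_comap]; exact hHL
    have h2 : ¬ L.comap φ ≤ H' := by
      intro hle
      apply hLH
      intro x hx
      obtain ⟨y, rfl⟩ := hLK hx
      exact ⟨y, hle hx, rfl⟩
    have h3 : L.comap φ = ⊤ := hH'.2 _ (lt_of_le_not_ge h1 h2)
    rintro _ ⟨y, rfl⟩
    have hy : y ∈ L.comap φ := h3 ▸ Subgroup.mem_top y
    exact hy

/-- a group element mapping a finite set into itself stabilizes it -/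
lemma smul_set_eq_of_forall_mem {Ω : Type*} [MulAction G Ω] [Finite Ω] {g : G} {Δ : Set Ω}
    (h : ∀ ω ∈ Δ, g • ω ∈ Δ) : g • Δ = Δ := by
  apply Set.eq_of_subset_of_ncard_le
  · rintro _ ⟨ω, hω, rfl⟩
    exact h ω hω
  · rw [Set.ncard_smul_set]
  · exact Set.toFinite _

/-- an element of the stabilizer of a set preserves membership -/
lemma mem_iff_of_smul_set_eq {Ω : Type*} [MulAction G Ω] {g : G} {Δ : Set Ω}
    (h : g • Δ = Δ) (ω : Ω) : g • ω ∈ Δ ↔ ω ∈ Δ := by
  conv_lhs => rw [← h]
  exact Set.smul_mem_smul_set_iff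

end Cfsg.Agent.Lib.Helper98.Coatom
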