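import Mathlib
import Cfsg.Agent.Lib.Helper74.DixStmt
import Cfsg.Agent.Lib.Helper3.Spectral

/-!
S4472 / RATCRIT: a character fixed by the power maps `j ≡ 1 (mod r)` has values in `ℚ(ζ_r)`.
-/

set_option autoImplicit false

namespace Cfsg.Agent.Lib.Helper98.DixRATCRIT

open Cfsg Cfsg.Agent.Lib.Helper74.DixStmt

universe u

/-- The sum of the powers `μ ^ j`, `j < p ^ (k+1)` prime to `p`, of a `p ^ (k+1)`-th root of
unity. -/
theorem sum_coprime_pow' (p : ℕ) (hp : p.Prime) (k : ℕ) (μ : ℂ) (hμ : μ ^ (p ^ (k + 1)) = 1) :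
    ∑ j ∈ (Finset.range (p ^ (k + 1))).filter (fun j => ¬ p ∣ j), μ ^ j =
      (if μ = 1 then (p : ℂ) ^ (k + 1) else 0) - (if μ ^ p = 1 then (p : ℂ) ^ k else 0) := by
  have hsplit := Finset.sum_filter_add_sum_filter_not (Finset.range (p ^ (k + 1)))
    (fun j => p ∣ j) (fun j => μ ^ j)
  have hmult : ∑ j ∈ (Finset.range (p ^ (k + 1))).filter (fun j => p ∣ j), μ ^ j =
      ∑ l ∈ Finset.range (p ^ k), (μ ^ p) ^ l := by
    have himg : (Finset.range (p ^ (k + 1))).filter (fun j => p ∣ j) =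
        (Finset.range (p ^ k)).image (fun l => p * l) := by
      ext j
      simp only [Finset.mem_filter, Finset.mem_range, Finset.mem_image]
      constructor
      · rintro ⟨hj, l, rfl⟩
        refine ⟨l, ?_, rfl⟩
        have h1 : p * l < p * p ^ k := by
          rw [pow_succ, mul_comm (p ^ k)] at hj
          exact hj
        exact Nat.lt_of_mul_lt_mul_left h1
      · rintro ⟨l, hl, rfl⟩
        refine ⟨?_, dvd_mul_right p l⟩
        calc p * l < p * p ^ k := Nat.mul_lt_mul_of_pos_left hl hp.pos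
          _ = p ^ (k + 1) := by rw [pow_succ, mul_comm]
    rw [himg, Finset.sum_image (fun a _ b _ h => Nat.eq_of_mul_eq_mul_left hp.pos h)]
    apply Finset.sum_congr rfl
    intro l _
    rw [pow_mul]
  have hgeom1 : ∑ j ∈ Finset.range (p ^ (k + 1)), μ ^ j =
      if μ = 1 then (p : ℂ) ^ (k + 1) else 0 := by
    split_ifs with h
    · rw [h]
      simp
    · have h1 := geom_sum_mul μ (p ^ (k + 1))
      rw [hμ, sub_self] at h1
      exact (mul_eq_zero.mp h1).resolve_right (sub_ne_zero.mpr h)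
  have hgeom2 : ∑ l ∈ Finset.range (p ^ k), (μ ^ p) ^ l =
      if μ ^ p = 1 then (p : ℂ) ^ k else 0 := by
    split_ifs with h
    · rw [h]
      simp
    · have h1 := geom_sum_mul (μ ^ p) (p ^ k)
      have h2 : (μ ^ p) ^ (p ^ k) = 1 := by
        rw [← pow_mul, mul_comm, ← pow_succ]
        exact hμ
      rw [h2, sub_self] at h1
      exact (mul_eq_zero.mp h1).resolve_right (sub_ne_zero.mpr h)
  rw [← hgeom1, ← hgeom2, ← hmult, ← hsplit]
  ring

/-- Character values on the powers of `g` are power sums of roots of unity. -/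
theorem char_pow_eq_sum' {G : Type*} [Group G] [Finite G] (χ : G → ℂ) (hχ : IsCharacter G χ)
    (g : G) :
    ∃ (d : ℕ) (μ : Fin d → ℂ), (∀ i, μ i ^ orderOf g = 1) ∧
      ∀ k : ℕ, χ (g ^ k) = ∑ i, μ i ^ k := by
  obtain ⟨n, ρ, rfl⟩ := hχ
  obtain ⟨b, μ, hb, hμ⟩ := Cfsg.Agent.Lib.Helper3.Spectral.exists_eigenbasis ρ g
  refine ⟨_, μ, hμ, fun k => ?_⟩
  have hk : ∀ i, ρ (g ^ k) (b i) = μ i ^ k • b i := by
    intro i
    induction k with
    | zero => simp
    | succ k ih =>
      rw [pow_succ, map_mul, Module.End.mul_apply, hb i, map_smul, ih, smul_smul, pow_succ]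
      congr 1
      ring
  exact Cfsg.Agent.Lib.Helper3.Spectral.trace_eq_sum_of_eigenbasis b (ρ (g ^ k))
    (fun i => μ i ^ k) hk

theorem root_mem' (r : ℕ) (hr : r ≠ 0) {η : ℂ} (hη : η ^ r = 1) : η ∈ Cyc r := by
  have : NeZero r := ⟨hr⟩
  obtain ⟨i, -, hi⟩ := (Complex.isPrimitiveRoot_exp r hr).eq_pow_of_pow_eq_one hη
  rw [← hi]
  refine pow_mem ?_ i
  unfold Cyc
  exact IntermediateField.subset_adjoin ℚ _ (Set.mem_singleton _)

theorem main : RatCrit.{u} := by
  intro T _ _ p _ ψ hψ r e hpr hcard hfix g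
  have hp : p.Prime := Fact.out
  have hn : 0 < Nat.card T := Nat.card_pos
  have hr0 : r ≠ 0 := by
    rintro rfl
    rw [zero_mul] at hcard
    omega
  obtain ⟨d, μ, hμo, hk⟩ := char_pow_eq_sum' ψ hψ g
  have h1 : ψ g = ∑ i, μ i := by simpa using hk 1
  cases e with
  | zero =>
    have hμn : ∀ i, μ i ^ r = 1 := by
      intro i
      obtain ⟨c, hc⟩ : orderOf g ∣ r := by
        have h := orderOf_dvd_natCard g
        rw [hcard] at h
        simpa using h
      rw [hc, pow_mul, hμo i, one_pow]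
    rw [h1]
    exact sum_mem fun i _ => root_mem' r hr0 (hμn i)
  | succ k =>
    have hμn : ∀ i, μ i ^ (r * p ^ (k + 1)) = 1 := by
      intro i
      obtain ⟨c, hc⟩ : orderOf g ∣ r * p ^ (k + 1) := by
        rw [← hcard]; exact orderOf_dvd_natCard g
      rw [hc, pow_mul, hμo i, one_pow]
    have hco : Nat.Coprime r (p ^ (k + 1)) :=
      Nat.Coprime.pow_right _ ((Nat.Prime.coprime_iff_not_dvd hp).2 hpr).symm
    obtain ⟨s, hs1, hs0⟩ := Nat.chineseRemainder hco 1 0
    obtain ⟨t, ht0, ht1⟩ := Nat.chineseRemainder hco 0 1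
    have hPs : p ^ (k + 1) ∣ s := (Nat.modEq_zero_iff_dvd).1 hs0
    have hrt : r ∣ t := (Nat.modEq_zero_iff_dvd).1 ht0
    have ha : ∀ i, (μ i ^ s) ^ r = 1 := by
      intro i
      obtain ⟨s', hs'⟩ := hPs
      rw [← pow_mul, hs', show p ^ (k + 1) * s' * r = (r * p ^ (k + 1)) * s' by ring, pow_mul,
        hμn i, one_pow]
    have hb : ∀ i, (μ i ^ t) ^ (p ^ (k + 1)) = 1 := by
      intro i
      obtain ⟨t', ht'⟩ := hrt
      rw [← pow_mul, ht', show r * t' * p ^ (k + 1) = (r * p ^ (k + 1)) * t' by ring, pow_mul,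
        hμn i, one_pow]
    have hval : ∀ c ∈ (Finset.range (p ^ (k + 1))).filter (fun j => ¬ p ∣ j),
        ψ g = ∑ i, μ i ^ s * (μ i ^ t) ^ c := by
      intro c hc
      have hc2 : ¬ p ∣ c := (Finset.mem_filter.1 hc).2
      have hj1 : s + c * t ≡ 1 [MOD r] := by
        have h2 : c * t ≡ c * 0 [MOD r] := Nat.ModEq.mul_left c ht0
        have h3 := Nat.ModEq.add hs1 h2
        simpa using h3
      have hjP : s + c * t ≡ c [MOD p ^ (k + 1)] := by
        have h2 : c * t ≡ c * 1 [MOD p ^ (k + 1)] := Nat.ModEq.mul_left c ht1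
        have h3 := Nat.ModEq.add hs0 h2
        simpa using h3
      have hcop : (s + c * t).Coprime (Nat.card T) := by
        rw [hcard]
        apply Nat.Coprime.mul_right
        · have h4 := hj1.gcd_eq
          unfold Nat.Coprime
          rw [h4]
          exact Nat.gcd_one_left r
        · apply Nat.Coprime.pow_right
          apply Nat.Coprime.symm
          rw [Nat.Prime.coprime_iff_not_dvd hp]
          intro hd
          exact hc2 ((hjP.dvd_iff (dvd_pow_self p (Nat.succ_ne_zero k))).1 hd)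
      calc ψ g = ψ (g ^ (s + c * t)) := (hfix _ hcop hj1 g).symm
        _ = ∑ i, μ i ^ (s + c * t) := hk _
        _ = ∑ i, μ i ^ s * (μ i ^ t) ^ c := by
            refine Finset.sum_congr rfl fun i _ => ?_
            rw [pow_add, pow_mul']
    have hsum : ∑ c ∈ (Finset.range (p ^ (k + 1))).filter (fun j => ¬ p ∣ j), ψ g =
        ∑ i, μ i ^ s * ∑ c ∈ (Finset.range (p ^ (k + 1))).filter (fun j => ¬ p ∣ j),
          (μ i ^ t) ^ c := by
      calc ∑ c ∈ (Finset.range (p ^ (k + 1))).filter (fun j => ¬ p ∣ j), ψ g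
          = ∑ c ∈ (Finset.range (p ^ (k + 1))).filter (fun j => ¬ p ∣ j),
              ∑ i, μ i ^ s * (μ i ^ t) ^ c := Finset.sum_congr rfl fun c hc => hval c hc
        _ = ∑ i, ∑ c ∈ (Finset.range (p ^ (k + 1))).filter (fun j => ¬ p ∣ j),
              μ i ^ s * (μ i ^ t) ^ c := Finset.sum_comm
        _ = ∑ i, μ i ^ s * ∑ c ∈ (Finset.range (p ^ (k + 1))).filter (fun j => ¬ p ∣ j),
              (μ i ^ t) ^ c := by
            refine Finset.sum_congr rfl fun i _ => ?_
            rw [Finset.mul_sum]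
    have hone : ∑ c ∈ (Finset.range (p ^ (k + 1))).filter (fun j => ¬ p ∣ j), (1 : ℂ) =
        (p : ℂ) ^ (k + 1) - (p : ℂ) ^ k := by
      have h := sum_coprime_pow' p hp k 1 (one_pow _)
      simp only [one_pow, if_true] at h
      exact h
    have hcardC : ∑ c ∈ (Finset.range (p ^ (k + 1))).filter (fun j => ¬ p ∣ j), ψ g =
        ((p : ℂ) ^ (k + 1) - (p : ℂ) ^ k) * ψ g := by
      rw [← hone, Finset.sum_mul]
      refine Finset.sum_congr rfl fun c _ => ?_
      rw [one_mul]
    have hD : ((p : ℂ) ^ (k + 1) - (p : ℂ) ^ k) ≠ 0 := by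
      apply sub_ne_zero.mpr
      intro h
      have h' : p ^ (k + 1) = p ^ k := by exact_mod_cast h
      exact absurd h' (Nat.pow_lt_pow_right hp.one_lt (Nat.lt_succ_self k)).ne'
    have hfin : ψ g = (∑ i, μ i ^ s *
        ((if μ i ^ t = 1 then (p : ℂ) ^ (k + 1) else 0) -
          (if (μ i ^ t) ^ p = 1 then (p : ℂ) ^ k else 0))) /
        ((p : ℂ) ^ (k + 1) - (p : ℂ) ^ k) := by
      rw [eq_div_iff hD, mul_comm, ← hcardC, hsum]
      refine Finset.sum_congr rfl fun i _ => ?_
      rw [sum_coprime_pow' p hp k (μ i ^ t) (hb i)]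
    rw [hfin]
    refine div_mem (sum_mem fun i _ => mul_mem (root_mem' r hr0 (ha i)) ?_) ?_
    · refine sub_mem ?_ ?_
      · split_ifs
        · exact pow_mem (natCast_mem _ p) _
        · exact zero_mem _
      · split_ifs
        · exact pow_mem (natCast_mem _ p) _
        · exact zero_mem _
    · exact sub_mem (pow_mem (natCast_mem _ p) _) (pow_mem (natCast_mem _ p) _)

end Cfsg.Agent.Lib.Helper98.DixRATCRIT
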