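import Mathlib
import Cfsg.Agent.Lib.Helper41.EMStmt
import Cfsg.Agent.Lib.Helper11.TPCANCEL

/-!
S5990 / CANCEL: Witt cancellation of a plus-type summand for the minus form
(wrapper of the form-free `Helper11.TPCANCEL.cancel_gen`).
-/

set_option autoImplicit false

universe u

namespace Cfsg.Agent.Lib.Helper98.EMCANCEL

open Cfsg.Agent.Lib.Helper41.EMStmt
open Cfsg.Agent.Lib.Helper45.OMiStmt (M Aniso FxM NDegM StabM)
open Cfsg.Agent.Lib.Helper41.TMTwoStmt (PlusM)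

/-- `Cfsg.quadFormMinus` as a quadratic form (local copy). -/
def minusForm (m : ℕ) (F : Type*) [Field F] (a b : F) :
    QuadraticForm F ((Fin m ⊕ Fin m) ⊕ Fin 2 → F) :=
  (((∑ i : Fin m, QuadraticMap.proj (R := F) (Sum.inl (Sum.inl i)) (Sum.inl (Sum.inr i)))
    + (QuadraticMap.proj (R := F) (Sum.inr 0) (Sum.inr 0)
      + a • QuadraticMap.proj (R := F) (Sum.inr 0) (Sum.inr 1)
      + b • QuadraticMap.proj (R := F) (Sum.inr 1) (Sum.inr 1)))
      : QuadraticForm F ((Fin m ⊕ Fin m) ⊕ Fin 2 → F)).copy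
    (Cfsg.quadFormMinus m F a b)
    (by funext v; simp [Cfsg.quadFormMinus, pow_two]; ring)

theorem main : CancelM.{u} := by
  intro F _ _ a₀ b₀ _ d A B hA hB hAB hP hPA
  obtain ⟨U, hU, hUts, hUd⟩ := hP
  obtain ⟨TA, hTA, hTAts, hTAd⟩ := hPA
  have key := Cfsg.Agent.Lib.Helper11.TPCANCEL.cancel_gen (minusForm (d - 1) F a₀ b₀) A B
    (fun a ha h => by
      by_contra hne
      obtain ⟨⟨x, hx, hx'⟩, -⟩ := hA a ha hne
      exact hx' (h x hx))
    (fun b hb h => by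
      by_contra hne
      obtain ⟨⟨x, hx, hx'⟩, -⟩ := hB b hb hne
      exact hx' (h x hx))
    hAB U hU hUts hUd TA hTA hTAts hTAd
  obtain ⟨TB, hTB, hTBts, hTBd⟩ := key
  exact ⟨TB, hTB, hTBts, hTBd⟩

end Cfsg.Agent.Lib.Helper98.EMCANCEL
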