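import Mathlib
import Cfsg.Agent.Lib.Helper26.J3Stmt

set_option autoImplicit false

/-! S3366 piece [FR2] (extra seat helper98): the explicit coordinates `iotaOf r1 r2` on `R`:
membership, inversion by `t`, the central element `zOf`, and the multiplication law. -/

namespace Cfsg.Agent.Lib.Helper98.J3FR2

open Cfsg.Agent.Lib.Helper26.J3Stmt

universe u

section generic

variable {X : Type u} [Group X]

theorem P_add (r : X) (hr : r ^ 3 = 1) (c d : ZMod 3) :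
    r ^ (c + d).val = r ^ c.val * r ^ d.val := by
  rw [← pow_add, ZMod.val_add]
  exact (pow_eq_pow_mod _ hr).symm

theorem P_mul (r : X) (hr : r ^ 3 = 1) (c d : ZMod 3) :
    r ^ (c * d).val = r ^ (c.val * d.val) := by
  rw [ZMod.val_mul]
  exact (pow_eq_pow_mod _ hr).symm

theorem P_neg (r : X) (hr : r ^ 3 = 1) (c : ZMod 3) : r ^ (-c).val = (r ^ c.val)⁻¹ := by
  apply eq_inv_of_mul_eq_one_left
  rw [← P_add r hr, neg_add_cancel, ZMod.val_zero, pow_zero]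

theorem comm_step (r1 r2 z0 : X) (hz0 : z0 = r1 * r2 * r1⁻¹ * r2⁻¹)
    (hzc : ∀ g : X, g * z0 = z0 * g) (x : ℕ) :
    r2 * r1 ^ x = (z0 ^ x)⁻¹ * r1 ^ x * r2 := by
  have hzi : ∀ g : X, g * z0⁻¹ = z0⁻¹ * g := fun g =>
    ((show Commute g z0 from hzc g).inv_right).eq
  induction x with
  | zero => simp
  | succ x ih =>
    have hb : r2 * r1 = z0⁻¹ * r1 * r2 := by rw [hz0]; group
    calc r2 * r1 ^ (x + 1) = (r2 * r1 ^ x) * r1 := by group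
      _ = (z0 ^ x)⁻¹ * r1 ^ x * r2 * r1 := by rw [ih]
      _ = (z0 ^ x)⁻¹ * r1 ^ x * (r2 * r1) := by group
      _ = (z0 ^ x)⁻¹ * r1 ^ x * (z0⁻¹ * r1 * r2) := by rw [hb]
      _ = (z0 ^ x)⁻¹ * (r1 ^ x * z0⁻¹) * r1 * r2 := by group
      _ = (z0 ^ x)⁻¹ * (z0⁻¹ * r1 ^ x) * r1 * r2 := by rw [hzi (r1 ^ x)]
      _ = (z0 ^ (x + 1))⁻¹ * r1 ^ (x + 1) * r2 := by group

theorem comm_pow (r1 r2 z0 : X) (hz0 : z0 = r1 * r2 * r1⁻¹ * r2⁻¹)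
    (hzc : ∀ g : X, g * z0 = z0 * g) (x y : ℕ) :
    r2 ^ y * r1 ^ x = (z0 ^ (x * y))⁻¹ * r1 ^ x * r2 ^ y := by
  have hzi : ∀ (n : ℕ) (g : X), g * (z0 ^ n)⁻¹ = (z0 ^ n)⁻¹ * g := fun n g =>
    (((show Commute g z0 from hzc g).pow_right n).inv_right).eq
  have hs := comm_step r1 r2 z0 hz0 hzc x
  induction y with
  | zero => simp
  | succ y ih =>
    calc r2 ^ (y + 1) * r1 ^ x = r2 * (r2 ^ y * r1 ^ x) := by group
      _ = r2 * ((z0 ^ (x * y))⁻¹ * r1 ^ x * r2 ^ y) := by rw [ih]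
      _ = (r2 * (z0 ^ (x * y))⁻¹) * r1 ^ x * r2 ^ y := by group
      _ = ((z0 ^ (x * y))⁻¹ * r2) * r1 ^ x * r2 ^ y := by rw [hzi (x * y) r2]
      _ = (z0 ^ (x * y))⁻¹ * (r2 * r1 ^ x) * r2 ^ y := by group
      _ = (z0 ^ (x * y))⁻¹ * ((z0 ^ x)⁻¹ * r1 ^ x * r2) * r2 ^ y := by rw [hs]
      _ = (z0 ^ (x * (y + 1)))⁻¹ * r1 ^ x * r2 ^ (y + 1) := by group

theorem BA (r1 r2 z0 : X) (hz0 : z0 = r1 * r2 * r1⁻¹ * r2⁻¹)
    (hzc : ∀ g : X, g * z0 = z0 * g) (hz3 : z0 ^ 3 = 1) (c d : ZMod 3) :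
    r2 ^ d.val * r1 ^ c.val = z0 ^ (-(c * d)).val * r1 ^ c.val * r2 ^ d.val := by
  rw [comm_pow r1 r2 z0 hz0 hzc c.val d.val, P_neg z0 hz3, P_mul z0 hz3]

theorem L1 (x y x' y' w1 w2 : X) (hw1 : ∀ g : X, g * w1 = w1 * g) :
    (x * y * w1) * (x' * y' * w2) = x * (y * x') * y' * (w1 * w2) := by
  calc (x * y * w1) * (x' * y' * w2) = x * y * (w1 * (x' * y')) * w2 := by group
    _ = x * y * ((x' * y') * w1) * w2 := by rw [← hw1 (x' * y')]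
    _ = x * (y * x') * y' * (w1 * w2) := by group

theorem L2 (x w3 x' y y' w : X) (hw3 : ∀ g : X, g * w3 = w3 * g) :
    x * (w3 * x' * y) * y' * w = (x * x') * (y * y') * (w3 * w) := by
  calc x * (w3 * x' * y) * y' * w = x * (w3 * (x' * y * y')) * w := by group
    _ = x * ((x' * y * y') * w3) * w := by rw [← hw3 (x' * y * y')]
    _ = (x * x') * (y * y') * (w3 * w) := by group

theorem law (r1 r2 z0 : X) (hz0 : z0 = r1 * r2 * r1⁻¹ * r2⁻¹)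
    (hzc : ∀ g : X, g * z0 = z0 * g) (h1 : r1 ^ 3 = 1) (h2 : r2 ^ 3 = 1) (hz3 : z0 ^ 3 = 1)
    (a b a' b' e1 e2 : ZMod 3) :
    (r1 ^ a.val * r2 ^ b.val * z0 ^ e1.val) * (r1 ^ a'.val * r2 ^ b'.val * z0 ^ e2.val) =
      r1 ^ (a + a').val * r2 ^ (b + b').val * z0 ^ (-(a' * b) + (e1 + e2)).val := by
  have hzp : ∀ (c : ZMod 3) (g : X), g * z0 ^ c.val = z0 ^ c.val * g := fun c g =>
    ((show Commute g z0 from hzc g).pow_right c.val).eq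
  rw [L1 _ _ _ _ _ _ (hzp e1), BA r1 r2 z0 hz0 hzc hz3 a' b, L2 _ _ _ _ _ _ (hzp _),
    ← P_add r1 h1, ← P_add r2 h2, ← P_add z0 hz3, ← P_add z0 hz3]

end generic

theorem expo : ∀ a b a' b' : ZMod 3,
    -(a' * b) + (a * b + a' * b') = (a + a') * (b + b') + -(a * b' - b * a') := by decide

theorem expo2 : ∀ a b : ZMod 3, -((-a) * b) + (a * b + a * b) = 0 := by decide

theorem main : FR2.{u} := by
  intro X _ hHyp hZ t hT r1 hr1 r2 hr2 ht1 ht2 hnc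
  obtain ⟨-, -, -, hexp, -, -, -⟩ := hHyp
  obtain ⟨-, hZR, hZcomm, -, hZcen⟩ := hZ
  obtain ⟨z0, hz0⟩ : ∃ z0 : X, z0 = r1 * r2 * r1⁻¹ * r2⁻¹ := ⟨_, rfl⟩
  have hz0Z : z0 ∈ Zc X := by rw [hz0]; exact hZcomm r1 hr1 r2 hr2
  have hz0R : z0 ∈ R X := hZR hz0Z
  have hzc : ∀ g : X, g * z0 = z0 * g := hZcen z0 hz0Z
  have h1 : r1 ^ 3 = 1 := hexp r1 hr1
  have h2 : r2 ^ 3 = 1 := hexp r2 hr2
  have hz3 : z0 ^ 3 = 1 := hexp z0 hz0R
  have hι : ∀ u : V, iotaOf r1 r2 u = r1 ^ (u 0).val * r2 ^ (u 1).val * z0 ^ (u 0 * u 1).val := by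
    intro u
    rw [hz0]
    rfl
  have hzO : zOf r1 r2 = z0⁻¹ := by
    rw [hz0]
    rfl
  refine ⟨?_, ?_, ?_, ?_, ?_⟩
  · intro u
    rw [hι u]
    exact Subgroup.mul_mem _ (Subgroup.mul_mem _ (Subgroup.pow_mem _ hr1 _)
      (Subgroup.pow_mem _ hr2 _)) (Subgroup.pow_mem _ hz0R _)
  · intro u
    rw [hι u]
    have hc : t * (r1 ^ (u 0).val * r2 ^ (u 1).val * z0 ^ (u 0 * u 1).val) * t⁻¹ =
        r1 ^ (-(u 0)).val * r2 ^ (-(u 1)).val * z0 ^ (u 0 * u 1).val := by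
      have e : t * (r1 ^ (u 0).val * r2 ^ (u 1).val * z0 ^ (u 0 * u 1).val) * t⁻¹ =
          (t * r1 ^ (u 0).val * t⁻¹) * (t * r2 ^ (u 1).val * t⁻¹) *
            (t * z0 ^ (u 0 * u 1).val * t⁻¹) := by group
      have hzt : t * z0 * t⁻¹ = z0 := mul_inv_eq_iff_eq_mul.mpr (hzc t)
      rw [e, ← conj_pow, ← conj_pow, ← conj_pow, ht1, ht2, hzt, inv_pow, inv_pow,
        ← P_neg r1 h1, ← P_neg r2 h2]
    rw [hc]
    apply eq_inv_of_mul_eq_one_right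
    rw [law r1 r2 z0 hz0 hzc h1 h2 hz3, add_neg_cancel, add_neg_cancel, expo2,
      ZMod.val_zero, pow_zero, pow_zero, pow_zero, one_mul, one_mul]
  · rw [hzO]
    exact Subgroup.inv_mem _ hz0Z
  · rw [hzO]
    intro h
    apply hnc
    have hz01 : z0 = 1 := inv_eq_one.mp h
    rw [hz0] at hz01
    have h3 : r1 * r2 * r1⁻¹ = r2 := mul_inv_eq_one.mp hz01
    exact mul_inv_eq_iff_eq_mul.mp h3
  · intro u v
    rw [hι u, hι v, hι (u + v), hzO, inv_pow, ← P_neg z0 hz3,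
      law r1 r2 z0 hz0 hzc h1 h2 hz3, mul_assoc (r1 ^ ((u + v) 0).val * r2 ^ ((u + v) 1).val),
      ← P_add z0 hz3, Pi.add_apply, Pi.add_apply, expo]

end Cfsg.Agent.Lib.Helper98.J3FR2
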