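import Mathlib
import Cfsg.Agent.Lib.Helper26.J3Stmt

set_option autoImplicit false

/-! S3366 piece [KACT1] (second seat helper98): each `k ∈ K` acts on the coordinates of `R` by
an additive, determinant-preserving map. -/

namespace Cfsg.Agent.Lib.Helper98.J3KACT1

open Cfsg.Agent.Lib.Helper26.J3Stmt

universe u

theorem main : KACT1.{u} := by
  intro X _ hHyp hZ t K ι z hT hS hF k hk
  obtain ⟨hF1, hF2, hF3, hF4, hF5, hF6, hF7⟩ := hF
  obtain ⟨-, hZR, -, -, hZcen⟩ := hZ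
  obtain ⟨hKt, -, -⟩ := hS
  obtain ⟨-, -, -, hexp, -, -, -⟩ := hHyp
  have hz3 : z ^ 3 = 1 := hexp z (hZR hF3)
  have hzc : ∀ x : X, x * z = z * x := hZcen z hF3
  have hkt : k * t = t * k := hKt k hk
  have hzpc : ∀ (n : ℕ) (x : X), x * z ^ n = z ^ n * x := by
    intro n x
    exact ((show Commute x z from hzc x).pow_right n).eq
  have hzic : ∀ (n : ℕ) (x : X), x * (z ^ n)⁻¹ = (z ^ n)⁻¹ * x := by
    intro n x
    exact ((show Commute x (z ^ n) from hzpc n x).inv_right).eq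
  have key : ∀ u : V, ∃ u' : V, k * ι u * k⁻¹ = ι u' := by
    intro u
    have hr : k * ι u * k⁻¹ ∈ R X :=
      (inferInstance : (R X).Normal).conj_mem _ (hF1 u) k
    obtain ⟨u', c, hc⟩ := hF5 _ hr
    refine ⟨u', ?_⟩
    have h1 : t * (k * ι u * k⁻¹) * t⁻¹ = (k * ι u * k⁻¹)⁻¹ := by
      have e : t * (k * ι u * k⁻¹) * t⁻¹ = k * (t * ι u * t⁻¹) * k⁻¹ := by
        have hkt' : t * k = k * t := hkt.symm
        have hkt'' : k⁻¹ * t⁻¹ = t⁻¹ * k⁻¹ := by
          rw [← mul_inv_rev, ← mul_inv_rev, hkt]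
        calc t * (k * ι u * k⁻¹) * t⁻¹ = (t * k) * ι u * (k⁻¹ * t⁻¹) := by group
          _ = (k * t) * ι u * (t⁻¹ * k⁻¹) := by rw [hkt', hkt'']
          _ = k * (t * ι u * t⁻¹) * k⁻¹ := by group
      rw [e, hF2 u]
      group
    rw [hc] at h1
    have h2 : t * (ι u' * z ^ c.val) * t⁻¹ = (ι u')⁻¹ * z ^ c.val := by
      have e : t * (ι u' * z ^ c.val) * t⁻¹ = (t * ι u' * t⁻¹) * (t * z ^ c.val * t⁻¹) := by
        group
      rw [e, hF2 u', hzpc c.val t, mul_inv_cancel_right]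
    have h3 : (ι u' * z ^ c.val)⁻¹ = (ι u')⁻¹ * (z ^ c.val)⁻¹ := by
      rw [mul_inv_rev, hzic c.val (ι u')⁻¹]
    have h4 : z ^ c.val = (z ^ c.val)⁻¹ := mul_left_cancel (h2.symm.trans (h1.trans h3))
    have h5 : z ^ c.val * z ^ c.val = 1 := by
      nth_rewrite 2 [h4]
      exact mul_inv_cancel _
    have hv : c.val < 3 := ZMod.val_lt c
    have hcv : c.val = 0 := by
      obtain ⟨m, hm⟩ : ∃ m, m = c.val := ⟨_, rfl⟩
      rw [← hm] at h5 hv ⊢
      interval_cases m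
      · rfl
      · exfalso
        rw [pow_one] at h5
        apply hF4
        have h6 := hz3
        rw [pow_succ, pow_two, h5, one_mul] at h6
        exact h6
      · exfalso
        apply hF4
        have e4 : z ^ 2 * z ^ 2 = z ^ 3 * z := by group
        rw [e4, hz3, one_mul] at h5
        exact h5
    rw [hc, hcv, pow_zero, mul_one]
  choose ρ hρ using key
  have hboth : ∀ u v : V, ρ (u + v) = ρ u + ρ v ∧
      (u 0 * v 1 - u 1 * v 0 : ZMod 3) = ρ u 0 * ρ v 1 - ρ u 1 * ρ v 0 := by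
    intro u v
    apply hF6
    rw [← hF7 (ρ u) (ρ v), ← hρ u, ← hρ v, ← hρ (u + v)]
    have e1 : k * ι u * k⁻¹ * (k * ι v * k⁻¹) = k * (ι u * ι v) * k⁻¹ := by group
    rw [e1, hF7 u v]
    have e2 : k * (ι (u + v) * z ^ (u 0 * v 1 - u 1 * v 0).val) * k⁻¹ =
        k * ι (u + v) * (z ^ (u 0 * v 1 - u 1 * v 0).val * k⁻¹) := by group
    rw [e2, ← hzpc _ k⁻¹]
    exact mul_assoc _ _ _
  exact ⟨ρ, fun u => mul_inv_eq_iff_eq_mul.mp (hρ u), fun u v => (hboth u v).1,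
    fun u v => (hboth u v).2.symm⟩

end Cfsg.Agent.Lib.Helper98.J3KACT1
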