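import Mathlib
import Cfsg.Agent.Lib.Helper26.J3Stmt

set_option autoImplicit false

/-! S3366 piece [KACT2] (second seat helper98): the action of `K` on the coordinates of `R` as
a homomorphism to `SL(2,3)`. -/

namespace Cfsg.Agent.Lib.Helper98.J3KACT2

open Cfsg.Agent.Lib.Helper26.J3Stmt

universe u

/-- standard basis vectors of `V`. -/
def e (j : Fin 2) : V := fun i => if i = j then 1 else 0

theorem mulVec_e (B : Matrix (Fin 2) (Fin 2) (ZMod 3)) (i j : Fin 2) :
    (B.mulVec (e j)) i = B i j := by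
  fin_cases j <;> simp [Matrix.mulVec, dotProduct, Fin.sum_univ_two, e]

/-- an additive self-map of `V` is given by its values on the basis. -/
theorem additive_eq (f : V → V) (hf : ∀ u v, f (u + v) = f u + f v) (u : V) (i : Fin 2) :
    f u i = u 0 * f (e 0) i + u 1 * f (e 1) i := by
  obtain ⟨g, hg⟩ : ∃ g : V →+ V, ∀ v, g v = f v := ⟨AddMonoidHom.mk' f hf, fun v => rfl⟩
  have hsm : ∀ (c : ZMod 3) (x : V), c • x = c.val • x := by
    intro c x
    rw [← Nat.cast_smul_eq_nsmul (ZMod 3) c.val x, ZMod.natCast_zmod_val]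
  have hu : u = (u 0).val • e 0 + (u 1).val • e 1 := by
    rw [← hsm, ← hsm]
    funext i
    fin_cases i <;> simp [e]
  have h1 : f u = (u 0).val • f (e 0) + (u 1).val • f (e 1) := by
    rw [← hg u, ← hg (e 0), ← hg (e 1), ← map_nsmul, ← map_nsmul, ← map_add, ← hu]
  rw [h1, ← hsm, ← hsm]
  simp only [Pi.add_apply, Pi.smul_apply, smul_eq_mul]

theorem main : KACT2.{u} := by
  intro hK1 X _ hHyp hZ t K ι z hT hS hF
  have hK1' := hK1 X hHyp hZ t K ι z hT hS hF
  choose ρ hρ1 hρ2 hρ3 using hK1'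
  obtain ⟨-, -, -, -, -, hF6, -⟩ := hF
  have hιinj : ∀ u u' : V, ι u = ι u' → u = u' := by
    intro u u' h
    have h1 := hF6 u u' 0 0 (by rw [h])
    exact h1.1
  have hdet : ∀ k : K, (Matrix.of (fun i j => ρ k.1 k.2 (e j) i) :
      Matrix (Fin 2) (Fin 2) (ZMod 3)).det = 1 := by
    intro k
    rw [Matrix.det_fin_two]
    simp only [Matrix.of_apply]
    have h := hρ3 k.1 k.2 (e 0) (e 1)
    have e1 : (e 0 0 * e 1 1 - e 0 1 * e 1 0 : ZMod 3) = 1 := by simp [e]
    rw [e1] at h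
    linear_combination h
  have hmv : ∀ (k : K) (u : V), (Matrix.of (fun i j => ρ k.1 k.2 (e j) i) :
      Matrix (Fin 2) (Fin 2) (ZMod 3)).mulVec u = ρ k.1 k.2 u := by
    intro k u
    funext i
    rw [additive_eq (ρ k.1 k.2) (hρ2 k.1 k.2) u i]
    simp only [Matrix.mulVec, dotProduct, Fin.sum_univ_two, Matrix.of_apply]
    ring
  obtain ⟨Mf, hMf⟩ : ∃ Mf : K → SL, ∀ (k : K) (u : V), (Mf k).1.mulVec u = ρ k.1 k.2 u :=
    ⟨fun k => ⟨Matrix.of (fun i j => ρ k.1 k.2 (e j) i), hdet k⟩, fun k u => hmv k u⟩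
  have hkey : ∀ (k : K) (u : V), (k : X) * ι u = ι ((Mf k).1.mulVec u) * (k : X) := by
    intro k u
    rw [hMf k u]
    exact hρ1 k.1 k.2 u
  have hmul : ∀ a b : K, Mf (a * b) = Mf a * Mf b := by
    intro a b
    apply Subtype.ext
    apply Matrix.ext
    intro i j
    have h1 : ∀ u : V, (Mf (a * b)).1.mulVec u = ((Mf a).1 * (Mf b).1).mulVec u := by
      intro u
      apply hιinj
      have h2 := hkey (a * b) u
      have h3 : ((a * b : K) : X) * ι u =
          ι ((Mf a).1.mulVec ((Mf b).1.mulVec u)) * ((a * b : K) : X) := by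
        calc ((a * b : K) : X) * ι u = (a : X) * ((b : X) * ι u) := by
              rw [Subgroup.coe_mul, mul_assoc]
          _ = (a : X) * (ι ((Mf b).1.mulVec u) * (b : X)) := by rw [hkey b u]
          _ = ((a : X) * ι ((Mf b).1.mulVec u)) * (b : X) := by rw [mul_assoc]
          _ = (ι ((Mf a).1.mulVec ((Mf b).1.mulVec u)) * (a : X)) * (b : X) := by rw [hkey a]
          _ = ι ((Mf a).1.mulVec ((Mf b).1.mulVec u)) * ((a * b : K) : X) := by
              rw [Subgroup.coe_mul, mul_assoc]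
      rw [h2] at h3
      have h4 := mul_right_cancel h3
      rw [h4, Matrix.mulVec_mulVec]
    have h5 := congrFun (h1 (e j)) i
    rw [mulVec_e, mulVec_e] at h5
    exact h5
  exact ⟨MonoidHom.mk' Mf hmul, hkey⟩

end Cfsg.Agent.Lib.Helper98.J3KACT2
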