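import Mathlib
import Cfsg.Agent.Lib.Helper68.MixStmt

set_option autoImplicit false

/-! S4017 (helper68 call): small shared facts on the boundary context (helper98). -/

namespace Cfsg.Agent.Lib.Helper98.MixTool

open Cfsg.Agent.Lib.Helper68.MixStmt

universe u

theorem four_le {G : Type u} [Group G] [Finite G] {p a : ℕ} {Q : Subgroup G} {y : G}
    (hB : BCtx G p a Q y) : 4 ≤ 2 ^ a := by
  calc 4 = 2 ^ 2 := by norm_num
    _ ≤ 2 ^ a := Nat.pow_le_pow_right (by norm_num) hB.ha

theorem p_ne_two {G : Type u} [Group G] [Finite G] {p a : ℕ} {Q : Subgroup G} {y : G}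
    (hB : BCtx G p a Q y) : p ≠ 2 := by
  intro h
  have h1 := hB.hpa
  have h2 := four_le hB
  rw [h] at h1
  omega

/-- `Q#` has at least two elements. -/
theorem two_elts {G : Type u} [Group G] [Finite G] {p a : ℕ} {Q : Subgroup G} {y : G}
    (hB : BCtx G p a Q y) (s0 : G) (hs0 : s0 ∈ Q) (h : ∀ t ∈ Q, t ≠ 1 → t = s0) : False := by
  have ha4 := four_le hB
  have hsurj : Function.Surjective (fun b : Bool => if b then (⟨s0, hs0⟩ : ↥Q) else 1) := by
    intro x
    by_cases hx : (x : G) = 1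
    · refine ⟨false, ?_⟩
      apply Subtype.ext
      simp [hx]
    · refine ⟨true, ?_⟩
      apply Subtype.ext
      simp [h x.1 x.2 hx]
  have hle2 : Nat.card ↥Q ≤ Nat.card Bool := Nat.card_le_card_of_surjective _ hsurj
  rw [hB.hQ, Nat.card_eq_fintype_card, Fintype.card_bool] at hle2
  omega

theorem exists_ne_one {G : Type u} [Group G] [Finite G] {p a : ℕ} {Q : Subgroup G} {y : G}
    (hB : BCtx G p a Q y) : ∃ s ∈ Q, s ≠ 1 := by
  by_contra hne
  push_neg at hne
  exact two_elts hB 1 Q.one_mem (fun t ht ht1 => absurd (hne t ht) ht1)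

/-- `y` commutes with no element of `Q#`. -/
theorem moved {G : Type u} [Group G] [Finite G] {p a : ℕ} {Q : Subgroup G} {y : G}
    (hB : BCtx G p a Q y) (t : G) (ht : t ∈ Q) (ht1 : t ≠ 1) (hc : y * t = t * y) : False := by
  apply two_elts hB t ht
  intro t' ht' ht1'
  obtain ⟨k, hk⟩ := hB.htrans t ht ht1 t' ht' ht1'
  have hck : Commute (y ^ k) t := (show Commute y t from hc).pow_left k
  rw [← hk, hck.eq, mul_inv_cancel_right]

end Cfsg.Agent.Lib.Helper98.MixTool
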