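import Mathlib
import Cfsg.Agent.Lib.Helper68.MixStmt
import Cfsg.Agent.Lib.Helper98.MixTool

set_option autoImplicit false

/-! S4017 piece [CT] (helper98). -/

namespace Cfsg.Agent.Lib.Helper98.MixCT

open Cfsg.Agent.Lib.Helper68.MixStmt

universe u

theorem main (hBurn : BURN.{u}) (hNC : NCENT.{u}) : CT.{u} := by
  intro G _ _ p a Q y hB t ht ht1
  have hNC' := hNC G p a Q y hB
  have hQN : Q ≤ Subgroup.normalizer (Q : Set G) := Subgroup.le_normalizer
  have htC : t ∈ Subgroup.centralizer (Q : Set G) := hNC' t (hQN ht) t ht ht1 rfl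
  have hQX : Q ≤ Subgroup.centralizer ({t} : Set G) := by
    intro s hs
    rw [Subgroup.mem_centralizer_iff]
    intro h hh
    rw [Set.mem_singleton_iff] at hh
    rw [hh]
    exact (Subgroup.mem_centralizer_iff.mp htC s hs).symm
  have hXtop : Subgroup.centralizer ({t} : Set G) ≠ ⊤ := by
    intro htop
    have hyt : y ∈ Subgroup.centralizer ({t} : Set G) := by
      rw [htop]; exact Subgroup.mem_top y
    have hc : t * y = y * t := Subgroup.mem_centralizer_iff.mp hyt t (Set.mem_singleton t)
    exact Cfsg.Agent.Lib.Helper98.MixTool.moved hB t ht ht1 hc.symm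
  have hXN : Subgroup.centralizer ({t} : Set G) ⊓ Subgroup.normalizer (Q : Set G) ≤
      Subgroup.centralizer (Q : Set G) := by
    rintro n ⟨hn1, hn2⟩
    have hc : t * n = n * t := Subgroup.mem_centralizer_iff.mp hn1 t (Set.mem_singleton t)
    exact hNC' n hn2 t ht ht1 hc.symm
  exact ⟨hXtop, hBurn G p a Q y hB _ hXtop hQX hXN⟩

end Cfsg.Agent.Lib.Helper98.MixCT
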