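import Mathlib
import Cfsg.Agent.Lib.Helper68.MixStmt

set_option autoImplicit false

/-! S4017 piece [INVN] (helper98): 2-elements of `N_G(Q)` lie in `Q`. -/

namespace Cfsg.Agent.Lib.Helper98.MixINVN

open Cfsg.Agent.Lib.Helper68.MixStmt

universe u

theorem main : INVN.{u} := by
  intro G _ _ p a Q y hB w hw hw2
  obtain ⟨k, hk⟩ := hw2
  haveI : Fact (Nat.Prime 2) := ⟨Nat.prime_two⟩
  have hQ2 : IsPGroup 2 Q := IsPGroup.of_card hB.hQ
  have hW2 : IsPGroup 2 (Subgroup.zpowers w) :=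
    IsPGroup.of_card (by rw [Nat.card_zpowers]; exact hk)
  have hle : Subgroup.zpowers w ≤ Subgroup.normalizer (Q : Set G) := by
    rw [Subgroup.zpowers_le]; exact hw
  have hH : IsPGroup 2 (Q ⊔ Subgroup.zpowers w : Subgroup G) :=
    hQ2.to_sup_of_normal_left' hW2 hle
  obtain ⟨n, hn⟩ := IsPGroup.iff_card.mp hH
  have hdvd : 2 ^ n ∣ Nat.card G := by
    rw [← hn]; exact Subgroup.card_subgroup_dvd_card _
  have hG0 : Nat.card G ≠ 0 := Nat.card_pos.ne'
  have hna : n ≤ a := by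
    rw [← hB.hfac]
    exact (Nat.prime_two.pow_dvd_iff_le_factorization hG0).mp hdvd
  have hcard : Nat.card (Q ⊔ Subgroup.zpowers w : Subgroup G) ≤ Nat.card Q := by
    rw [hn, hB.hQ]
    exact Nat.pow_le_pow_right (by norm_num) hna
  have heq : Q = Q ⊔ Subgroup.zpowers w := Subgroup.eq_of_le_of_card_ge le_sup_left hcard
  have hw' : w ∈ Q ⊔ Subgroup.zpowers w :=
    (le_sup_right : Subgroup.zpowers w ≤ Q ⊔ Subgroup.zpowers w) (Subgroup.mem_zpowers w)
  rw [← heq] at hw'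
  exact hw'

end Cfsg.Agent.Lib.Helper98.MixINVN
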