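import Mathlib
import Cfsg.Agent.Lib.Helper68.MixStmt
import Cfsg.Agent.Lib.Helper98.MixTool

set_option autoImplicit false

/-! S4017 piece [LEMY] (helper98). -/

namespace Cfsg.Agent.Lib.Helper98.MixLEMY

open Cfsg.Agent.Lib.Helper68.MixStmt

universe u

theorem main (h : LEMM.{u}) : LEMY.{u} := by
  intro G _ _ p a Q y hB X hXtop hQX hyX
  rcases h G p a Q y hB X hXtop hQX with h1 | h1
  · exact h1
  · exfalso
    obtain ⟨V, hVX, hVp, hVn, hcard⟩ := h1
    have hp : p.Prime := hB.hp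
    haveI : Fact p.Prime := ⟨hp⟩
    haveI : Fact (Nat.Prime 2) := ⟨Nat.prime_two⟩
    have hp2 : p ≠ 2 := Cfsg.Agent.Lib.Helper98.MixTool.p_ne_two hB
    -- `y ∈ V`
    have hyN : y ∈ Subgroup.normalizer (V : Set G) := by
      rw [Subgroup.mem_normalizer_iff]
      intro v
      constructor
      · intro hv
        exact hVn y hyX v hv
      · intro hv
        have h2 := hVn y⁻¹ (X.inv_mem hyX) _ hv
        have e : y⁻¹ * (y * v * y⁻¹) * y⁻¹⁻¹ = v := by group
        rw [e] at h2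
        exact h2
    have hYp : IsPGroup p (Subgroup.zpowers y) := by
      obtain ⟨k, hk⟩ := hB.hy
      exact IsPGroup.of_card (by rw [Nat.card_zpowers]; exact hk)
    have hle : Subgroup.zpowers y ≤ Subgroup.normalizer (V : Set G) := by
      rw [Subgroup.zpowers_le]; exact hyN
    have hH : IsPGroup p (V ⊔ Subgroup.zpowers y : Subgroup G) :=
      hVp.to_sup_of_normal_left' hYp hle
    obtain ⟨n, hn⟩ := IsPGroup.iff_card.mp hH
    obtain ⟨m, hm⟩ := IsPGroup.iff_card.mp hVp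
    have hHX : V ⊔ Subgroup.zpowers y ≤ X :=
      sup_le hVX (by rw [Subgroup.zpowers_le]; exact hyX)
    have hdvd : p ^ n ∣ 2 ^ a * p ^ m := by
      rw [← hn, ← hm, ← hcard]
      exact Subgroup.card_dvd_of_le hHX
    have hcop : Nat.Coprime (p ^ n) (2 ^ a) := by
      apply Nat.Coprime.pow
      exact (Nat.coprime_primes hp Nat.prime_two).mpr hp2
    have hdvd2 : p ^ n ∣ p ^ m := hcop.dvd_of_dvd_mul_left hdvd
    have hcardle : Nat.card (V ⊔ Subgroup.zpowers y : Subgroup G) ≤ Nat.card V := by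
      rw [hn, hm]
      exact Nat.le_of_dvd (pow_pos hp.pos m) hdvd2
    have heq : V = V ⊔ Subgroup.zpowers y := Subgroup.eq_of_le_of_card_ge le_sup_left hcardle
    have hyV : y ∈ V := by
      have hy' : y ∈ V ⊔ Subgroup.zpowers y :=
        (le_sup_right : Subgroup.zpowers y ≤ V ⊔ Subgroup.zpowers y) (Subgroup.mem_zpowers y)
      rw [← heq] at hy'
      exact hy'
    -- `y` centralizes `Q`
    have hQ2 : IsPGroup 2 Q := IsPGroup.of_card hB.hQ
    have hdisj : Disjoint Q V := IsPGroup.disjoint_of_ne 2 p (Ne.symm hp2) Q V hQ2 hVp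
    have hcomm : ∀ s ∈ Q, y * s * y⁻¹ = s := by
      intro s hs
      have h1 : y * s * y⁻¹ * s⁻¹ ∈ Q := by
        have h2 : y * s * y⁻¹ ∈ Q := (Subgroup.mem_normalizer_iff.mp hB.hyQ s).mp hs
        exact Q.mul_mem h2 (Q.inv_mem hs)
      have h3 : y * s * y⁻¹ * s⁻¹ ∈ V := by
        have h4 : s * y⁻¹ * s⁻¹ ∈ V := hVn s (hQX hs) y⁻¹ (V.inv_mem hyV)
        have e : y * s * y⁻¹ * s⁻¹ = y * (s * y⁻¹ * s⁻¹) := by group
        rw [e]
        exact V.mul_mem hyV h4
      have h5 : y * s * y⁻¹ * s⁻¹ = 1 := by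
        have h6 : y * s * y⁻¹ * s⁻¹ ∈ Q ⊓ V := ⟨h1, h3⟩
        rw [hdisj.eq_bot] at h6
        exact Subgroup.mem_bot.mp h6
      exact mul_inv_eq_one.mp h5
    obtain ⟨s, hs, hs1⟩ := Cfsg.Agent.Lib.Helper98.MixTool.exists_ne_one hB
    exact Cfsg.Agent.Lib.Helper98.MixTool.moved hB s hs hs1
      (mul_inv_eq_iff_eq_mul.mp (hcomm s hs))

end Cfsg.Agent.Lib.Helper98.MixLEMY
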