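import Mathlib
import Cfsg.Agent.Lib.Helper68.MixStmt

set_option autoImplicit false

/-! S4017 piece [TRANS] (helper98): every `n ∈ N ∖ C` is transitive on `Q#`.
The permutation `σ` induced by `n` on `Q# = Q ∖ {1}` generates a group acting freely (NCENT),
so its order divides `|Q#| = p`; it is not `1`, so there is exactly one orbit. -/

namespace Cfsg.Agent.Lib.Helper98.MixTRANS

open Cfsg.Agent.Lib.Helper68.MixStmt

universe u

theorem main (hNC : NCENT.{u}) : TRANS.{u} := by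
  intro G _ _ p a Q y hB n hn hnC s hs hs1 t ht ht1
  have hNC' := hNC G p a Q y hB
  have hp : p.Prime := hB.hp
  obtain ⟨T, hT⟩ : ∃ T : Set G, T = (Q : Set G) \ {1} := ⟨_, rfl⟩
  have hTmem : ∀ x : G, x ∈ T ↔ x ∈ Q ∧ x ≠ 1 := by
    intro x
    rw [hT, Set.mem_diff, Set.mem_singleton_iff, SetLike.mem_coe]
  have hconj : ∀ g ∈ Subgroup.normalizer (Q : Set G), ∀ x ∈ T, g * x * g⁻¹ ∈ T := by
    intro g hg x hx
    rw [hTmem] at hx ⊢
    refine ⟨(Subgroup.mem_normalizer_iff.mp hg x).mp hx.1, ?_⟩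
    intro h1
    apply hx.2
    have e : x = g⁻¹ * (g * x * g⁻¹) * g := by group
    rw [e, h1]
    group
  have hn' : n⁻¹ ∈ Subgroup.normalizer (Q : Set G) := Subgroup.inv_mem _ hn
  obtain ⟨σ, hσ⟩ : ∃ σ : Equiv.Perm ↥T, ∀ x : ↥T, (σ x : G) = n * x.1 * n⁻¹ :=
    ⟨{ toFun := fun x => ⟨n * x.1 * n⁻¹, hconj n hn x.1 x.2⟩
       invFun := fun x => ⟨n⁻¹ * x.1 * n⁻¹⁻¹, hconj n⁻¹ hn' x.1 x.2⟩
       left_inv := fun x => Subtype.ext (show n⁻¹ * (n * x.1 * n⁻¹) * n⁻¹⁻¹ = x.1 by group)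
       right_inv := fun x => Subtype.ext (show n * (n⁻¹ * x.1 * n⁻¹⁻¹) * n⁻¹ = x.1 by group) },
     fun x => rfl⟩
  have hpow : ∀ k : ℕ, ∀ x : ↥T, ((σ ^ k) x : G) = n ^ k * x.1 * (n ^ k)⁻¹ := by
    intro k
    induction k with
    | zero => intro x; simp
    | succ k ih =>
      intro x
      rw [pow_succ' σ k, Equiv.Perm.mul_apply, hσ, ih x, pow_succ' n k]
      generalize n ^ k = m
      group
  have hsemi : ∀ k : ℕ, ∀ x : ↥T, (σ ^ k) x = x → σ ^ k = 1 := by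
    intro k x hx
    have h1 : n ^ k * x.1 * (n ^ k)⁻¹ = x.1 := by rw [← hpow k x, hx]
    have h2 : n ^ k * x.1 = x.1 * n ^ k := mul_inv_eq_iff_eq_mul.mp h1
    have hxQ := (hTmem x.1).mp x.2
    have hC : n ^ k ∈ Subgroup.centralizer (Q : Set G) :=
      hNC' (n ^ k) (Subgroup.pow_mem _ hn k) x.1 hxQ.1 hxQ.2 h2
    apply Equiv.ext
    intro x'
    apply Subtype.ext
    rw [hpow k x', Equiv.Perm.one_apply]
    have hx'Q := (hTmem x'.1).mp x'.2
    have h3 : x'.1 * n ^ k = n ^ k * x'.1 := Subgroup.mem_centralizer_iff.mp hC x'.1 hx'Q.1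
    rw [← h3, mul_inv_cancel_right]
  have hσ1 : σ ≠ 1 := by
    intro h
    apply hnC
    rw [Subgroup.mem_centralizer_iff]
    intro x hx
    by_cases hx1 : x = 1
    · rw [hx1, one_mul, mul_one]
    · have h1 := hσ ⟨x, (hTmem x).mpr ⟨hx, hx1⟩⟩
      rw [h, Equiv.Perm.one_apply] at h1
      exact eq_mul_inv_iff_mul_eq.mp h1
  obtain ⟨H, hH⟩ : ∃ H : Subgroup (Equiv.Perm ↥T), H = Subgroup.zpowers σ := ⟨_, rfl⟩
  have hHpow : ∀ h ∈ H, ∃ k : ℕ, σ ^ k = h := by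
    intro h hh
    rw [hH] at hh
    exact (Submonoid.mem_powers_iff h σ).mp (mem_powers_iff_mem_zpowers.mpr hh)
  have hfree : ∀ b : ↥T, MulAction.stabilizer ↥H b = ⊥ := by
    intro b
    rw [Subgroup.eq_bot_iff_forall]
    intro h hh
    have hh' : (h : Equiv.Perm ↥T) b = b := MulAction.mem_stabilizer_iff.mp hh
    obtain ⟨k, hk⟩ := hHpow h.1 h.2
    rw [← hk] at hh'
    have h1 := hsemi k b hh'
    have h2 : (h : Equiv.Perm ↥T) = 1 := by rw [← hk]; exact h1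
    exact Subtype.ext h2
  have e := MulAction.selfEquivOrbitsQuotientProd hfree
  have hcard : Nat.card ↥T =
      Nat.card (Quotient (MulAction.orbitRel ↥H ↥T)) * Nat.card ↥H := by
    rw [Nat.card_congr e, Nat.card_prod]
  have hQn : (Q : Set G).ncard = 2 ^ a := by
    rw [← Nat.card_coe_set_eq]; exact hB.hQ
  have hTcard : Nat.card ↥T = p := by
    rw [Nat.card_coe_set_eq, hT,
      Set.ncard_sdiff_singleton_of_mem (show (1 : G) ∈ (Q : Set G) from Q.one_mem), hQn]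
    have h2 := hB.hpa
    omega
  have hHcard : Nat.card ↥H = p := by
    have hdvd : Nat.card ↥H ∣ p := by
      rw [← hTcard, hcard]; exact dvd_mul_left _ _
    rcases (Nat.dvd_prime hp).mp hdvd with h1 | h1
    · exfalso
      apply hσ1
      have hσH : σ ∈ H := by rw [hH]; exact Subgroup.mem_zpowers σ
      have hbot : H = ⊥ := Subgroup.eq_bot_of_card_eq (H := H) h1
      rw [hbot] at hσH
      exact Subgroup.mem_bot.mp hσH
    · exact h1
  have hquot : Nat.card (Quotient (MulAction.orbitRel ↥H ↥T)) = 1 := by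
    rw [hTcard, hHcard] at hcard
    have hp0 : 0 < p := hp.pos
    exact (Nat.eq_of_mul_eq_mul_right hp0 (by rw [one_mul]; exact hcard)).symm
  have hsub : Subsingleton (Quotient (MulAction.orbitRel ↥H ↥T)) :=
    (Nat.card_eq_one_iff_unique.mp hquot).1
  obtain ⟨sT, hsT⟩ : ∃ sT : ↥T, (sT : G) = s := ⟨⟨s, (hTmem s).mpr ⟨hs, hs1⟩⟩, rfl⟩
  obtain ⟨tT, htT⟩ : ∃ tT : ↥T, (tT : G) = t := ⟨⟨t, (hTmem t).mpr ⟨ht, ht1⟩⟩, rfl⟩
  have hrel : tT ∈ MulAction.orbit ↥H sT :=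
    Quotient.exact (s := MulAction.orbitRel ↥H ↥T)
      (hsub.elim (Quotient.mk _ tT) (Quotient.mk _ sT))
  obtain ⟨h, hh⟩ := MulAction.mem_orbit_iff.mp hrel
  obtain ⟨k, hk⟩ := hHpow h.1 h.2
  refine ⟨k, ?_⟩
  have h1 : (σ ^ k) sT = tT := by rw [hk]; exact hh
  have h2 := hpow k sT
  rw [h1, htT, hsT] at h2
  exact h2.symm

end Cfsg.Agent.Lib.Helper98.MixTRANS
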