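import Mathlib
import Cfsg.Agent.Lib.Helper1.PDStmt

/-!
S4020 / Q16: in `QuaternionGroup (2 ^ n)`, `n ≥ 2`, there are an abelian and a nonabelian subgroup
of order 8.
-/

set_option autoImplicit false

namespace Cfsg.Agent.Lib.Helper98.PDQ16

open Cfsg.Agent.Lib.Helper1.PDStmt QuaternionGroup

theorem main : Q16 := by
  intro n hn
  classical
  obtain ⟨m, rfl⟩ : ∃ m, n = m + 2 := ⟨n - 2, by omega⟩
  haveI : NeZero (2 ^ (m + 2)) := ⟨by positivity⟩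
  haveI : NeZero (2 * 2 ^ (m + 2)) := ⟨by positivity⟩
  have e1 : 2 ^ (m + 2) = 4 * 2 ^ m := by ring
  have hXpos : 0 < 2 ^ m := by positivity
  have hA : (4 : ℕ) • ((2 * 2 ^ m : ℕ) : ZMod (2 * 2 ^ (m + 2))) = 0 := by
    rw [nsmul_eq_mul, ← Nat.cast_mul, ZMod.natCast_eq_zero_iff]
    exact ⟨1, by ring⟩
  have hT : (4 : ℕ) • ((2 ^ (m + 2) : ℕ) : ZMod (2 * 2 ^ (m + 2))) = 0 := by
    rw [nsmul_eq_mul, ← Nat.cast_mul, ZMod.natCast_eq_zero_iff]
    exact ⟨2, by ring⟩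
  have hT2 : ((2 ^ (m + 2) : ℕ) : ZMod (2 * 2 ^ (m + 2))) +
      ((2 ^ (m + 2) : ℕ) : ZMod (2 * 2 ^ (m + 2))) = 0 := by
    rw [← Nat.cast_add, ZMod.natCast_eq_zero_iff]
    exact ⟨1, by ring⟩
  have hB : ((2 * 2 ^ m : ℕ) : ZMod (2 * 2 ^ (m + 2))) +
      ((2 * 2 ^ m : ℕ) : ZMod (2 * 2 ^ (m + 2))) ≠ 0 := by
    intro hh
    rw [← Nat.cast_add, ZMod.natCast_eq_zero_iff] at hh
    have h1 := Nat.le_of_dvd (by positivity) hh
    omega
  have hC : orderOf (a ((2 ^ m : ℕ) : ZMod (2 * 2 ^ (m + 2)))) = 8 := by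
    have hlt : 2 ^ m < 2 * 2 ^ (m + 2) := by omega
    have hdvd : 2 ^ m ∣ 2 * 2 ^ (m + 2) := ⟨8, by ring⟩
    rw [orderOf_a, ZMod.val_cast_of_lt hlt, Nat.gcd_eq_right hdvd]
    exact Nat.div_eq_of_eq_mul_left hXpos (by ring)
  obtain ⟨Q, hQ⟩ : ∃ Q : Subgroup (QuaternionGroup (2 ^ (m + 2))),
      ∀ g, g ∈ Q ↔ ∃ k : ZMod (2 * 2 ^ (m + 2)), (4 : ℕ) • k = 0 ∧ (g = a k ∨ g = xa k) :=
    ⟨{ carrier := {g | ∃ k : ZMod (2 * 2 ^ (m + 2)), (4 : ℕ) • k = 0 ∧ (g = a k ∨ g = xa k)}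
       mul_mem' := by
        rintro _ _ ⟨k, hk, rfl | rfl⟩ ⟨l, hl, rfl | rfl⟩
        · exact ⟨k + l, by rw [smul_add, hk, hl, add_zero], Or.inl (a_mul_a k l)⟩
        · exact ⟨l - k, by rw [smul_sub, hl, hk, sub_zero], Or.inr (a_mul_xa k l)⟩
        · exact ⟨k + l, by rw [smul_add, hk, hl, add_zero], Or.inr (xa_mul_a k l)⟩
        · exact ⟨((2 ^ (m + 2) : ℕ) : ZMod (2 * 2 ^ (m + 2))) + l - k,
            by rw [smul_sub, smul_add, hT, hl, hk, add_zero, sub_zero], Or.inl (xa_mul_xa k l)⟩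
       one_mem' := ⟨0, smul_zero _, Or.inl one_def⟩
       inv_mem' := by
        rintro _ ⟨k, hk, rfl | rfl⟩
        · refine ⟨-k, by rw [smul_neg, hk, neg_zero], Or.inl ?_⟩
          exact inv_eq_of_mul_eq_one_right (by rw [a_mul_a, add_neg_cancel, a_zero])
        · refine ⟨((2 ^ (m + 2) : ℕ) : ZMod (2 * 2 ^ (m + 2))) + k,
            by rw [smul_add, hT, hk, add_zero], Or.inr ?_⟩
          refine inv_eq_of_mul_eq_one_right ?_
          rw [xa_mul_xa]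
          have h0 : ((2 ^ (m + 2) : ℕ) : ZMod (2 * 2 ^ (m + 2))) +
              (((2 ^ (m + 2) : ℕ) : ZMod (2 * 2 ^ (m + 2))) + k) - k = 0 := by
            linear_combination hT2
          rw [h0, a_zero] }, fun g => Iff.rfl⟩
  have hx : a ((2 * 2 ^ m : ℕ) : ZMod (2 * 2 ^ (m + 2))) ∈ Q := (hQ _).2 ⟨_, hA, Or.inl rfl⟩
  have hy : xa (0 : ZMod (2 * 2 ^ (m + 2))) ∈ Q := (hQ _).2 ⟨0, smul_zero _, Or.inr rfl⟩
  have hne : a ((2 * 2 ^ m : ℕ) : ZMod (2 * 2 ^ (m + 2))) * xa (0 : ZMod (2 * 2 ^ (m + 2))) ≠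
      xa (0 : ZMod (2 * 2 ^ (m + 2))) * a ((2 * 2 ^ m : ℕ) : ZMod (2 * 2 ^ (m + 2))) := by
    rw [a_mul_xa, xa_mul_a]
    intro heq
    injection heq with h1
    exact hB (by linear_combination -h1)
  -- upper bound
  have hle : Nat.card Q ≤ 8 := by
    let K : Finset (ZMod (2 * 2 ^ (m + 2))) := Finset.univ.filter (fun k => (4 : ℕ) • k = 0)
    have hK : K.card ≤ 4 :=
      IsAddCyclic.card_nsmul_eq_zero_le (α := ZMod (2 * 2 ^ (m + 2))) (n := 4) (by norm_num)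
    have hS : (K.image a ∪ K.image xa).card ≤ 8 := by
      have h1 := Finset.card_union_le (K.image a) (K.image xa)
      have h2 := Finset.card_image_le (s := K) (f := (a : ZMod (2 * 2 ^ (m + 2)) → _))
      have h3 := Finset.card_image_le (s := K) (f := (xa : ZMod (2 * 2 ^ (m + 2)) → _))
      omega
    have hsub : (Q : Set (QuaternionGroup (2 ^ (m + 2)))) ⊆
        ((K.image a ∪ K.image xa : Finset (QuaternionGroup (2 ^ (m + 2)))) : Set _) := by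
      intro g hg
      obtain ⟨k, hk, rfl | rfl⟩ := (hQ g).1 hg
      · exact Finset.mem_coe.2 (Finset.mem_union_left _ (Finset.mem_image.2
          ⟨k, Finset.mem_filter.2 ⟨Finset.mem_univ _, hk⟩, rfl⟩))
      · exact Finset.mem_coe.2 (Finset.mem_union_right _ (Finset.mem_image.2
          ⟨k, Finset.mem_filter.2 ⟨Finset.mem_univ _, hk⟩, rfl⟩))
    have h2 := Set.ncard_le_ncard hsub (Finset.finite_toSet _)
    rw [Set.ncard_coe_finset] at h2
    have h3 : Nat.card Q = (Q : Set (QuaternionGroup (2 ^ (m + 2)))).ncard :=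
      Nat.card_coe_set_eq (Q : Set (QuaternionGroup (2 ^ (m + 2))))
    omega
  -- lower bound
  have hcz : Nat.card (Subgroup.zpowers (xa (0 : ZMod (2 * 2 ^ (m + 2))))) = 4 := by
    rw [Nat.card_zpowers, orderOf_xa]
  have hgt : 4 < Nat.card Q := by
    by_contra hlt
    have hzy : Subgroup.zpowers (xa (0 : ZMod (2 * 2 ^ (m + 2)))) ≤ Q :=
      (Subgroup.zpowers_le).2 hy
    have heq := Subgroup.eq_of_le_of_card_ge hzy (by rw [hcz]; omega)
    have hxz : a ((2 * 2 ^ m : ℕ) : ZMod (2 * 2 ^ (m + 2))) ∈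
        Subgroup.zpowers (xa (0 : ZMod (2 * 2 ^ (m + 2)))) := by rw [heq]; exact hx
    obtain ⟨i, hi⟩ := (Subgroup.mem_zpowers_iff).1 hxz
    exact hne (by rw [← hi]; exact ((Commute.refl _).zpow_left i).eq)
  have hG : Nat.card (QuaternionGroup (2 ^ (m + 2))) = 2 ^ (m + 4) := by
    rw [Nat.card_eq_fintype_card, QuaternionGroup.card]
    ring
  have hdiv : Nat.card Q ∣ 2 ^ (m + 4) := hG ▸ Subgroup.card_subgroup_dvd_card Q
  obtain ⟨j, -, hj⟩ := (Nat.dvd_prime_pow Nat.prime_two).1 hdiv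
  have hj3 : j = 3 := by
    rcases Nat.lt_or_ge j 3 with h | h
    · have h1 : 2 ^ j ≤ 2 ^ 2 := Nat.pow_le_pow_right (by norm_num) (by omega)
      norm_num at h1
      omega
    · rcases Nat.lt_or_ge 3 j with h' | h'
      · have h1 : 2 ^ 4 ≤ 2 ^ j := Nat.pow_le_pow_right (by norm_num) (by omega)
        norm_num at h1
        omega
      · omega
  refine ⟨Subgroup.zpowers (a ((2 ^ m : ℕ) : ZMod (2 * 2 ^ (m + 2)))), Q, ?_, ?_, ?_,
    _, hx, _, hy, hne⟩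
  · rw [Nat.card_zpowers, hC]
  · rw [hj, hj3]
    norm_num
  · intro u hu v hv
    obtain ⟨i, rfl⟩ := (Subgroup.mem_zpowers_iff).1 hu
    obtain ⟨l, rfl⟩ := (Subgroup.mem_zpowers_iff).1 hv
    exact ((Commute.refl _).zpow_zpow i l).eq

end Cfsg.Agent.Lib.Helper98.PDQ16
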