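import Mathlib
import Cfsg.Agent.Lib.Helper56.PEStmt
import Cfsg.Agent.Lib.Helper74.PECyc

/-!
S2276, piece K45 (second seat, helper98): `p = 3`, a full cycle `c` against a 3-cycle plus
anything that leaves three more points free.  Shared lemmas for K5F are at the top.
-/

set_option autoImplicit false

namespace Cfsg.Agent.Lib.Helper98.PEK45

open Equiv Equiv.Perm Cfsg.Agent.Lib.Helper56 Cfsg.Agent.Lib.Helper74.PECyc

variable {β : Type} [DecidableEq β] [Fintype β]

/-- the 3-cycle `a ↦ b ↦ c ↦ a` -/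
def cyc3 (a b c : β) : Perm β := swap a b * swap b c

theorem cyc3_a {a b c : β} (hab : a ≠ b) (hac : a ≠ c) : cyc3 a b c a = b := by
  unfold cyc3
  rw [Perm.mul_apply, swap_apply_of_ne_of_ne hab hac, swap_apply_left]

theorem cyc3_b {a b c : β} (hac : a ≠ c) (hbc : b ≠ c) : cyc3 a b c b = c := by
  unfold cyc3
  rw [Perm.mul_apply, swap_apply_left, swap_apply_of_ne_of_ne (Ne.symm hac) (Ne.symm hbc)]

theorem cyc3_c {a b c : β} : cyc3 a b c c = a := by
  unfold cyc3
  rw [Perm.mul_apply, swap_apply_right, swap_apply_right]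

theorem cyc3_o {a b c y : β} (ha : y ≠ a) (hb : y ≠ b) (hc : y ≠ c) : cyc3 a b c y = y := by
  unfold cyc3
  rw [Perm.mul_apply, swap_apply_of_ne_of_ne hb hc, swap_apply_of_ne_of_ne ha hb]

theorem cyc3_type {a b c : β} (hab : a ≠ b) (hac : a ≠ c) (hbc : b ≠ c) :
    (cyc3 a b c).cycleType = {3} := by
  unfold cyc3
  rw [swap_comm a b]
  exact isThreeCycle_swap_mul_swap_same (Ne.symm hab) hbc hac

/-- a permutation of prescribed cycle type fixing a given finite set pointwise -/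
theorem exists_rho (s : Finset β) (μ : Multiset ℕ) (h2 : ∀ a ∈ μ, 2 ≤ a)
    (hsum : s.card + μ.sum ≤ Fintype.card β) :
    ∃ ρ : Perm β, ρ.cycleType = μ ∧ ∀ y ∈ s, ρ y = y := by
  have hcard : Fintype.card {y // ¬ (y ∈ s)} = Fintype.card β - s.card := by
    rw [Fintype.card_subtype_compl, Fintype.card_coe]
  obtain ⟨ρ', hρ'⟩ := (Equiv.Perm.exists_with_cycleType_iff {y // ¬ (y ∈ s)}).mpr
    ⟨by omega, h2⟩
  refine ⟨ofSubtype ρ', ?_, ?_⟩
  · rw [cycleType_ofSubtype]; exact hρ'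
  · intro y hy
    exact ofSubtype_apply_of_not_mem ρ' (fun h => h hy)

/-- the fixed-point counts of `c * tA` and `c * tB` differ by one -/
theorem card_fix_succ (c tA tB : Perm β) (z : β) (hzB : c (tB z) = z) (hzA : c (tA z) ≠ z)
    (hoth : ∀ y, y ≠ z → (c (tA y) = y ↔ c (tB y) = y)) :
    (Finset.univ.filter (fun y => (c * tB) y = y)).card
      = (Finset.univ.filter (fun y => (c * tA) y = y)).card + 1 := by
  have h1 : Finset.univ.filter (fun y => (c * tB) y = y)
      = insert z (Finset.univ.filter (fun y => (c * tA) y = y)) := by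
    ext y
    rw [Finset.mem_insert, Finset.mem_filter, Finset.mem_filter]
    simp only [Finset.mem_univ, true_and]
    show c (tB y) = y ↔ y = z ∨ c (tA y) = y
    by_cases hy : y = z
    · rw [hy]; exact ⟨fun _ => Or.inl rfl, fun _ => hzB⟩
    · rw [hoth y hy]
      constructor
      · intro h; exact Or.inr h
      · rintro (h | h)
        · exact absurd h hy
        · exact h
  rw [h1, Finset.card_insert_of_notMem]
  rw [Finset.mem_filter]
  intro h
  exact hzA h.2

theorem not_both (hFix : PEStmt.FixCert) (c tA tB : Perm β) (h3 : 3 ∣ Fintype.card β)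
    (hcard : (Finset.univ.filter (fun y => (c * tB) y = y)).card
      = (Finset.univ.filter (fun y => (c * tA) y = y)).card + 1)
    (hA : ∃ k : ℕ, orderOf (c * tA) = 3 ^ k) (hB : ∃ k : ℕ, orderOf (c * tB) = 3 ^ k) :
    False := by
  have h1 := hFix 3 Nat.prime_three (c * tA) hA
  have h2 := hFix 3 Nat.prime_three (c * tB) hB
  rw [hcard] at h2
  unfold Nat.ModEq at h1 h2
  omega

/-- the points of a full cycle -/
theorem exists_pts (hCyc : PEStmt.CycPts) (c : Perm β) (hc : c.IsCycle)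
    (hsupp : c.support = Finset.univ) (hpos : 0 < Fintype.card β) :
    ∃ x : ℕ → β, (∀ i, c (x i) = x (i + 1)) ∧
      (∀ i j, i < Fintype.card β → j < Fintype.card β → x i = x j → i = j) ∧
      (∀ i, x (i + Fintype.card β) = x i) ∧ (∀ y, ∃ i, i < Fintype.card β ∧ x i = y) ∧
      (∀ k i, (c ^ k) (x i) = x (i + k)) := by
  obtain ⟨hpow, hinj, hsurj⟩ := hCyc c hc hsupp
  have hF : Full c := ⟨hpow, hinj, hsurj⟩
  obtain ⟨x₀⟩ : Nonempty β := Fintype.card_pos_iff.mp hpos
  refine ⟨pt c x₀, fun i => (pt_succ c x₀ i).symm, fun i j hi hj h => hinj x₀ i j hi hj h,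
    fun i => hF.pt_add_card x₀ i, fun y => hsurj x₀ y, fun k i => ?_⟩
  rw [add_comm i k, pt_add]

theorem fin6_all {P : Fin 6 → Prop} (h0 : P 0) (h1 : P 1) (h2 : P 2) (h3 : P 3) (h4 : P 4)
    (h5 : P 5) : ∀ b, P b := by
  intro b
  fin_cases b
  · exact h0
  · exact h1
  · exact h2
  · exact h3
  · exact h4
  · exact h5

/-- the six points `x₀, x_m, x_{2m}, x₁, x_{m+1}, x_{2m+1}` as an injective map from `Fin 6`,
on which `c ^ m` acts as `f6` -/
theorem exists_iota (c : Perm β) (x : ℕ → β) (R m : ℕ) (hm : R = 3 * m) (hm2 : 2 ≤ m)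
    (hx_inj : ∀ i j, i < R → j < R → x i = x j → i = j)
    (hx_per : ∀ i, x (i + R) = x i) (hx_pow : ∀ k i, (c ^ k) (x i) = x (i + k)) :
    ∃ ι : Fin 6 → β, Function.Injective ι ∧ ι 0 = x 0 ∧ ι 1 = x m ∧ ι 2 = x (2 * m) ∧
      ι 3 = x 1 ∧ ι 4 = x (m + 1) ∧ ι 5 = x (2 * m + 1) ∧
      ∀ b, (c ^ m) (ι b) = ι (PEStmt.f6 b) := by
  have hxe : ∀ i j : ℕ, i = j → x i = x j := fun i j h => by rw [h]
  refine ⟨![x 0, x m, x (2 * m), x 1, x (m + 1), x (2 * m + 1)], ?_, rfl, rfl, rfl, rfl, rfl,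
    rfl, ?_⟩
  · rw [← List.nodup_ofFn]
    have e : List.ofFn ![x 0, x m, x (2 * m), x 1, x (m + 1), x (2 * m + 1)]
        = List.map x [0, m, 2 * m, 1, m + 1, 2 * m + 1] := rfl
    rw [e]
    apply List.Nodup.map_on
    · intro a ha b hb hab
      simp only [List.mem_cons, List.mem_nil_iff, or_false] at ha hb
      exact hx_inj a b (by omega) (by omega) hab
    · simp only [List.nodup_cons, List.mem_cons, List.mem_nil_iff, or_false, not_or,
        List.not_mem_nil, not_false_eq_true, List.nodup_nil, and_true]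
      omega
  · have e0 : PEStmt.f6 0 = 1 := by decide
    have e1 : PEStmt.f6 1 = 2 := by decide
    have e2 : PEStmt.f6 2 = 0 := by decide
    have e3 : PEStmt.f6 3 = 4 := by decide
    have e4 : PEStmt.f6 4 = 5 := by decide
    have e5 : PEStmt.f6 5 = 3 := by decide
    refine fin6_all ?_ ?_ ?_ ?_ ?_ ?_
    · rw [e0]
      show (c ^ m) (x 0) = x m
      rw [hx_pow]; exact hxe _ _ (by omega)
    · rw [e1]
      show (c ^ m) (x m) = x (2 * m)
      rw [hx_pow]; exact hxe _ _ (by omega)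
    · rw [e2]
      show (c ^ m) (x (2 * m)) = x 0
      rw [hx_pow, ← hx_per 0]; exact hxe _ _ (by omega)
    · rw [e3]
      show (c ^ m) (x 1) = x (m + 1)
      rw [hx_pow]; exact hxe _ _ (by omega)
    · rw [e4]
      show (c ^ m) (x (m + 1)) = x (2 * m + 1)
      rw [hx_pow]; exact hxe _ _ (by omega)
    · rw [e5]
      show (c ^ m) (x (2 * m + 1)) = x 1
      rw [hx_pow, ← hx_per 1]; exact hxe _ _ (by omega)

theorem main (hCyc : PEStmt.CycPts) (hFix : PEStmt.FixCert) (hRNS : PEStmt.RNS)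
    (hNS6 : PEStmt.NS6) : PEStmt.K45 := by
  intro β _ _ c hc hsupp h3 h9 μ' hμ2 hμsum
  obtain ⟨x, hx_succ, hx_inj, hx_per, hx_surj, hx_pow⟩ := exists_pts hCyc c hc hsupp (by omega)
  obtain ⟨R, hRdef⟩ : ∃ R, R = Fintype.card β := ⟨_, rfl⟩
  have h3' := h3
  rw [← hRdef] at h3' h9 hμsum hx_inj hx_per hx_surj
  obtain ⟨m, hm⟩ := h3'
  have hne : ∀ {i j : ℕ}, i < R → j < R → i ≠ j → x i ≠ x j :=
    fun hi hj hij e => hij (hx_inj _ _ hi hj e)
  obtain ⟨ι, hιinj, hι0, hι1, hι2, hι3, hι4, hι5, hcm⟩ :=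
    exists_iota c x R m hm (by omega) hx_inj hx_per hx_pow
  obtain ⟨hnsa, hnsa', -, -⟩ := hNS6
  -- the rest `ρ`
  obtain ⟨ρ, hρtype, hρfix⟩ := exists_rho (Finset.image ι Finset.univ) μ' hμ2 (by
    rw [Finset.card_image_of_injective _ hιinj, Finset.card_univ, Fintype.card_fin]; omega)
  have hρι : ∀ b, ρ (ι b) = ι b := fun b => hρfix _ (Finset.mem_image_of_mem ι (Finset.mem_univ b))
  have hρ0 : ρ (x 0) = x 0 := by rw [← hι0]; exact hρι 0
  have hρ1 : ρ (x 1) = x 1 := by rw [← hι3]; exact hρι 3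
  have hρm : ρ (x m) = x m := by rw [← hι1]; exact hρι 1
  have h01 : x 0 ≠ x 1 := hne (by omega) (by omega) (by omega)
  have h0m : x 0 ≠ x m := hne (by omega) (by omega) (by omega)
  have h1m : x 1 ≠ x m := hne (by omega) (by omega) (by omega)
  -- the two 3-cycles
  have hA0 : cyc3 (x 0) (x 1) (x m) (x 0) = x 1 := cyc3_a h01 h0m
  have hA1 : cyc3 (x 0) (x 1) (x m) (x 1) = x m := cyc3_b h0m h1m
  have hAm : cyc3 (x 0) (x 1) (x m) (x m) = x 0 := cyc3_c
  have hB0 : cyc3 (x 0) (x m) (x 1) (x 0) = x m := cyc3_a h0m h01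
  have hBm : cyc3 (x 0) (x m) (x 1) (x m) = x 1 := cyc3_b h01 (Ne.symm h1m)
  have hB1 : cyc3 (x 0) (x m) (x 1) (x 1) = x 0 := cyc3_c
  have hAo : ∀ y, y ≠ x 0 → y ≠ x 1 → y ≠ x m → cyc3 (x 0) (x 1) (x m) y = y :=
    fun y a b d => cyc3_o a b d
  have hBo : ∀ y, y ≠ x 0 → y ≠ x 1 → y ≠ x m → cyc3 (x 0) (x m) (x 1) y = y :=
    fun y a b d => cyc3_o a d b
  -- cycle types
  have typeA : (cyc3 (x 0) (x 1) (x m) * ρ).cycleType = 3 ::ₘ μ' := by
    have hd : Perm.Disjoint (cyc3 (x 0) (x 1) (x m)) ρ := by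
      intro y
      by_cases e0 : y = x 0
      · right; rw [e0]; exact hρ0
      by_cases e1 : y = x 1
      · right; rw [e1]; exact hρ1
      by_cases e2 : y = x m
      · right; rw [e2]; exact hρm
      left; exact hAo y e0 e1 e2
    rw [hd.cycleType_mul, cyc3_type h01 h0m h1m, hρtype, Multiset.singleton_add]
  have typeB : (cyc3 (x 0) (x m) (x 1) * ρ).cycleType = 3 ::ₘ μ' := by
    have hd : Perm.Disjoint (cyc3 (x 0) (x m) (x 1)) ρ := by
      intro y
      by_cases e0 : y = x 0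
      · right; rw [e0]; exact hρ0
      by_cases e1 : y = x 1
      · right; rw [e1]; exact hρ1
      by_cases e2 : y = x m
      · right; rw [e2]; exact hρm
      left; exact hBo y e0 e1 e2
    rw [hd.cycleType_mul, cyc3_type h0m h01 (Ne.symm h1m), hρtype, Multiset.singleton_add]
  -- restriction to the six points
  have resA : ∀ b, (cyc3 (x 0) (x 1) (x m) * ρ) (ι b)
      = ι ((swap 0 3 * swap 3 1 : Perm (Fin 6)) b) := by
    have e0 : (swap 0 3 * swap 3 1 : Perm (Fin 6)) 0 = 3 := by decide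
    have e1 : (swap 0 3 * swap 3 1 : Perm (Fin 6)) 1 = 0 := by decide
    have e2 : (swap 0 3 * swap 3 1 : Perm (Fin 6)) 2 = 2 := by decide
    have e3 : (swap 0 3 * swap 3 1 : Perm (Fin 6)) 3 = 1 := by decide
    have e4 : (swap 0 3 * swap 3 1 : Perm (Fin 6)) 4 = 4 := by decide
    have e5 : (swap 0 3 * swap 3 1 : Perm (Fin 6)) 5 = 5 := by decide
    have hr : ∀ b, (cyc3 (x 0) (x 1) (x m) * ρ) (ι b) = cyc3 (x 0) (x 1) (x m) (ι b) := by
      intro b; rw [Perm.mul_apply, hρι]
    intro b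
    rw [hr]
    revert b
    refine fin6_all ?_ ?_ ?_ ?_ ?_ ?_
    · rw [e0, hι0, hι3]; exact hA0
    · rw [e1, hι1, hι0]; exact hAm
    · rw [e2, hι2]
      exact hAo _ (hne (by omega) (by omega) (by omega)) (hne (by omega) (by omega) (by omega))
        (hne (by omega) (by omega) (by omega))
    · rw [e3, hι3, hι1]; exact hA1
    · rw [e4, hι4]
      exact hAo _ (hne (by omega) (by omega) (by omega)) (hne (by omega) (by omega) (by omega))
        (hne (by omega) (by omega) (by omega))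
    · rw [e5, hι5]
      exact hAo _ (hne (by omega) (by omega) (by omega)) (hne (by omega) (by omega) (by omega))
        (hne (by omega) (by omega) (by omega))
  have resB : ∀ b, (cyc3 (x 0) (x m) (x 1) * ρ) (ι b)
      = ι ((swap 1 3 * swap 3 0 : Perm (Fin 6)) b) := by
    have e0 : (swap 1 3 * swap 3 0 : Perm (Fin 6)) 0 = 1 := by decide
    have e1 : (swap 1 3 * swap 3 0 : Perm (Fin 6)) 1 = 3 := by decide
    have e2 : (swap 1 3 * swap 3 0 : Perm (Fin 6)) 2 = 2 := by decide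
    have e3 : (swap 1 3 * swap 3 0 : Perm (Fin 6)) 3 = 0 := by decide
    have e4 : (swap 1 3 * swap 3 0 : Perm (Fin 6)) 4 = 4 := by decide
    have e5 : (swap 1 3 * swap 3 0 : Perm (Fin 6)) 5 = 5 := by decide
    have hr : ∀ b, (cyc3 (x 0) (x m) (x 1) * ρ) (ι b) = cyc3 (x 0) (x m) (x 1) (ι b) := by
      intro b; rw [Perm.mul_apply, hρι]
    intro b
    rw [hr]
    revert b
    refine fin6_all ?_ ?_ ?_ ?_ ?_ ?_
    · rw [e0, hι0, hι1]; exact hB0
    · rw [e1, hι1, hι3]; exact hBm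
    · rw [e2, hι2]
      exact hBo _ (hne (by omega) (by omega) (by omega)) (hne (by omega) (by omega) (by omega))
        (hne (by omega) (by omega) (by omega))
    · rw [e3, hι3, hι0]; exact hB1
    · rw [e4, hι4]
      exact hBo _ (hne (by omega) (by omega) (by omega)) (hne (by omega) (by omega) (by omega))
        (hne (by omega) (by omega) (by omega))
    · rw [e5, hι5]
      exact hBo _ (hne (by omega) (by omega) (by omega)) (hne (by omega) (by omega) (by omega))
        (hne (by omega) (by omega) (by omega))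
  -- non-solvability
  have nsA : ¬ Group.IsSolvable ↥(Subgroup.closure
      ({c, cyc3 (x 0) (x 1) (x m) * ρ} : Set (Perm β))) :=
    hRNS ι hιinj PEStmt.f6 (swap 0 3 * swap 3 1) (c ^ m) (cyc3 (x 0) (x 1) (x m) * ρ) hcm resA
      hnsa _ (Subgroup.pow_mem _ (Subgroup.subset_closure (by simp)) m)
      (Subgroup.subset_closure (by simp))
  have nsB : ¬ Group.IsSolvable ↥(Subgroup.closure
      ({c, cyc3 (x 0) (x m) (x 1) * ρ} : Set (Perm β))) :=
    hRNS ι hιinj PEStmt.f6 (swap 1 3 * swap 3 0) (c ^ m) (cyc3 (x 0) (x m) (x 1) * ρ) hcm resB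
      hnsa' _ (Subgroup.pow_mem _ (Subgroup.subset_closure (by simp)) m)
      (Subgroup.subset_closure (by simp))
  -- fixed points
  have hcard := card_fix_succ c (cyc3 (x 0) (x 1) (x m) * ρ) (cyc3 (x 0) (x m) (x 1) * ρ) (x 1)
    (by rw [Perm.mul_apply, hρ1, hB1, hx_succ])
    (by
      rw [Perm.mul_apply, hρ1, hA1, hx_succ]
      exact hne (by omega) (by omega) (by omega))
    (by
      intro y hy
      rw [Perm.mul_apply, Perm.mul_apply]
      by_cases e0 : y = x 0
      · rw [e0, hρ0, hA0, hB0, hx_succ, hx_succ]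
        constructor
        · intro h; exact absurd h (hne (by omega) (by omega) (by omega))
        · intro h; exact absurd h (hne (by omega) (by omega) (by omega))
      by_cases e2 : y = x m
      · rw [e2, hρm, hAm, hBm, hx_succ, hx_succ]
        constructor
        · intro h; exact absurd h (hne (by omega) (by omega) (by omega))
        · intro h; exact absurd h (hne (by omega) (by omega) (by omega))
      have r0 : ρ y ≠ x 0 := fun e => e0 (ρ.injective (e.trans hρ0.symm))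
      have r1 : ρ y ≠ x 1 := fun e => hy (ρ.injective (e.trans hρ1.symm))
      have r2 : ρ y ≠ x m := fun e => e2 (ρ.injective (e.trans hρm.symm))
      rw [hAo _ r0 r1 r2, hBo _ r0 r1 r2])
  by_cases hA : ∃ k : ℕ, orderOf (c * (cyc3 (x 0) (x 1) (x m) * ρ)) = 3 ^ k
  · refine ⟨cyc3 (x 0) (x m) (x 1) * ρ, typeB, ?_⟩
    exact And.intro (fun hB => not_both hFix c _ _ h3 hcard hA hB) nsB
  · exact ⟨cyc3 (x 0) (x 1) (x m) * ρ, typeA, And.intro hA nsA⟩

end Cfsg.Agent.Lib.Helper98.PEK45
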