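import Mathlib
import Cfsg.Agent.Lib.Helper56.PEStmt
import Cfsg.Agent.Lib.Helper74.PECyc
import Cfsg.Agent.Lib.Helper98.PEK45

/-!
S2276, piece K5F (second seat, helper98): `p = 3`, `R ≥ 27`, a full cycle `c` against three
3-cycles plus anything.
-/

set_option autoImplicit false

namespace Cfsg.Agent.Lib.Helper98.PEK5F

open Equiv Equiv.Perm Cfsg.Agent.Lib.Helper56 Cfsg.Agent.Lib.Helper74.PECyc
  Cfsg.Agent.Lib.Helper98.PEK45

variable {β : Type} [DecidableEq β] [Fintype β]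

theorem cyc3_disj {a b c : β} (σ : Perm β) (ha : σ a = a) (hb : σ b = b) (hc : σ c = c) :
    Perm.Disjoint (cyc3 a b c) σ := by
  intro y
  by_cases e0 : y = a
  · right; rw [e0]; exact ha
  by_cases e1 : y = b
  · right; rw [e1]; exact hb
  by_cases e2 : y = c
  · right; rw [e2]; exact hc
  left; exact cyc3_o e0 e1 e2

theorem main (hCyc : PEStmt.CycPts) (hFix : PEStmt.FixCert) (hRNS : PEStmt.RNS)
    (hNS6 : PEStmt.NS6) : PEStmt.K5F := by
  intro β _ _ c hc hsupp h3 h27 μ' hμ2 hμsum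
  obtain ⟨x, hx_succ, hx_inj, hx_per, hx_surj, hx_pow⟩ := exists_pts hCyc c hc hsupp (by omega)
  obtain ⟨R, hRdef⟩ : ∃ R, R = Fintype.card β := ⟨_, rfl⟩
  have h3' := h3
  rw [← hRdef] at h3' h27 hμsum hx_inj hx_per hx_surj
  obtain ⟨m, hm⟩ := h3'
  have hne : ∀ {i j : ℕ}, i < R → j < R → i ≠ j → x i ≠ x j :=
    fun hi hj hij e => hij (hx_inj _ _ hi hj e)
  obtain ⟨ι, hιinj, hι0, hι1, hι2, hι3, hι4, hι5, hcm⟩ :=
    exists_iota c x R m hm (by omega) hx_inj hx_per hx_pow
  obtain ⟨-, -, hnsb, -⟩ := hNS6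
  -- the rest `ρ`
  obtain ⟨ρ, hρtype, hρfix⟩ := exists_rho (Finset.image ι Finset.univ ∪ {x 3, x 4, x 6}) μ' hμ2
    (by
      have h1 : (Finset.image ι Finset.univ ∪ {x 3, x 4, x 6}).card ≤ 6 + 3 := by
        refine (Finset.card_union_le _ _).trans (Nat.add_le_add ?_ Finset.card_le_three)
        rw [Finset.card_image_of_injective _ hιinj, Finset.card_univ, Fintype.card_fin]
      omega)
  have hρι : ∀ b, ρ (ι b) = ι b := fun b =>
    hρfix _ (Finset.mem_union_left _ (Finset.mem_image_of_mem ι (Finset.mem_univ b)))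
  have hρ3 : ρ (x 3) = x 3 := hρfix _ (Finset.mem_union_right _ (by simp))
  have hρ4 : ρ (x 4) = x 4 := hρfix _ (Finset.mem_union_right _ (by simp))
  have hρ6 : ρ (x 6) = x 6 := hρfix _ (Finset.mem_union_right _ (by simp))
  have hρ0 : ρ (x 0) = x 0 := by rw [← hι0]; exact hρι 0
  have hρm : ρ (x m) = x m := by rw [← hι1]; exact hρι 1
  have hρ2m : ρ (x (2 * m)) = x (2 * m) := by rw [← hι2]; exact hρι 2
  have hρ1 : ρ (x 1) = x 1 := by rw [← hι3]; exact hρι 3
  have hρm1 : ρ (x (m + 1)) = x (m + 1) := by rw [← hι4]; exact hρι 4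
  have hρ2m1 : ρ (x (2 * m + 1)) = x (2 * m + 1) := by rw [← hι5]; exact hρι 5
  -- the 3-cycles
  obtain ⟨h₁, hh₁⟩ : ∃ h : Perm β, h = cyc3 (x 0) (x m) (x 1) := ⟨_, rfl⟩
  obtain ⟨h₂, hh₂⟩ : ∃ h : Perm β, h = cyc3 (x (2 * m)) (x (2 * m + 1)) (x (m + 1)) := ⟨_, rfl⟩
  obtain ⟨t₂, ht₂⟩ : ∃ h : Perm β, h = cyc3 (x 3) (x 4) (x 6) := ⟨_, rfl⟩
  obtain ⟨t₂', ht₂'⟩ : ∃ h : Perm β, h = cyc3 (x 3) (x 6) (x 4) := ⟨_, rfl⟩
  have h1_0 : h₁ (x 0) = x m := by
    rw [hh₁]
    exact cyc3_a (hne (by omega) (by omega) (by omega)) (hne (by omega) (by omega) (by omega))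
  have h1_m : h₁ (x m) = x 1 := by
    rw [hh₁]
    exact cyc3_b (hne (by omega) (by omega) (by omega)) (hne (by omega) (by omega) (by omega))
  have h1_1 : h₁ (x 1) = x 0 := by rw [hh₁]; exact cyc3_c
  have h1_o : ∀ i, i < R → i ≠ 0 → i ≠ m → i ≠ 1 → h₁ (x i) = x i := by
    intro i hi a b d
    rw [hh₁]
    exact cyc3_o (hne hi (by omega) a) (hne hi (by omega) b) (hne hi (by omega) d)
  have h2_a : h₂ (x (2 * m)) = x (2 * m + 1) := by
    rw [hh₂]
    exact cyc3_a (hne (by omega) (by omega) (by omega)) (hne (by omega) (by omega) (by omega))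
  have h2_b : h₂ (x (2 * m + 1)) = x (m + 1) := by
    rw [hh₂]
    exact cyc3_b (hne (by omega) (by omega) (by omega)) (hne (by omega) (by omega) (by omega))
  have h2_c : h₂ (x (m + 1)) = x (2 * m) := by rw [hh₂]; exact cyc3_c
  have h2_o : ∀ i, i < R → i ≠ 2 * m → i ≠ 2 * m + 1 → i ≠ m + 1 → h₂ (x i) = x i := by
    intro i hi a b d
    rw [hh₂]
    exact cyc3_o (hne hi (by omega) a) (hne hi (by omega) b) (hne hi (by omega) d)
  have t_3 : t₂ (x 3) = x 4 := by
    rw [ht₂]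
    exact cyc3_a (hne (by omega) (by omega) (by omega)) (hne (by omega) (by omega) (by omega))
  have t_4 : t₂ (x 4) = x 6 := by
    rw [ht₂]
    exact cyc3_b (hne (by omega) (by omega) (by omega)) (hne (by omega) (by omega) (by omega))
  have t_6 : t₂ (x 6) = x 3 := by rw [ht₂]; exact cyc3_c
  have t_o : ∀ i, i < R → i ≠ 3 → i ≠ 4 → i ≠ 6 → t₂ (x i) = x i := by
    intro i hi a b d
    rw [ht₂]
    exact cyc3_o (hne hi (by omega) a) (hne hi (by omega) b) (hne hi (by omega) d)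
  have t'_3 : t₂' (x 3) = x 6 := by
    rw [ht₂']
    exact cyc3_a (hne (by omega) (by omega) (by omega)) (hne (by omega) (by omega) (by omega))
  have t'_6 : t₂' (x 6) = x 4 := by
    rw [ht₂']
    exact cyc3_b (hne (by omega) (by omega) (by omega)) (hne (by omega) (by omega) (by omega))
  have t'_4 : t₂' (x 4) = x 3 := by rw [ht₂']; exact cyc3_c
  have t'_o : ∀ i, i < R → i ≠ 3 → i ≠ 4 → i ≠ 6 → t₂' (x i) = x i := by
    intro i hi a b d
    rw [ht₂']
    exact cyc3_o (hne hi (by omega) a) (hne hi (by omega) d) (hne hi (by omega) b)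
  have hH : ∀ i, i < R → i ≠ 0 → i ≠ m → i ≠ 1 → i ≠ 2 * m → i ≠ 2 * m + 1 → i ≠ m + 1 →
      h₁ (h₂ (x i)) = x i := by
    intro i hi a b d e f g
    rw [h2_o i hi e f g, h1_o i hi a b d]
  have hH3 : h₁ (h₂ (x 3)) = x 3 :=
    hH 3 (by omega) (by omega) (by omega) (by omega) (by omega) (by omega) (by omega)
  have hH4 : h₁ (h₂ (x 4)) = x 4 :=
    hH 4 (by omega) (by omega) (by omega) (by omega) (by omega) (by omega) (by omega)
  have hH6 : h₁ (h₂ (x 6)) = x 6 :=
    hH 6 (by omega) (by omega) (by omega) (by omega) (by omega) (by omega) (by omega)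
  -- cycle types
  have ty1 : h₁.cycleType = {3} := by
    rw [hh₁]
    exact cyc3_type (hne (by omega) (by omega) (by omega)) (hne (by omega) (by omega) (by omega))
      (hne (by omega) (by omega) (by omega))
  have ty2 : h₂.cycleType = {3} := by
    rw [hh₂]
    exact cyc3_type (hne (by omega) (by omega) (by omega)) (hne (by omega) (by omega) (by omega))
      (hne (by omega) (by omega) (by omega))
  have tyt : t₂.cycleType = {3} := by
    rw [ht₂]
    exact cyc3_type (hne (by omega) (by omega) (by omega)) (hne (by omega) (by omega) (by omega))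
      (hne (by omega) (by omega) (by omega))
  have tyt' : t₂'.cycleType = {3} := by
    rw [ht₂']
    exact cyc3_type (hne (by omega) (by omega) (by omega)) (hne (by omega) (by omega) (by omega))
      (hne (by omega) (by omega) (by omega))
  have d12 : Perm.Disjoint h₁ h₂ := by
    rw [hh₁]
    exact cyc3_disj h₂ (h2_o 0 (by omega) (by omega) (by omega) (by omega))
      (h2_o m (by omega) (by omega) (by omega) (by omega))
      (h2_o 1 (by omega) (by omega) (by omega) (by omega))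
  have d1t : Perm.Disjoint h₁ t₂ := by
    rw [hh₁]
    exact cyc3_disj t₂ (t_o 0 (by omega) (by omega) (by omega) (by omega))
      (t_o m (by omega) (by omega) (by omega) (by omega))
      (t_o 1 (by omega) (by omega) (by omega) (by omega))
  have d2t : Perm.Disjoint h₂ t₂ := by
    rw [hh₂]
    exact cyc3_disj t₂ (t_o (2 * m) (by omega) (by omega) (by omega) (by omega))
      (t_o (2 * m + 1) (by omega) (by omega) (by omega) (by omega))
      (t_o (m + 1) (by omega) (by omega) (by omega) (by omega))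
  have d1t' : Perm.Disjoint h₁ t₂' := by
    rw [hh₁]
    exact cyc3_disj t₂' (t'_o 0 (by omega) (by omega) (by omega) (by omega))
      (t'_o m (by omega) (by omega) (by omega) (by omega))
      (t'_o 1 (by omega) (by omega) (by omega) (by omega))
  have d2t' : Perm.Disjoint h₂ t₂' := by
    rw [hh₂]
    exact cyc3_disj t₂' (t'_o (2 * m) (by omega) (by omega) (by omega) (by omega))
      (t'_o (2 * m + 1) (by omega) (by omega) (by omega) (by omega))
      (t'_o (m + 1) (by omega) (by omega) (by omega) (by omega))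
  have d1ρ : Perm.Disjoint h₁ ρ := by rw [hh₁]; exact cyc3_disj ρ hρ0 hρm hρ1
  have d2ρ : Perm.Disjoint h₂ ρ := by rw [hh₂]; exact cyc3_disj ρ hρ2m hρ2m1 hρm1
  have dtρ : Perm.Disjoint t₂ ρ := by rw [ht₂]; exact cyc3_disj ρ hρ3 hρ4 hρ6
  have dt'ρ : Perm.Disjoint t₂' ρ := by rw [ht₂']; exact cyc3_disj ρ hρ3 hρ6 hρ4
  have typeA : (h₁ * h₂ * t₂ * ρ).cycleType = 3 ::ₘ 3 ::ₘ 3 ::ₘ μ' := by
    rw [((d1ρ.mul_left d2ρ).mul_left dtρ).cycleType_mul, (d1t.mul_left d2t).cycleType_mul,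
      d12.cycleType_mul, ty1, ty2, tyt, hρtype, add_assoc, add_assoc, Multiset.singleton_add,
      Multiset.singleton_add, Multiset.singleton_add]
  have typeB : (h₁ * h₂ * t₂' * ρ).cycleType = 3 ::ₘ 3 ::ₘ 3 ::ₘ μ' := by
    rw [((d1ρ.mul_left d2ρ).mul_left dt'ρ).cycleType_mul, (d1t'.mul_left d2t').cycleType_mul,
      d12.cycleType_mul, ty1, ty2, tyt', hρtype, add_assoc, add_assoc, Multiset.singleton_add,
      Multiset.singleton_add, Multiset.singleton_add]
  -- restriction to the six points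
  have htι : ∀ b, t₂ (ι b) = ι b ∧ t₂' (ι b) = ι b := by
    refine fin6_all ?_ ?_ ?_ ?_ ?_ ?_
    · rw [hι0]
      exact ⟨t_o 0 (by omega) (by omega) (by omega) (by omega),
        t'_o 0 (by omega) (by omega) (by omega) (by omega)⟩
    · rw [hι1]
      exact ⟨t_o m (by omega) (by omega) (by omega) (by omega),
        t'_o m (by omega) (by omega) (by omega) (by omega)⟩
    · rw [hι2]
      exact ⟨t_o (2 * m) (by omega) (by omega) (by omega) (by omega),
        t'_o (2 * m) (by omega) (by omega) (by omega) (by omega)⟩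
    · rw [hι3]
      exact ⟨t_o 1 (by omega) (by omega) (by omega) (by omega),
        t'_o 1 (by omega) (by omega) (by omega) (by omega)⟩
    · rw [hι4]
      exact ⟨t_o (m + 1) (by omega) (by omega) (by omega) (by omega),
        t'_o (m + 1) (by omega) (by omega) (by omega) (by omega)⟩
    · rw [hι5]
      exact ⟨t_o (2 * m + 1) (by omega) (by omega) (by omega) (by omega),
        t'_o (2 * m + 1) (by omega) (by omega) (by omega) (by omega)⟩
  have hh : ∀ b, h₁ (h₂ (ι b))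
      = ι ((swap 1 3 * swap 3 0 * (swap 2 5 * swap 5 4) : Perm (Fin 6)) b) := by
    have e0 : (swap 1 3 * swap 3 0 * (swap 2 5 * swap 5 4) : Perm (Fin 6)) 0 = 1 := by decide
    have e1 : (swap 1 3 * swap 3 0 * (swap 2 5 * swap 5 4) : Perm (Fin 6)) 1 = 3 := by decide
    have e2 : (swap 1 3 * swap 3 0 * (swap 2 5 * swap 5 4) : Perm (Fin 6)) 2 = 5 := by decide
    have e3 : (swap 1 3 * swap 3 0 * (swap 2 5 * swap 5 4) : Perm (Fin 6)) 3 = 0 := by decide
    have e4 : (swap 1 3 * swap 3 0 * (swap 2 5 * swap 5 4) : Perm (Fin 6)) 4 = 2 := by decide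
    have e5 : (swap 1 3 * swap 3 0 * (swap 2 5 * swap 5 4) : Perm (Fin 6)) 5 = 4 := by decide
    refine fin6_all ?_ ?_ ?_ ?_ ?_ ?_
    · rw [e0, hι0, hι1, h2_o 0 (by omega) (by omega) (by omega) (by omega), h1_0]
    · rw [e1, hι1, hι3, h2_o m (by omega) (by omega) (by omega) (by omega), h1_m]
    · rw [e2, hι2, hι5, h2_a, h1_o (2 * m + 1) (by omega) (by omega) (by omega) (by omega)]
    · rw [e3, hι3, hι0, h2_o 1 (by omega) (by omega) (by omega) (by omega), h1_1]
    · rw [e4, hι4, hι2, h2_c, h1_o (2 * m) (by omega) (by omega) (by omega) (by omega)]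
    · rw [e5, hι5, hι4, h2_b, h1_o (m + 1) (by omega) (by omega) (by omega) (by omega)]
  have resA : ∀ b, (h₁ * h₂ * t₂ * ρ) (ι b)
      = ι ((swap 1 3 * swap 3 0 * (swap 2 5 * swap 5 4) : Perm (Fin 6)) b) := by
    intro b
    show h₁ (h₂ (t₂ (ρ (ι b)))) = _
    rw [hρι, (htι b).1]
    exact hh b
  have resB : ∀ b, (h₁ * h₂ * t₂' * ρ) (ι b)
      = ι ((swap 1 3 * swap 3 0 * (swap 2 5 * swap 5 4) : Perm (Fin 6)) b) := by
    intro b
    show h₁ (h₂ (t₂' (ρ (ι b)))) = _
    rw [hρι, (htι b).2]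
    exact hh b
  -- non-solvability
  have nsA : ¬ Group.IsSolvable ↥(Subgroup.closure ({c, h₁ * h₂ * t₂ * ρ} : Set (Perm β))) :=
    hRNS ι hιinj PEStmt.f6 (swap 1 3 * swap 3 0 * (swap 2 5 * swap 5 4)) (c ^ m)
      (h₁ * h₂ * t₂ * ρ) hcm resA hnsb _
      (Subgroup.pow_mem _ (Subgroup.subset_closure (by simp)) m)
      (Subgroup.subset_closure (by simp))
  have nsB : ¬ Group.IsSolvable ↥(Subgroup.closure ({c, h₁ * h₂ * t₂' * ρ} : Set (Perm β))) :=
    hRNS ι hιinj PEStmt.f6 (swap 1 3 * swap 3 0 * (swap 2 5 * swap 5 4)) (c ^ m)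
      (h₁ * h₂ * t₂' * ρ) hcm resB hnsb _
      (Subgroup.pow_mem _ (Subgroup.subset_closure (by simp)) m)
      (Subgroup.subset_closure (by simp))
  -- fixed points
  have hcard := card_fix_succ c (h₁ * h₂ * t₂ * ρ) (h₁ * h₂ * t₂' * ρ) (x 4)
    (by
      show c (h₁ (h₂ (t₂' (ρ (x 4))))) = x 4
      rw [hρ4, t'_4, hH3, hx_succ])
    (by
      show c (h₁ (h₂ (t₂ (ρ (x 4))))) ≠ x 4
      rw [hρ4, t_4, hH6, hx_succ]
      exact hne (by omega) (by omega) (by omega))
    (by
      intro y hy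
      show c (h₁ (h₂ (t₂ (ρ y)))) = y ↔ c (h₁ (h₂ (t₂' (ρ y)))) = y
      by_cases e3 : y = x 3
      · rw [e3, hρ3, t_3, t'_3, hH4, hH6, hx_succ, hx_succ]
        constructor
        · intro h; exact absurd h (hne (by omega) (by omega) (by omega))
        · intro h; exact absurd h (hne (by omega) (by omega) (by omega))
      by_cases e6 : y = x 6
      · rw [e6, hρ6, t_6, t'_6, hH3, hH4, hx_succ, hx_succ]
        constructor
        · intro h; exact absurd h (hne (by omega) (by omega) (by omega))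
        · intro h; exact absurd h (hne (by omega) (by omega) (by omega))
      have r3 : ρ y ≠ x 3 := fun e => e3 (ρ.injective (e.trans hρ3.symm))
      have r4 : ρ y ≠ x 4 := fun e => hy (ρ.injective (e.trans hρ4.symm))
      have r6 : ρ y ≠ x 6 := fun e => e6 (ρ.injective (e.trans hρ6.symm))
      have e1 : t₂ (ρ y) = ρ y := by rw [ht₂]; exact cyc3_o r3 r4 r6
      have e2 : t₂' (ρ y) = ρ y := by rw [ht₂']; exact cyc3_o r3 r6 r4
      rw [e1, e2])
  by_cases hA : ∃ k : ℕ, orderOf (c * (h₁ * h₂ * t₂ * ρ)) = 3 ^ k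
  · refine ⟨h₁ * h₂ * t₂' * ρ, typeB, ?_⟩
    exact And.intro (fun hB => not_both hFix c _ _ h3 hcard hA hB) nsB
  · exact ⟨h₁ * h₂ * t₂ * ρ, typeA, And.intro hA nsA⟩

end Cfsg.Agent.Lib.Helper98.PEK5F
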