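import Mathlib
import Cfsg.Prelude.Def_FusionSystem
import Cfsg.Agent.Lib.Helper85.PPStmt
import Cfsg.Agent.S5077

set_option autoImplicit false

/-! Piece SRC of S5113: receptivity in the system of `p`-power index over `T` (index `p`). -/

namespace Cfsg.Agent.Lib.Helper98.PPSRC

open Cfsg Cfsg.FusionSystem Cfsg.Agent.Lib.Helper85.PPStmt

universe u v

theorem restrict_mem' {Ω : Type u} [Group Ω] {S : Subgroup Ω} (F : FusionSystem S)
    {P R : Subgroup Ω} {φ : P →* Ω} (hφ : φ ∈ F.Hom P) (h : R ≤ P) :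
    φ.comp (Subgroup.inclusion h) ∈ F.Hom R := by
  have hRS : R ≤ S := h.trans (F.le_of_mem hφ).1
  have h1 : conjHom R (1 : Ω) ∈ F.Hom R := F.conj_mem hRS (one_mem S)
  have h0 : ∀ x : R, conjHom R (1 : Ω) x = x := by
    intro x
    simp [conjHom]
  have h2 : ∀ x : R, conjHom R (1 : Ω) x ∈ P := by
    intro x
    rw [h0 x]; exact h x.2
  have h3 := F.comp_mem h1 hφ h2
  have h4 : φ.comp ((conjHom R (1 : Ω)).codRestrict P h2) = φ.comp (Subgroup.inclusion h) := by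
    ext x
    show φ _ = φ _
    congr 1
    apply Subtype.ext
    show conjHom R (1 : Ω) x = x
    exact h0 x
  rw [← h4]; exact h3

theorem dec_mem {Ω : Type u} [Group Ω] {S : Subgroup Ω} (hSM : StarMem.{u})
    (F : FusionSystem S) (p : ℕ) {P : Subgroup Ω} {φ : P →* Ω} {s : S} (hdec : Dec F p φ s) :
    φ ∈ F.Hom P := by
  obtain ⟨ψ, hψ, hs⟩ := hdec
  have hψF : ψ ∈ F.Hom P := hSM Ω S F p P ψ hψ
  have hr : ψ.range ≤ S := by
    rintro _ ⟨x, rfl⟩
    exact (F.le_of_mem hψF).2 x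
  have h1 : conjHom ψ.range (s : Ω) ∈ F.Hom ψ.range := F.conj_mem hr s.2
  have h2 : ∀ x : P, ψ x ∈ ψ.range := fun x => ⟨x, rfl⟩
  have h3 := F.comp_mem hψF h1 h2
  have h4 : (conjHom ψ.range (s : Ω)).comp (ψ.codRestrict ψ.range h2) = φ := by
    ext x
    rw [hs x]
    simp [conjHom]
  rw [← h4]; exact h3

theorem main (hKD : KeyDec.{u}) (hRD : RigidDeg.{u, v}) (hRC : RigidConj.{u, v})
    (hSM : StarMem.{u}) (hSR : StarRestrict.{u}) : SatRec.{u, v} := by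
  intro Ω _ S _ p _ hS F hF A _ δ T hDD hprime hrig E hE Q hQT hQfn
  refine ⟨hQT, ?_⟩
  intro P' φ hφE hφQ
  obtain ⟨hP'T, t, htT, hdec⟩ := (hE P' φ).mp hφE
  have hP'S : P' ≤ S := hP'T.trans hDD.le
  have hφF : φ ∈ F.Hom P' := dec_mem hSM F p hdec
  have hsat := (Cfsg.Agent.S5077.result p hS F).mp hF
  have hQrec : F.IsReceptive Q := hsat.2 Q (hsat.1 Q hQfn).1
  obtain ⟨φbar, hφbar, hext⟩ := hQrec.2 P' φ hφF hφQ
  have hNN : extender T P' φ ≤ extender S P' φ := by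
    apply Subgroup.closure_mono
    rintro g ⟨hgT, hgN, h, hhT, hh⟩
    exact ⟨hDD.le hgT, hgN, h, hDD.le hhT, hh⟩
  have hNT : extender T P' φ ≤ T := by
    apply (Subgroup.closure_le _).mpr
    rintro g ⟨hgT, -⟩
    exact hgT
  have hP'N : P' ≤ extender T P' φ := by
    intro x hx
    apply Subgroup.subset_closure
    refine ⟨hP'T hx, Subgroup.le_normalizer hx, φ ⟨x, hx⟩, (E.le_of_mem hφE).2 ⟨x, hx⟩, ?_⟩
    intro y hy
    have e1 : (⟨x * (y : Ω) * x⁻¹, hy⟩ : P') = ⟨x, hx⟩ * y * ⟨x, hx⟩⁻¹ := Subtype.ext rfl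
    rw [e1, map_mul, map_mul, map_inv]
  have hres : φbar.comp (Subgroup.inclusion hNN) ∈ F.Hom (extender T P' φ) :=
    restrict_mem' F hφbar hNN
  obtain ⟨s, ψbar, hψbar, hs⟩ := hKD Ω S p hS F hF (extender T P' φ) _ hres
  have hagree : ∀ x : P',
      φbar (Subgroup.inclusion hNN (Subgroup.inclusion hP'N x)) = φ x := by
    intro x
    exact hext x x.2 (hNN (hP'N x.2))
  obtain ⟨w, hwQ, hws⟩ : ∃ w : S, (w : Ω) ∈ Subgroup.centralizer (Q : Set Ω) ∧
      δ (w * s) = 1 := by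
    by_cases hC : centralizerIn S Q ≤ T
    · have hQrig : Rigid F p δ Q := hrig Q hQfn hQT hC
      obtain ⟨ψinv, hψinv, hinv⟩ := F.inv_mem hφF
      have hP'rig : Rigid F p δ P' := by
        subst hφQ
        refine hRC Ω S p hS F hF A δ φ.range P' ψinv hψinv (fun y => ?_) (fun x => ?_) hQrig
        · obtain ⟨x, hx⟩ := y.2
          have hy : y = ⟨φ x, x, rfl⟩ := Subtype.ext hx.symm
          rw [hy, hinv x]; exact x.2
        · exact ⟨⟨φ x, x, rfl⟩, hinv x⟩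
      have hdec2 : Dec F p φ s := by
        refine ⟨ψbar.comp (Subgroup.inclusion hP'N),
          hSR Ω S F p (extender T P' φ) P' ψbar hP'N hψbar, fun x => ?_⟩
        rw [← hagree x]
        exact hs (Subgroup.inclusion hP'N x)
      have hδ : δ t = δ s := hRD Ω S p hS F hF A δ P' φ t s hP'rig hdec hdec2
      refine ⟨1, ?_, ?_⟩
      · rw [OneMemClass.coe_one]; exact one_mem _
      · rw [one_mul, ← hδ]
        exact (hDD.ker t).mpr htT
    · obtain ⟨v, hvC, hvT⟩ := SetLike.not_le_iff_exists.mp hC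
      have hvS : v ∈ S := hvC.1
      have hδv : δ ⟨v, hvS⟩ ≠ 1 := fun h => hvT ((hDD.ker ⟨v, hvS⟩).mp h)
      obtain ⟨k, hk⟩ := hprime ⟨v, hvS⟩ s hδv
      refine ⟨(⟨v, hvS⟩ : S)⁻¹ ^ k, ?_, ?_⟩
      · have e2 : (((⟨v, hvS⟩ : S)⁻¹ ^ k : S) : Ω) = v⁻¹ ^ k := by simp
        rw [e2]
        have hvC2 : v ∈ Subgroup.centralizer (Q : Set Ω) := hvC.2
        exact Subgroup.pow_mem _ (Subgroup.inv_mem _ hvC2) k
      · rw [map_mul, map_pow, map_inv, hk, inv_pow, inv_mul_cancel]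
  have hwsT : ((w * s : S) : Ω) ∈ T := (hDD.ker (w * s)).mp hws
  refine ⟨(MulAut.conj (w : Ω)).toMonoidHom.comp (φbar.comp (Subgroup.inclusion hNN)), ?_, ?_⟩
  · refine (hE (extender T P' φ) _).mpr ⟨hNT, w * s, hwsT, ψbar, hψbar, fun x => ?_⟩
    have h5 := hs x
    show (w : Ω) * (φbar.comp (Subgroup.inclusion hNN)) x * (w : Ω)⁻¹
      = ((w * s : S) : Ω) * ψbar x * ((w * s : S) : Ω)⁻¹
    rw [h5, Subgroup.coe_mul]
    group
  · intro x hP hN
    show (w : Ω) * φbar (Subgroup.inclusion hNN ⟨x, hN⟩) * (w : Ω)⁻¹ = φ ⟨x, hP⟩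
    have h6 : φbar (Subgroup.inclusion hNN ⟨x, hN⟩) = φ ⟨x, hP⟩ := hext x hP (hNN hN)
    rw [h6]
    have h7 : φ ⟨x, hP⟩ ∈ Q := by
      rw [← hφQ]; exact ⟨_, rfl⟩
    have h8 := (Subgroup.mem_centralizer_iff.mp hwQ) _ h7
    rw [← h8, mul_inv_cancel_right]

end Cfsg.Agent.Lib.Helper98.PPSRC
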