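import Mathlib
import Cfsg.Agent.Lib.Helper53.RUStmt

set_option autoImplicit false

/-!
# S2522 piece EA: a good vector `e` when `g` has a fixed vector
-/

namespace Cfsg.Agent.Lib.Helper98.RUEA

open Cfsg.Agent.Lib.Helper53.RUStmt

universe u v

theorem finrank_ker_dual {K : Type u} [Field K] {V : Type v} [AddCommGroup V] [Module K V]
    [Module.Finite K V] (ψ : Module.Dual K V) :
    Module.finrank K V ≤ Module.finrank K (LinearMap.ker ψ) + 1 := by
  have h1 := LinearMap.finrank_range_add_finrank_ker ψ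
  have h2 : Module.finrank K (LinearMap.range ψ) ≤ 1 := by
    have h3 := Submodule.finrank_le (LinearMap.range ψ)
    rwa [Module.finrank_self] at h3
  omega

theorem main : EAPiece.{u, v} := by
  intro hE hC K _ V _ _ _ hK hn g hg hker f ξ φ hξ hφ
  have hL := finrank_ker_dual (φ ∘ₗ (g - 1))
  have hrank := hg.2.2
  have hrn := LinearMap.finrank_range_add_finrank_ker (g - 1)
  have hw1 : ∃ x : V, φ ((g - 1) x) = 0 ∧ x ∉ LinearMap.ker (g - 1) := by
    by_contra hcon
    have hle : LinearMap.ker (φ ∘ₗ (g - 1)) ≤ LinearMap.ker (g - 1) := by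
      intro x hx
      by_contra hx'
      have hx2 : φ ((g - 1) x) = 0 := by
        have h3 := LinearMap.mem_ker.1 hx
        rwa [LinearMap.comp_apply] at h3
      exact hcon ⟨x, hx2, hx'⟩
    have h4 := Submodule.finrank_mono hle
    omega
  by_cases h2 : Module.finrank K (LinearMap.range (g - 1)) = 2
  · have hw2 : ∃ x : V, φ ((g - 1) x) = 0 ∧ x ∉ LinearMap.range (g - 1) := by
      by_cases hn3 : Module.finrank K V = 3
      · exact hC K V hn3 g hg.1 h2 φ (hφ.2.2.2.1 hker)
      · by_contra hcon
        have hle : LinearMap.ker (φ ∘ₗ (g - 1)) ≤ LinearMap.range (g - 1) := by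
          intro x hx
          by_contra hx'
          have hx2 : φ ((g - 1) x) = 0 := by
            have h3 := LinearMap.mem_ker.1 hx
            rwa [LinearMap.comp_apply] at h3
          exact hcon ⟨x, hx2, hx'⟩
        have h4 := Submodule.finrank_mono hle
        omega
    obtain ⟨e, he1, he2, he3, he4, he5⟩ :=
      hE K V hK g f ξ φ hξ hφ (LinearMap.ker (g - 1)) (LinearMap.range (g - 1)) hw1 hw2
    exact ⟨e, he1, he2, he3, fun h0 => he4 (LinearMap.mem_ker.2 h0), fun _ => he5,
      fun hk => absurd hk hker⟩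
  · obtain ⟨e, he1, he2, he3, he4, -⟩ :=
      hE K V hK g f ξ φ hξ hφ (LinearMap.ker (g - 1)) (LinearMap.ker (g - 1)) hw1 hw1
    exact ⟨e, he1, he2, he3, fun h0 => he4 (LinearMap.mem_ker.2 h0), fun h => absurd h h2,
      fun hk => absurd hk hker⟩

end Cfsg.Agent.Lib.Helper98.RUEA
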