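import Mathlib
import Cfsg.Agent.Lib.Helper53.RUStmt

set_option autoImplicit false

/-!
# S2522 piece EB: a good vector `e` when `g` has no fixed vector
-/

namespace Cfsg.Agent.Lib.Helper98.RUEB

open Cfsg.Agent.Lib.Helper53.RUStmt

universe u v

theorem finrank_ker_dual {K : Type u} [Field K] {V : Type v} [AddCommGroup V] [Module K V]
    [Module.Finite K V] (ψ : Module.Dual K V) :
    Module.finrank K V ≤ Module.finrank K (LinearMap.ker ψ) + 1 := by
  have h1 := LinearMap.finrank_range_add_finrank_ker ψ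
  have h2 : Module.finrank K (LinearMap.range ψ) ≤ 1 := by
    have h3 := Submodule.finrank_le (LinearMap.range ψ)
    rwa [Module.finrank_self] at h3
  omega

theorem main : EBPiece.{u, v} := by
  intro hE hC K _ V _ _ _ hK hn g hg hker f ξ φ hξ hφ
  have hL := finrank_ker_dual (φ ∘ₗ (g - 1))
  have hrn := LinearMap.finrank_range_add_finrank_ker (g - 1)
  have hk0 : Module.finrank K (LinearMap.ker (g - 1)) = 0 := by
    rw [hker]
    exact finrank_bot K V
  have hwbot : ∃ x : V, φ ((g - 1) x) = 0 ∧ x ∉ (⊥ : Submodule K V) := by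
    by_contra hcon
    have hle : LinearMap.ker (φ ∘ₗ (g - 1)) ≤ (⊥ : Submodule K V) := by
      intro x hx
      by_contra hx'
      have hx2 : φ ((g - 1) x) = 0 := by
        have h3 := LinearMap.mem_ker.1 hx
        rwa [LinearMap.comp_apply] at h3
      exact hcon ⟨x, hx2, hx'⟩
    have h4 := Submodule.finrank_mono hle
    rw [finrank_bot] at h4
    omega
  have hAe : ∀ e : V, e ∉ (⊥ : Submodule K V) → (g - 1) e ≠ 0 := by
    intro e he h0
    apply he
    rw [← hker]
    exact LinearMap.mem_ker.2 h0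
  by_cases hn3 : Module.finrank K V = 3
  · have hw1 : ∃ x : V, φ ((g - 1) x) = 0 ∧
        x ∉ Submodule.comap g (Submodule.map (g - 1) (LinearMap.ker φ)) := by
      obtain ⟨x, hx1, hx2⟩ := hC K V hn3 g hg.1 hker φ hφ.2.2.1
      refine ⟨x, hx1, ?_⟩
      intro hmem
      rw [Submodule.mem_comap, Submodule.mem_map] at hmem
      obtain ⟨w, hw, hwx⟩ := hmem
      exact hx2 w (LinearMap.mem_ker.1 hw) hwx.symm
    obtain ⟨e, he1, he2, he3, he4, he5⟩ :=
      hE K V hK g f ξ φ hξ hφ (Submodule.comap g (Submodule.map (g - 1) (LinearMap.ker φ))) ⊥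
        hw1 hwbot
    refine ⟨e, he1, he2, he3, hAe e he5, fun h2 => ?_, fun _ _ w hw hge => ?_⟩
    · exfalso
      omega
    · apply he4
      rw [Submodule.mem_comap, Submodule.mem_map]
      exact ⟨w, LinearMap.mem_ker.2 hw, hge.symm⟩
  · obtain ⟨e, he1, he2, he3, he4, -⟩ := hE K V hK g f ξ φ hξ hφ ⊥ ⊥ hwbot hwbot
    refine ⟨e, he1, he2, he3, hAe e he4, fun h2 => ?_, fun _ h3 => absurd h3 hn3⟩
    exfalso
    omega

end Cfsg.Agent.Lib.Helper98.RUEB
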