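import Mathlib
import Cfsg.Agent.Lib.Helper45.S8Stmt

/-!
S3589, piece U3P (second seat, helper98): in characteristic 2 the form `x₁y₁ + x₂y₂ + x₃y₃` has an
isometry of order 8.  Also the general tool `hasOrd_of_end`.
-/

set_option autoImplicit false

namespace Cfsg.Agent.Lib.Helper98.S8U3P

open Cfsg.Agent.Lib.Helper45

universe u

/-- an endomorphism of order 8 preserving `Q` gives an isometry of order 8 -/
theorem hasOrd_of_end {F : Type u} [Field F] {ι : Type} [Fintype ι] [DecidableEq ι]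
    (Q : (ι → F) → F) (T : Module.End F (ι → F)) (hQ : ∀ v, Q (T v) = Q v)
    (h4 : T ^ 4 ≠ 1) (h8 : T ^ 8 = 1) : S8Stmt.HasOrd Q 8 := by
  haveI : Fact (Nat.Prime 2) := ⟨Nat.prime_two⟩
  have hord : orderOf T = 8 := by
    have h := orderOf_eq_prime_pow (x := T) (p := 2) (n := 2) (by norm_num; exact h4)
      (by norm_num; exact h8)
    rw [h]; norm_num
  obtain ⟨uT, huT⟩ : ∃ uT : (Module.End F (ι → F))ˣ, (uT : Module.End F (ι → F)) = T :=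
    ⟨⟨T, T ^ 7, by rw [← pow_succ']; exact h8, by rw [← pow_succ]; exact h8⟩, rfl⟩
  have hordu : orderOf uT = 8 := by rw [← orderOf_units, huT]; exact hord
  have hg : Units.mapEquiv
      (LinearMap.toMatrixAlgEquiv' (R := F) (n := ι)).toRingEquiv.toMulEquiv uT
        ∈ Cfsg.isometryGroup F Q := by
    intro v w
    show Q (Matrix.mulVec (LinearMap.toMatrixAlgEquiv' (uT : Module.End F (ι → F))) v) = Q v
    rw [huT, ← Matrix.toLinAlgEquiv'_apply, Matrix.toLinAlgEquiv'_toMatrixAlgEquiv']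
    exact hQ v
  refine ⟨⟨_, hg⟩, ?_⟩
  rw [Subgroup.orderOf_mk, MulEquiv.orderOf_eq]
  exact hordu

section

variable {F : Type u} [Field F]

theorem ext6 {v w : Fin 3 ⊕ Fin 3 → F} (h0 : v (Sum.inl 0) = w (Sum.inl 0))
    (h1 : v (Sum.inl 1) = w (Sum.inl 1)) (h2 : v (Sum.inl 2) = w (Sum.inl 2))
    (h3 : v (Sum.inr 0) = w (Sum.inr 0)) (h4 : v (Sum.inr 1) = w (Sum.inr 1))
    (h5 : v (Sum.inr 2) = w (Sum.inr 2)) : v = w := by
  funext i
  rcases i with i | i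
  · fin_cases i
    · exact h0
    · exact h1
    · exact h2
  · fin_cases i
    · exact h3
    · exact h4
    · exact h5

/-- the isometry `g` -/
def Tf (v : Fin 3 ⊕ Fin 3 → F) : Fin 3 ⊕ Fin 3 → F :=
  Sum.elim ![v (Sum.inl 0) + v (Sum.inl 1) + v (Sum.inl 2), v (Sum.inl 1) + v (Sum.inl 2),
      v (Sum.inr 1) + v (Sum.inr 2)]
    ![v (Sum.inr 0), v (Sum.inr 0) + v (Sum.inr 1), v (Sum.inl 2)]

theorem t0 (v : Fin 3 ⊕ Fin 3 → F) :
    Tf v (Sum.inl 0) = v (Sum.inl 0) + v (Sum.inl 1) + v (Sum.inl 2) := rfl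
theorem t1 (v : Fin 3 ⊕ Fin 3 → F) : Tf v (Sum.inl 1) = v (Sum.inl 1) + v (Sum.inl 2) := rfl
theorem t2 (v : Fin 3 ⊕ Fin 3 → F) : Tf v (Sum.inl 2) = v (Sum.inr 1) + v (Sum.inr 2) := rfl
theorem t3 (v : Fin 3 ⊕ Fin 3 → F) : Tf v (Sum.inr 0) = v (Sum.inr 0) := rfl
theorem t4 (v : Fin 3 ⊕ Fin 3 → F) : Tf v (Sum.inr 1) = v (Sum.inr 0) + v (Sum.inr 1) := rfl
theorem t5 (v : Fin 3 ⊕ Fin 3 → F) : Tf v (Sum.inr 2) = v (Sum.inl 2) := rfl

/-- `g ^ 2` -/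
def Sf (v : Fin 3 ⊕ Fin 3 → F) : Fin 3 ⊕ Fin 3 → F :=
  Sum.elim ![v (Sum.inl 0) + v (Sum.inr 1) + v (Sum.inr 2),
      v (Sum.inl 1) + v (Sum.inl 2) + v (Sum.inr 1) + v (Sum.inr 2),
      v (Sum.inr 0) + v (Sum.inr 1) + v (Sum.inl 2)]
    ![v (Sum.inr 0), v (Sum.inr 1), v (Sum.inr 1) + v (Sum.inr 2)]

theorem s0 (v : Fin 3 ⊕ Fin 3 → F) :
    Sf v (Sum.inl 0) = v (Sum.inl 0) + v (Sum.inr 1) + v (Sum.inr 2) := rfl
theorem s1 (v : Fin 3 ⊕ Fin 3 → F) :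
    Sf v (Sum.inl 1) = v (Sum.inl 1) + v (Sum.inl 2) + v (Sum.inr 1) + v (Sum.inr 2) := rfl
theorem s2 (v : Fin 3 ⊕ Fin 3 → F) :
    Sf v (Sum.inl 2) = v (Sum.inr 0) + v (Sum.inr 1) + v (Sum.inl 2) := rfl
theorem s3 (v : Fin 3 ⊕ Fin 3 → F) : Sf v (Sum.inr 0) = v (Sum.inr 0) := rfl
theorem s4 (v : Fin 3 ⊕ Fin 3 → F) : Sf v (Sum.inr 1) = v (Sum.inr 1) := rfl
theorem s5 (v : Fin 3 ⊕ Fin 3 → F) : Sf v (Sum.inr 2) = v (Sum.inr 1) + v (Sum.inr 2) := rfl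

/-- `g ^ 4` -/
def Uf (v : Fin 3 ⊕ Fin 3 → F) : Fin 3 ⊕ Fin 3 → F :=
  Sum.elim ![v (Sum.inl 0) + v (Sum.inr 1), v (Sum.inl 1) + v (Sum.inr 0), v (Sum.inl 2)]
    ![v (Sum.inr 0), v (Sum.inr 1), v (Sum.inr 2)]

theorem u0 (v : Fin 3 ⊕ Fin 3 → F) : Uf v (Sum.inl 0) = v (Sum.inl 0) + v (Sum.inr 1) := rfl
theorem u1 (v : Fin 3 ⊕ Fin 3 → F) : Uf v (Sum.inl 1) = v (Sum.inl 1) + v (Sum.inr 0) := rfl
theorem u2 (v : Fin 3 ⊕ Fin 3 → F) : Uf v (Sum.inl 2) = v (Sum.inl 2) := rfl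
theorem u3 (v : Fin 3 ⊕ Fin 3 → F) : Uf v (Sum.inr 0) = v (Sum.inr 0) := rfl
theorem u4 (v : Fin 3 ⊕ Fin 3 → F) : Uf v (Sum.inr 1) = v (Sum.inr 1) := rfl
theorem u5 (v : Fin 3 ⊕ Fin 3 → F) : Uf v (Sum.inr 2) = v (Sum.inr 2) := rfl

/-- `g` as a linear map -/
def T : Module.End F (Fin 3 ⊕ Fin 3 → F) where
  toFun := Tf
  map_add' := by
    intro v w
    apply ext6 <;> simp only [Pi.add_apply, t0, t1, t2, t3, t4, t5] <;> ring
  map_smul' := by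
    intro c v
    apply ext6 <;>
      simp only [Pi.smul_apply, smul_eq_mul, RingHom.id_apply, t0, t1, t2, t3, t4, t5] <;> ring

theorem T_apply (v : Fin 3 ⊕ Fin 3 → F) : (T : Module.End F (Fin 3 ⊕ Fin 3 → F)) v = Tf v := rfl

theorem tt (h2F : (2 : F) = 0) (v : Fin 3 ⊕ Fin 3 → F) : Tf (Tf v) = Sf v := by
  apply ext6
  · simp only [t0, t1, t2, t3, t4, t5, s0]
    try linear_combination (v (Sum.inl 1) + v (Sum.inl 2)) * h2F
  · simp only [t0, t1, t2, t3, t4, t5, s1]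
    try ring
  · simp only [t0, t1, t2, t3, t4, t5, s2]
    try ring
  · rfl
  · simp only [t0, t1, t2, t3, t4, t5, s4]
    try linear_combination (v (Sum.inr 0)) * h2F
  · rfl

theorem ss (h2F : (2 : F) = 0) (v : Fin 3 ⊕ Fin 3 → F) : Sf (Sf v) = Uf v := by
  apply ext6
  · simp only [s0, s1, s2, s3, s4, s5, u0]
    try linear_combination (v (Sum.inr 1) + v (Sum.inr 2)) * h2F
  · simp only [s0, s1, s2, s3, s4, s5, u1]
    try linear_combination (v (Sum.inl 2) + 2 * v (Sum.inr 1) + v (Sum.inr 2)) * h2F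
  · simp only [s0, s1, s2, s3, s4, s5, u2]
    try linear_combination (v (Sum.inr 0) + v (Sum.inr 1)) * h2F
  · rfl
  · rfl
  · simp only [s0, s1, s2, s3, s4, s5, u5]
    try linear_combination (v (Sum.inr 1)) * h2F

theorem uu (h2F : (2 : F) = 0) (v : Fin 3 ⊕ Fin 3 → F) : Uf (Uf v) = v := by
  apply ext6
  · simp only [u0, u1, u2, u3, u4, u5]
    try linear_combination (v (Sum.inr 1)) * h2F
  · simp only [u0, u1, u2, u3, u4, u5]
    try linear_combination (v (Sum.inr 0)) * h2F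
  · rfl
  · rfl
  · rfl
  · rfl

end

theorem main : S8Stmt.U3P.{u} := by
  intro F _ _
  have h2F : (2 : F) = 0 := CharTwo.two_eq_zero
  apply hasOrd_of_end (Cfsg.quadFormPlus 3 F) (T : Module.End F (Fin 3 ⊕ Fin 3 → F))
  · intro v
    rw [T_apply]
    unfold Cfsg.quadFormPlus
    rw [Fin.sum_univ_three, Fin.sum_univ_three]
    simp only [t0, t1, t2, t3, t4, t5]
    linear_combination (v (Sum.inl 1) * v (Sum.inr 0) + v (Sum.inl 2) * v (Sum.inr 0)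
      + v (Sum.inl 2) * v (Sum.inr 1)) * h2F
  · intro h
    have h' := LinearMap.congr_fun h (Pi.single (Sum.inr 1) 1)
    rw [Module.End.pow_apply] at h'
    have h'' : Tf (Tf (Tf (Tf (Pi.single (Sum.inr 1) (1 : F))))) = Pi.single (Sum.inr 1) 1 := h'
    rw [tt h2F, tt h2F, ss h2F] at h''
    have h3 := congrFun h'' (Sum.inl 0)
    rw [u0] at h3
    simp at h3
  · apply LinearMap.ext
    intro v
    rw [Module.End.pow_apply]
    show Tf (Tf (Tf (Tf (Tf (Tf (Tf (Tf v))))))) = v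
    rw [tt h2F, tt h2F, tt h2F, tt h2F, ss h2F, ss h2F]
    exact uu h2F v

end Cfsg.Agent.Lib.Helper98.S8U3P
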