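import Mathlib
import Cfsg.Agent.Lib.Helper45.S8Stmt
import Cfsg.Agent.Lib.Helper98.S8U3P

/-!
S3589, piece U3M (second seat, helper98): in characteristic 2, `a ≠ 0`, the form
`x₁y₁ + x₂y₂ + z₁² + a z₁z₂ + b z₂²` has an isometry of order 8.
-/

set_option autoImplicit false

namespace Cfsg.Agent.Lib.Helper98.S8U3M

open Cfsg.Agent.Lib.Helper45

universe u

section

variable {F : Type u} [Field F]

theorem ext6 {v w : (Fin 2 ⊕ Fin 2) ⊕ Fin 2 → F}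
    (h0 : v (Sum.inl (Sum.inl 0)) = w (Sum.inl (Sum.inl 0)))
    (h1 : v (Sum.inl (Sum.inl 1)) = w (Sum.inl (Sum.inl 1)))
    (h2 : v (Sum.inl (Sum.inr 0)) = w (Sum.inl (Sum.inr 0)))
    (h3 : v (Sum.inl (Sum.inr 1)) = w (Sum.inl (Sum.inr 1)))
    (h4 : v (Sum.inr 0) = w (Sum.inr 0)) (h5 : v (Sum.inr 1) = w (Sum.inr 1)) : v = w := by
  funext i
  rcases i with (i | i) | i
  · fin_cases i
    · exact h0
    · exact h1
  · fin_cases i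
    · exact h2
    · exact h3
  · fin_cases i
    · exact h4
    · exact h5

/-- the isometry `g` -/
def Tf (a b : F) (v : (Fin 2 ⊕ Fin 2) ⊕ Fin 2 → F) : (Fin 2 ⊕ Fin 2) ⊕ Fin 2 → F :=
  Sum.elim (Sum.elim
    ![v (Sum.inl (Sum.inl 0)) + v (Sum.inl (Sum.inl 1)) + b * v (Sum.inl (Sum.inr 1))
        + a * v (Sum.inr 0) + a ^ 2 * v (Sum.inr 1),
      v (Sum.inl (Sum.inl 1)) + b * v (Sum.inl (Sum.inr 1)) + a * v (Sum.inr 0)
        + a ^ 2 * v (Sum.inr 1)]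
    ![v (Sum.inl (Sum.inr 0)), v (Sum.inl (Sum.inr 0)) + v (Sum.inl (Sum.inr 1))])
    ![v (Sum.inr 0) + a * v (Sum.inr 1), v (Sum.inl (Sum.inr 1)) + v (Sum.inr 1)]

theorem t0 (a b : F) (v : (Fin 2 ⊕ Fin 2) ⊕ Fin 2 → F) : Tf a b v (Sum.inl (Sum.inl 0))
    = v (Sum.inl (Sum.inl 0)) + v (Sum.inl (Sum.inl 1)) + b * v (Sum.inl (Sum.inr 1))
        + a * v (Sum.inr 0) + a ^ 2 * v (Sum.inr 1) := rfl
theorem t1 (a b : F) (v : (Fin 2 ⊕ Fin 2) ⊕ Fin 2 → F) : Tf a b v (Sum.inl (Sum.inl 1))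
    = v (Sum.inl (Sum.inl 1)) + b * v (Sum.inl (Sum.inr 1)) + a * v (Sum.inr 0)
        + a ^ 2 * v (Sum.inr 1) := rfl
theorem t2 (a b : F) (v : (Fin 2 ⊕ Fin 2) ⊕ Fin 2 → F) :
    Tf a b v (Sum.inl (Sum.inr 0)) = v (Sum.inl (Sum.inr 0)) := rfl
theorem t3 (a b : F) (v : (Fin 2 ⊕ Fin 2) ⊕ Fin 2 → F) : Tf a b v (Sum.inl (Sum.inr 1))
    = v (Sum.inl (Sum.inr 0)) + v (Sum.inl (Sum.inr 1)) := rfl
theorem t4 (a b : F) (v : (Fin 2 ⊕ Fin 2) ⊕ Fin 2 → F) :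
    Tf a b v (Sum.inr 0) = v (Sum.inr 0) + a * v (Sum.inr 1) := rfl
theorem t5 (a b : F) (v : (Fin 2 ⊕ Fin 2) ⊕ Fin 2 → F) :
    Tf a b v (Sum.inr 1) = v (Sum.inl (Sum.inr 1)) + v (Sum.inr 1) := rfl

/-- `g ^ 2` -/
def Sf (a b : F) (v : (Fin 2 ⊕ Fin 2) ⊕ Fin 2 → F) : (Fin 2 ⊕ Fin 2) ⊕ Fin 2 → F :=
  Sum.elim (Sum.elim
    ![v (Sum.inl (Sum.inl 0)) + b * v (Sum.inl (Sum.inr 0))
        + (b + a ^ 2) * v (Sum.inl (Sum.inr 1)) + a * v (Sum.inr 0),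
      v (Sum.inl (Sum.inl 1)) + b * v (Sum.inl (Sum.inr 0)) + a ^ 2 * v (Sum.inl (Sum.inr 1))
        + a ^ 2 * v (Sum.inr 1)]
    ![v (Sum.inl (Sum.inr 0)), v (Sum.inl (Sum.inr 1))])
    ![v (Sum.inr 0) + a * v (Sum.inl (Sum.inr 1)), v (Sum.inl (Sum.inr 0)) + v (Sum.inr 1)]

theorem s0 (a b : F) (v : (Fin 2 ⊕ Fin 2) ⊕ Fin 2 → F) : Sf a b v (Sum.inl (Sum.inl 0))
    = v (Sum.inl (Sum.inl 0)) + b * v (Sum.inl (Sum.inr 0))
        + (b + a ^ 2) * v (Sum.inl (Sum.inr 1)) + a * v (Sum.inr 0) := rfl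
theorem s1 (a b : F) (v : (Fin 2 ⊕ Fin 2) ⊕ Fin 2 → F) : Sf a b v (Sum.inl (Sum.inl 1))
    = v (Sum.inl (Sum.inl 1)) + b * v (Sum.inl (Sum.inr 0)) + a ^ 2 * v (Sum.inl (Sum.inr 1))
        + a ^ 2 * v (Sum.inr 1) := rfl
theorem s2 (a b : F) (v : (Fin 2 ⊕ Fin 2) ⊕ Fin 2 → F) :
    Sf a b v (Sum.inl (Sum.inr 0)) = v (Sum.inl (Sum.inr 0)) := rfl
theorem s3 (a b : F) (v : (Fin 2 ⊕ Fin 2) ⊕ Fin 2 → F) :
    Sf a b v (Sum.inl (Sum.inr 1)) = v (Sum.inl (Sum.inr 1)) := rfl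
theorem s4 (a b : F) (v : (Fin 2 ⊕ Fin 2) ⊕ Fin 2 → F) :
    Sf a b v (Sum.inr 0) = v (Sum.inr 0) + a * v (Sum.inl (Sum.inr 1)) := rfl
theorem s5 (a b : F) (v : (Fin 2 ⊕ Fin 2) ⊕ Fin 2 → F) :
    Sf a b v (Sum.inr 1) = v (Sum.inl (Sum.inr 0)) + v (Sum.inr 1) := rfl

/-- `g ^ 4` -/
def Uf (a : F) (v : (Fin 2 ⊕ Fin 2) ⊕ Fin 2 → F) : (Fin 2 ⊕ Fin 2) ⊕ Fin 2 → F :=
  Sum.elim (Sum.elim
    ![v (Sum.inl (Sum.inl 0)) + a ^ 2 * v (Sum.inl (Sum.inr 1)),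
      v (Sum.inl (Sum.inl 1)) + a ^ 2 * v (Sum.inl (Sum.inr 0))]
    ![v (Sum.inl (Sum.inr 0)), v (Sum.inl (Sum.inr 1))])
    ![v (Sum.inr 0), v (Sum.inr 1)]

theorem u0 (a : F) (v : (Fin 2 ⊕ Fin 2) ⊕ Fin 2 → F) : Uf a v (Sum.inl (Sum.inl 0))
    = v (Sum.inl (Sum.inl 0)) + a ^ 2 * v (Sum.inl (Sum.inr 1)) := rfl
theorem u1 (a : F) (v : (Fin 2 ⊕ Fin 2) ⊕ Fin 2 → F) : Uf a v (Sum.inl (Sum.inl 1))
    = v (Sum.inl (Sum.inl 1)) + a ^ 2 * v (Sum.inl (Sum.inr 0)) := rfl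
theorem u2 (a : F) (v : (Fin 2 ⊕ Fin 2) ⊕ Fin 2 → F) :
    Uf a v (Sum.inl (Sum.inr 0)) = v (Sum.inl (Sum.inr 0)) := rfl
theorem u3 (a : F) (v : (Fin 2 ⊕ Fin 2) ⊕ Fin 2 → F) :
    Uf a v (Sum.inl (Sum.inr 1)) = v (Sum.inl (Sum.inr 1)) := rfl
theorem u4 (a : F) (v : (Fin 2 ⊕ Fin 2) ⊕ Fin 2 → F) : Uf a v (Sum.inr 0) = v (Sum.inr 0) := rfl
theorem u5 (a : F) (v : (Fin 2 ⊕ Fin 2) ⊕ Fin 2 → F) : Uf a v (Sum.inr 1) = v (Sum.inr 1) := rfl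

/-- `g` as a linear map -/
def T (a b : F) : Module.End F ((Fin 2 ⊕ Fin 2) ⊕ Fin 2 → F) where
  toFun := Tf a b
  map_add' := by
    intro v w
    apply ext6 <;> simp only [Pi.add_apply, t0, t1, t2, t3, t4, t5] <;> ring
  map_smul' := by
    intro c v
    apply ext6 <;>
      simp only [Pi.smul_apply, smul_eq_mul, RingHom.id_apply, t0, t1, t2, t3, t4, t5] <;> ring

theorem T_apply (a b : F) (v : (Fin 2 ⊕ Fin 2) ⊕ Fin 2 → F) : T a b v = Tf a b v := rfl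

theorem tt (a b : F) (h2F : (2 : F) = 0) (v : (Fin 2 ⊕ Fin 2) ⊕ Fin 2 → F) :
    Tf a b (Tf a b v) = Sf a b v := by
  apply ext6
  · simp only [t0, t1, t2, t3, t4, t5, s0]
    try linear_combination (v (Sum.inl (Sum.inl 1)) + b * v (Sum.inl (Sum.inr 1))
      + a * v (Sum.inr 0) + 2 * a ^ 2 * v (Sum.inr 1)) * h2F
  · simp only [t0, t1, t2, t3, t4, t5, s1]
    try linear_combination (b * v (Sum.inl (Sum.inr 1)) + a * v (Sum.inr 0)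
      + a ^ 2 * v (Sum.inr 1)) * h2F
  · rfl
  · simp only [t0, t1, t2, t3, t4, t5, s3]
    try linear_combination (v (Sum.inl (Sum.inr 0))) * h2F
  · simp only [t0, t1, t2, t3, t4, t5, s4]
    try linear_combination (a * v (Sum.inr 1)) * h2F
  · simp only [t0, t1, t2, t3, t4, t5, s5]
    try linear_combination (v (Sum.inl (Sum.inr 1))) * h2F

theorem ss (a b : F) (h2F : (2 : F) = 0) (v : (Fin 2 ⊕ Fin 2) ⊕ Fin 2 → F) :
    Sf a b (Sf a b v) = Uf a v := by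
  apply ext6
  · simp only [s0, s1, s2, s3, s4, s5, u0]
    try linear_combination (b * v (Sum.inl (Sum.inr 0)) + (b + a ^ 2) * v (Sum.inl (Sum.inr 1))
      + a * v (Sum.inr 0)) * h2F
  · simp only [s0, s1, s2, s3, s4, s5, u1]
    try linear_combination (b * v (Sum.inl (Sum.inr 0)) + a ^ 2 * v (Sum.inl (Sum.inr 1))
      + a ^ 2 * v (Sum.inr 1)) * h2F
  · rfl
  · rfl
  · simp only [s0, s1, s2, s3, s4, s5, u4]
    try linear_combination (a * v (Sum.inl (Sum.inr 1))) * h2F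
  · simp only [s0, s1, s2, s3, s4, s5, u5]
    try linear_combination (v (Sum.inl (Sum.inr 0))) * h2F

theorem uu (a : F) (h2F : (2 : F) = 0) (v : (Fin 2 ⊕ Fin 2) ⊕ Fin 2 → F) :
    Uf a (Uf a v) = v := by
  apply ext6
  · simp only [u0, u1, u2, u3, u4, u5]
    try linear_combination (a ^ 2 * v (Sum.inl (Sum.inr 1))) * h2F
  · simp only [u0, u1, u2, u3, u4, u5]
    try linear_combination (a ^ 2 * v (Sum.inl (Sum.inr 0))) * h2F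
  · rfl
  · rfl
  · rfl
  · rfl

end

theorem main : S8Stmt.U3M.{u} := by
  intro F _ _ a b ha
  have h2F : (2 : F) = 0 := CharTwo.two_eq_zero
  apply S8U3P.hasOrd_of_end (Cfsg.quadFormMinus 2 F a b) (T a b)
  · intro v
    rw [T_apply]
    unfold Cfsg.quadFormMinus
    rw [Fin.sum_univ_two, Fin.sum_univ_two]
    simp only [t0, t1, t2, t3, t4, t5]
    linear_combination (v (Sum.inl (Sum.inl 1)) * v (Sum.inl (Sum.inr 0))
      + b * v (Sum.inl (Sum.inr 0)) * v (Sum.inl (Sum.inr 1))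
      + a * v (Sum.inr 0) * v (Sum.inl (Sum.inr 0))
      + a ^ 2 * v (Sum.inr 1) * v (Sum.inl (Sum.inr 0))
      + b * v (Sum.inl (Sum.inr 1)) ^ 2
      + a * v (Sum.inr 0) * v (Sum.inl (Sum.inr 1))
      + a ^ 2 * v (Sum.inr 1) * v (Sum.inl (Sum.inr 1))
      + a * v (Sum.inr 0) * v (Sum.inr 1)
      + a ^ 2 * v (Sum.inr 1) ^ 2
      + b * v (Sum.inl (Sum.inr 1)) * v (Sum.inr 1)) * h2F
  · intro h
    have h' := LinearMap.congr_fun h (Pi.single (Sum.inl (Sum.inr 1)) 1)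
    rw [Module.End.pow_apply] at h'
    have h'' : Tf a b (Tf a b (Tf a b (Tf a b (Pi.single (Sum.inl (Sum.inr 1)) (1 : F)))))
        = Pi.single (Sum.inl (Sum.inr 1)) 1 := h'
    rw [tt a b h2F, tt a b h2F, ss a b h2F] at h''
    have h3 := congrFun h'' (Sum.inl (Sum.inl 0))
    rw [u0] at h3
    simp at h3
    exact ha h3
  · apply LinearMap.ext
    intro v
    rw [Module.End.pow_apply]
    show Tf a b (Tf a b (Tf a b (Tf a b (Tf a b (Tf a b (Tf a b (Tf a b v))))))) = v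
    rw [tt a b h2F, tt a b h2F, tt a b h2F, tt a b h2F, ss a b h2F, ss a b h2F]
    exact uu a h2F v

end Cfsg.Agent.Lib.Helper98.S8U3M
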