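import Mathlib
import Cfsg.Agent.Lib.Helper56.TPStmt

set_option autoImplicit false

/-! S3557 piece [KNE] (helper98), plus the orbit-stabilizer tool `relIndex_stab`. -/

namespace Cfsg.Agent.Lib.Helper98.TPKNE

open Cfsg.Agent.Lib.Helper56.TPStmt

universe u v

/-- Orbit-stabilizer inside a subgroup: `[P : P_b] = |P b|`. -/
theorem relIndex_stab {G : Type u} {Ω : Type v} [Group G] [MulAction G Ω] (P : Subgroup G)
    (b : Ω) :
    (MulAction.stabilizer G b ⊓ P).relIndex P = Nat.card (MulAction.orbit (↥P) b) := by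
  have h1 : (MulAction.stabilizer G b ⊓ P).subgroupOf P = MulAction.stabilizer (↥P) b := by
    ext x
    rw [Subgroup.mem_subgroupOf, Subgroup.mem_inf, MulAction.mem_stabilizer_iff,
      MulAction.mem_stabilizer_iff]
    constructor
    · rintro ⟨h, -⟩
      exact h
    · intro h
      exact ⟨h, x.2⟩
  unfold Subgroup.relIndex
  rw [h1]
  exact (Nat.card_congr (MulAction.orbitEquivQuotientStabilizer (↥P) b)).symm

theorem main : KNe.{u, v} := by
  intro G Ω _ _ _ p _ P K L a hKL hLP hfix horb hidx hEq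
  have hp : p.Prime := Fact.out
  have hLK : L ≤ K := hEq.ge
  have hLT : L ≤ MulAction.stabilizer G a ⊓ P := by
    intro x hx
    exact ⟨MulAction.mem_stabilizer_iff.mpr (hfix x (hLK hx)), hLP hx⟩
  have h1 : L.relIndex (MulAction.stabilizer G a ⊓ P) *
      (MulAction.stabilizer G a ⊓ P).relIndex P = L.relIndex P :=
    Subgroup.relIndex_mul_relIndex (H := L) (K := MulAction.stabilizer G a ⊓ P) (L := P)
      hLT inf_le_right
  rw [relIndex_stab, horb] at h1
  have h2 : p ^ 2 ∣ p := (Dvd.intro_left _ h1).trans hidx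
  have h3 : p ^ 2 ≤ p := Nat.le_of_dvd hp.pos h2
  have h4 : 2 ≤ p := hp.two_le
  have h5 : p * 2 ≤ p * p := Nat.mul_le_mul_left p h4
  nlinarith [h3, h4, h5]

end Cfsg.Agent.Lib.Helper98.TPKNE
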