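import Mathlib
import Cfsg.Agent.Lib.Helper56.TPStmt
import Cfsg.Agent.Lib.Helper98.TPKNE

set_option autoImplicit false

/-! S3557 piece [LIDX] (helper98). -/

namespace Cfsg.Agent.Lib.Helper98.TPLIDX

open Cfsg.Agent.Lib.Helper56.TPStmt

universe u v

theorem main : LIdx.{u, v} := by
  intro G Ω _ _ _ p _ P K hKP b horb hz
  obtain ⟨z, hzK, hzb⟩ := hz
  have hp : p.Prime := Fact.out
  obtain ⟨T, hT⟩ : ∃ T : Subgroup G, T = MulAction.stabilizer G b ⊓ P := ⟨_, rfl⟩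
  rw [← hT]
  have hTP : T ≤ P := by rw [hT]; exact inf_le_right
  have hLP : T ⊔ K ≤ P := sup_le hTP hKP
  have h1 : T.relIndex (T ⊔ K) * (T ⊔ K).relIndex P = T.relIndex P :=
    Subgroup.relIndex_mul_relIndex (H := T) (K := T ⊔ K) (L := P) le_sup_left hLP
  have h2 : T.relIndex P = p ^ 2 := by
    rw [hT, Cfsg.Agent.Lib.Helper98.TPKNE.relIndex_stab, horb]
  rw [h2] at h1
  have hx1 : T.relIndex (T ⊔ K) ≠ 1 := by
    intro h
    have hle : T ⊔ K ≤ T := Subgroup.relIndex_eq_one.mp h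
    have hzT : z ∈ T := hle ((le_sup_right : K ≤ T ⊔ K) hzK)
    rw [hT] at hzT
    exact hzb (MulAction.mem_stabilizer_iff.mp hzT.1)
  obtain ⟨m, hm, hxm⟩ := (Nat.dvd_prime_pow hp).mp (Dvd.intro _ h1)
  obtain ⟨j, hj, hyj⟩ := (Nat.dvd_prime_pow hp).mp (Dvd.intro_left _ h1)
  have hm0 : m ≠ 0 := by
    intro h
    rw [h, pow_zero] at hxm
    exact hx1 hxm
  rw [hxm, hyj, ← pow_add] at h1
  have hmj : m + j = 2 := Nat.pow_right_injective hp.two_le h1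
  rw [hyj]
  have hj1 : j ≤ 1 := by omega
  calc p ^ j ∣ p ^ 1 := pow_dvd_pow p hj1
    _ = p := pow_one p

end Cfsg.Agent.Lib.Helper98.TPLIDX
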