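import Mathlib
import Cfsg.Agent.Lib.Helper56.TPStmt

set_option autoImplicit false

/-! S3557 piece [RELCENT] (helper98): in a finite `p`-group with normal subgroups `K < L`
there is `g ∈ L ∖ K` with `g ^ p ∈ K` and `[g, H] ⊆ K`. -/

namespace Cfsg.Agent.Lib.Helper98.TPRELCENT

open Cfsg.Agent.Lib.Helper56.TPStmt

universe u

theorem main : RelCent.{u} := by
  intro H _ _ p _ hH K L hK hL hKL
  haveI := hK
  haveI := hL
  have hp : p.Prime := Fact.out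
  obtain ⟨π, hπ⟩ : ∃ π : H →* H ⧸ K, π = QuotientGroup.mk' K := ⟨_, rfl⟩
  have hπs : Function.Surjective π := by rw [hπ]; exact QuotientGroup.mk'_surjective K
  have hπ1 : ∀ x : H, π x = 1 ↔ x ∈ K := by
    intro x
    rw [hπ]
    exact QuotientGroup.eq_one_iff x
  have hQ : IsPGroup p (H ⧸ K) := hH.to_quotient K
  obtain ⟨Lb, hLb⟩ : ∃ Lb : Subgroup (H ⧸ K), Lb = L.map π := ⟨_, rfl⟩
  haveI hLbn : Lb.Normal := by rw [hLb]; exact Subgroup.Normal.map hL π hπs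
  -- `Lb` is not trivial
  obtain ⟨x, hxL, hxK⟩ := SetLike.exists_of_lt hKL
  have hxb : π x ∈ Lb := by rw [hLb]; exact Subgroup.mem_map_of_mem π hxL
  have hx1 : π x ≠ 1 := fun h => hxK ((hπ1 x).mp h)
  have hpL : p ∣ Nat.card ↥Lb := by
    rcases (hQ.to_subgroup Lb).card_eq_or_dvd with h | h
    · exfalso
      have hbot : Lb = ⊥ := Subgroup.eq_bot_of_card_eq (H := Lb) h
      rw [hbot, Subgroup.mem_bot] at hxb
      exact hx1 hxb
    · exact h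
  have h1fix : (1 : ↥Lb) ∈ MulAction.fixedPoints (ConjAct (H ⧸ K)) ↥Lb := fun g => smul_one g
  obtain ⟨b, hb, hb1⟩ :=
    (hQ.of_equiv ConjAct.toConjAct).exists_fixed_point_of_prime_dvd_card_of_fixed_point
      (↥Lb) hpL h1fix
  obtain ⟨c, hc⟩ : ∃ c : H ⧸ K, c = (b : H ⧸ K) := ⟨_, rfl⟩
  have hc1 : c ≠ 1 := by
    intro h
    rw [hc] at h
    exact hb1 (Subtype.ext h.symm)
  have hcen : ∀ q : H ⧸ K, q * c * q⁻¹ = c := by
    intro q
    rw [hc]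
    exact congrArg Subtype.val (hb (ConjAct.toConjAct q))
  have hcL : c ∈ Lb := by rw [hc]; exact b.2
  have hex : ∃ k, c ^ p ^ k = 1 := hQ c
  obtain ⟨k, hk, hmin⟩ : ∃ k, c ^ p ^ k = 1 ∧ ∀ j < k, c ^ p ^ j ≠ 1 := by
    classical
    exact ⟨Nat.find hex, Nat.find_spec hex, fun j hj => Nat.find_min hex hj⟩
  have hk0 : k ≠ 0 := by
    intro h
    rw [h, pow_zero, pow_one] at hk
    exact hc1 hk
  obtain ⟨j, rfl⟩ := Nat.exists_eq_succ_of_ne_zero hk0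
  obtain ⟨d, hd⟩ : ∃ d : H ⧸ K, d = c ^ p ^ j := ⟨_, rfl⟩
  have hd1 : d ≠ 1 := by rw [hd]; exact hmin j (Nat.lt_succ_self j)
  have hdp : d ^ p = 1 := by
    rw [hd, ← pow_mul, ← pow_succ]
    exact hk
  have hdL : d ∈ L.map π := by rw [hd, ← hLb]; exact Lb.pow_mem hcL _
  have hdcen : ∀ q : H ⧸ K, q * d * q⁻¹ = d := by
    intro q
    rw [hd, ← conj_pow, hcen q]
  obtain ⟨g, hgL, hg⟩ := Subgroup.mem_map.mp hdL
  refine ⟨g, hgL, ?_, ?_, ?_⟩
  · intro hgK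
    apply hd1
    rw [← hg]
    exact (hπ1 g).mpr hgK
  · apply (hπ1 (g ^ p)).mp
    rw [map_pow, hg]
    exact hdp
  · intro h
    apply (hπ1 _).mp
    rw [map_mul, map_mul, map_mul, map_inv, map_inv, hg]
    have h2 := hdcen (π h)
    calc d * π h * d⁻¹ * (π h)⁻¹ = d * (π h * d * (π h)⁻¹)⁻¹ := by group
      _ = d * d⁻¹ := by rw [h2]
      _ = 1 := mul_inv_cancel _

end Cfsg.Agent.Lib.Helper98.TPRELCENT
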