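import Mathlib

/-!
Imprimitive wreath products in the symmetric group: the stabilizer `W f` of the partition of `Ω`
into the fibres of `f : Ω → Fin b`, its transitivity properties, and its maximality.
-/

set_option autoImplicit false

namespace Cfsg.Agent.Lib.Helper98.Wreath

open scoped Pointwise
open MulAction

variable {Ω : Type*} {b : ℕ}

/-- the stabilizer of the partition of `Ω` into the fibres of `f` -/
def W (f : Ω → Fin b) : Subgroup (Equiv.Perm Ω) where
  carrier := {g | ∀ x y, f x = f y ↔ f (g x) = f (g y)}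
  mul_mem' := fun {g h} hg hh x y => (hh x y).trans (hg (h x) (h y))
  one_mem' := fun _ _ => Iff.rfl
  inv_mem' := fun {g} hg x y => by
    have h := hg (g⁻¹ x) (g⁻¹ y)
    simpa using h.symm

lemma mem_W {f : Ω → Fin b} {g : Equiv.Perm Ω} :
    g ∈ W f ↔ ∀ x y, f x = f y ↔ f (g x) = f (g y) := Iff.rfl

lemma closure_eq_W (f : Ω → Fin b) :
    Subgroup.closure {g : Equiv.Perm Ω | ∀ x y, f x = f y ↔ f (g x) = f (g y)} = W f :=
  Subgroup.closure_eq (W f)

lemma swap_mem_W [DecidableEq Ω] {f : Ω → Fin b} {x y : Ω} (h : f x = f y) :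
    Equiv.swap x y ∈ W f := by
  have key : ∀ w, f (Equiv.swap x y w) = f w := by
    intro w
    by_cases hx : w = x
    · subst hx; simp [h]
    by_cases hy : w = y
    · subst hy; simp [h]
    rw [Equiv.swap_apply_of_ne_of_ne hx hy]
  intro u v
  rw [key, key]

/-- lift of a permutation of the labels -/
noncomputable def lift (f : Ω → Fin b) (τ : Equiv.Perm (Fin b))
    (e : ∀ i, {x // f x = i} ≃ {x // f x = τ i}) : Equiv.Perm Ω :=
  (Equiv.sigmaFiberEquiv f).symm.trans ((Equiv.sigmaCongr τ e).trans (Equiv.sigmaFiberEquiv f))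

lemma f_lift (f : Ω → Fin b) (τ : Equiv.Perm (Fin b))
    (e : ∀ i, {x // f x = i} ≃ {x // f x = τ i}) (x : Ω) : f (lift f τ e x) = τ (f x) :=
  (e (f x) ⟨x, rfl⟩).2

lemma lift_mem_W (f : Ω → Fin b) (τ : Equiv.Perm (Fin b))
    (e : ∀ i, {x // f x = i} ≃ {x // f x = τ i}) : lift f τ e ∈ W f := by
  intro x y
  rw [f_lift f τ e x, f_lift f τ e y]
  exact τ.injective.eq_iff.symm

lemma exists_lift [Finite Ω] (f : Ω → Fin b) (a : ℕ)
    (hf : ∀ i : Fin b, Nat.card {x : Ω // f x = i} = a) (τ : Equiv.Perm (Fin b)) :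
    ∃ g ∈ W f, ∀ x, f (g x) = τ (f x) := by
  have he : ∀ i, Nonempty ({x // f x = i} ≃ {x // f x = τ i}) := fun i =>
    Finite.card_eq.mp ((hf i).trans (hf (τ i)).symm)
  exact ⟨lift f τ (fun i => (he i).some), lift_mem_W f τ _, f_lift f τ _⟩

variable [Finite Ω] [DecidableEq Ω]

/-- `W f` is transitive -/
lemma exists_mem_W_map (f : Ω → Fin b) (a : ℕ)
    (hf : ∀ i : Fin b, Nat.card {x : Ω // f x = i} = a) (x y : Ω) :
    ∃ h ∈ W f, h x = y := by
  obtain ⟨g, hg, hgf⟩ := exists_lift f a hf (Equiv.swap (f x) (f y))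
  refine ⟨Equiv.swap (g x) y * g, (W f).mul_mem (swap_mem_W ?_) hg, by simp⟩
  rw [hgf]; simp

/-- the stabilizer of `x` in `W f` is transitive on the complement of the fibre of `x` -/
lemma exists_mem_W_fix_map (f : Ω → Fin b) (a : ℕ)
    (hf : ∀ i : Fin b, Nat.card {x : Ω // f x = i} = a) {x y y' : Ω}
    (hy : f y ≠ f x) (hy' : f y' ≠ f x) :
    ∃ h ∈ W f, h x = x ∧ h y = y' := by
  obtain ⟨g, hg, hgf⟩ := exists_lift f a hf (Equiv.swap (f y) (f y'))
  have h1 : f (g x) = f x := by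
    rw [hgf, Equiv.swap_apply_of_ne_of_ne (Ne.symm hy) (Ne.symm hy')]
  have h2 : f (g y) = f y' := by rw [hgf]; simp
  refine ⟨Equiv.swap (g y) y' * (Equiv.swap (g x) x * g),
    (W f).mul_mem (swap_mem_W h2) ((W f).mul_mem (swap_mem_W h1) hg), ?_, ?_⟩
  · have hx1 : x ≠ g y := fun h => hy' (by rw [← h2, ← h])
    have hx2 : x ≠ y' := fun h => hy' (by rw [h])
    simp [Equiv.swap_apply_of_ne_of_ne hx1 hx2]
  · have hy1 : g y ≠ g x := fun h => hy (by rw [g.injective h])
    have hy2 : g y ≠ x := fun h => hy' (by rw [← h2, h])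
    simp [Equiv.swap_apply_of_ne_of_ne hy1 hy2]

/-- a subgroup properly containing `W f` is primitive -/
theorem isPreprimitive_of_W_lt (f : Ω → Fin b) (a : ℕ)
    (hf : ∀ i : Fin b, Nat.card {x : Ω // f x = i} = a) {X : Subgroup (Equiv.Perm Ω)}
    (hWX : W f < X) : IsPreprimitive X Ω := by
  have htrans : IsPretransitive X Ω := by
    refine ⟨fun x y => ?_⟩
    obtain ⟨h, hh, hxy⟩ := exists_mem_W_map f a hf x y
    exact ⟨⟨h, hWX.le hh⟩, hxy⟩
  refine { toIsPretransitive := htrans, isTrivialBlock_of_isBlock := ?_ }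
  intro B hB
  by_contra hBt
  have hBsub : ¬ B.Subsingleton := fun h => hBt (Or.inl h)
  have hBuniv : B ≠ Set.univ := fun h => hBt (Or.inr h)
  rw [Set.not_subsingleton_iff] at hBsub
  obtain ⟨x, hx, y, hy, hxy⟩ := hBsub
  -- general tool: an element of `X` fixing a point of `B` stabilizes `B`
  have hfix : ∀ (h : Equiv.Perm Ω), h ∈ X → ∀ p ∈ B, h p = p → ∀ q ∈ B, h q ∈ B := by
    intro h hh p hp hpp q hq
    have h1 : (⟨h, hh⟩ : X) • B = B :=
      hB.smul_eq_of_mem (g := (⟨h, hh⟩ : X)) hp (by show h p ∈ B; rw [hpp]; exact hp)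
    rw [← h1]
    exact ⟨q, hq, rfl⟩
  by_cases hcase : ∃ z ∈ B, f z ≠ f x
  · obtain ⟨z, hz, hzx⟩ := hcase
    apply hBuniv
    have helper : ∀ p ∈ B, ∀ q ∈ B, f q ≠ f p → ∀ q', f q' ≠ f p → q' ∈ B := by
      intro p hp q hq hqp q' hq'p
      obtain ⟨h, hh, h1, h2⟩ := exists_mem_W_fix_map f a hf hqp hq'p
      rw [← h2]
      exact hfix h (hWX.le hh) p hp h1 q hq
    rw [Set.eq_univ_iff_forall]
    intro w
    by_cases hw : f w = f x
    · exact helper z hz x hx (Ne.symm hzx) w (by rw [hw]; exact Ne.symm hzx)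
    · exact helper x hx z hz hzx w hw
  · have hBf : ∀ z ∈ B, f z = f x := fun z hz => not_not.mp (fun h => hcase ⟨z, hz, h⟩)
    have hfB : ∀ y', f y' = f x → y' ∈ B := by
      intro y' hy'
      by_cases h1 : y' = x
      · rw [h1]; exact hx
      by_cases h2 : y' = y
      · rw [h2]; exact hy
      have hs : Equiv.swap y y' ∈ W f := swap_mem_W ((hBf y hy).trans hy'.symm)
      have h3 := hfix _ (hWX.le hs) x hx
        (Equiv.swap_apply_of_ne_of_ne hxy (Ne.symm h1)) y hy
      simpa using h3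
    -- every element of `X` lies in `W f`
    have hstep : ∀ g ∈ X, ∀ u v, f u = f v → f (g u) = f (g v) := by
      intro g hg u v huv
      obtain ⟨w, hw, hwx⟩ := exists_mem_W_map f a hf x u
      obtain ⟨w₂, hw₂, hw₂x⟩ := exists_mem_W_map f a hf x (g u)
      have hv : w⁻¹ v ∈ B := by
        apply hfB
        have h1 := (mem_W.mp hw) (w⁻¹ v) x
        rw [h1, hwx]
        simp [huv]
      have hne : (((⟨g * w, X.mul_mem hg (hWX.le hw)⟩ : X) • B) ∩
          ((⟨w₂, hWX.le hw₂⟩ : X) • B)).Nonempty := by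
        refine ⟨g u, ⟨x, hx, ?_⟩, ⟨x, hx, hw₂x⟩⟩
        show (g * w) x = g u
        rw [Equiv.Perm.mul_apply, hwx]
      have heq := hB.smul_eq_smul_of_nonempty hne
      have hgv : g v ∈ (⟨w₂, hWX.le hw₂⟩ : X) • B := by
        rw [← heq]
        refine ⟨w⁻¹ v, hv, ?_⟩
        show (g * w) (w⁻¹ v) = g v
        simp
      obtain ⟨p, hp, hpv⟩ := hgv
      have hpv' : w₂ p = g v := hpv
      rw [← hpv', ← hw₂x]
      exact ((mem_W.mp hw₂) x p).mp (hBf p hp).symm
    apply hWX.not_ge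
    intro g hg
    rw [mem_W]
    intro u v
    refine ⟨hstep g hg u v, fun h => ?_⟩
    have h1 := hstep g⁻¹ (X.inv_mem hg) (g u) (g v) h
    simpa using h1

/-- the imprimitive wreath product is a maximal subgroup of the symmetric group -/
theorem isCoatom_W (f : Ω → Fin b) (a : ℕ) (ha : 2 ≤ a) (hb : 2 ≤ b)
    (hf : ∀ i : Fin b, Nat.card {x : Ω // f x = i} = a) : IsCoatom (W f) := by
  -- two points in the fibre of 0 and one point in the fibre of 1
  have h0 : 1 < Nat.card {x : Ω // f x = (⟨0, by omega⟩ : Fin b)} := by rw [hf]; omega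
  rw [Finite.one_lt_card_iff_nontrivial] at h0
  obtain ⟨⟨x, hx⟩, ⟨x', hx'⟩, hxx'⟩ := h0
  have hxx'' : x ≠ x' := fun h => hxx' (Subtype.ext h)
  have h1 : 0 < Nat.card {x : Ω // f x = (⟨1, by omega⟩ : Fin b)} := by rw [hf]; omega
  rw [Nat.card_pos_iff] at h1
  obtain ⟨⟨z, hz⟩⟩ := h1.1
  have hzx : f z ≠ f x := by
    rw [hz, hx]
    intro h
    have := congrArg Fin.val h
    simp at this
  constructor
  · intro htop
    have hs : Equiv.swap x z ∈ W f := htop ▸ Subgroup.mem_top _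
    have h2 := (mem_W.mp hs x x').mp (hx.trans hx'.symm)
    have hx'z : x' ≠ z := fun h => hzx (by rw [← h, hx', hx])
    rw [Equiv.swap_apply_left, Equiv.swap_apply_of_ne_of_ne (Ne.symm hxx'') hx'z] at h2
    exact hzx (h2.trans (hx'.trans hx.symm))
  · intro X hX
    have hprim := isPreprimitive_of_W_lt f a hf hX
    exact Equiv.Perm.subgroup_eq_top_of_isPreprimitive_of_isSwap_mem hprim (Equiv.swap x x')
      ⟨x, x', hxx'', rfl⟩ (hX.le (swap_mem_W (hx.trans hx'.symm)))

end Cfsg.Agent.Lib.Helper98.Wreath
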